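import Cfsg.Agent.GH.N2.Four

/-!
# GH-L2, `|Q| = 2`: [FOUR] in the form used by the endgame (helper344)
-/

set_option autoImplicit false

namespace Cfsg.Agent.GH.N2.Four

open Cfsg.Agent.GH.E (rr self_mem_rr le_rr mem_rr rr_mono)

variable {G : Type*} [Group G] {x : G} {E T : Subgroup G}

/-- an involution of `T` outside `E⟨x⟩` does not centralise `E` -/
theorem moves [Finite G] (B : Base x E) (Y : Syl x E T) {t0 : G} (ht : t0 ∈ T) (htt : t0 * t0 = 1)
    (hF : t0 ∉ rr x E) : ¬ ∀ e ∈ E, e * t0 = t0 * e := by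
  intro h
  exact hF (B.mem_of_elt ⟨1, by rw [pow_one, pow_two, htt]⟩ (Y.cx t0 ht) h)

/-- **[FOUR]**: `V T` is a Sylow 2-subgroup -/
theorem exists_sylow [Finite G] [IsSimpleGroup G] (hG : ¬ ∀ p q : G, p * q = q * p) (B : Base x E)
    (Y : Syl x E T) {t0 : G} (ht : t0 ∈ T) (htF : t0 ∉ rr x E) (htt : t0 * t0 = 1) {V : Subgroup G}
    (hcard : Nat.card V = 16) (hsq : ∀ u ∈ V, u * u = 1) (hEV : E ≤ V)
    (xV : ∀ u ∈ V, x * u * x⁻¹ ∈ V) (tV : ∀ u ∈ V, t0 * u * t0⁻¹ ∈ V)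
    (hcx : ∀ u ∈ V, x * u = u * x → u ∈ E) : ∃ R : Sylow 2 G, (R : Subgroup G) = V ⊔ T := by
  have hc := moves B Y ht htt htF
  obtain ⟨z, a, D⟩ := Swap.exists_dat B Y ht htt hc
  -- `T` normalises `V`
  have hFV : ∀ g ∈ rr x E, ∀ u ∈ V, g * u * g⁻¹ ∈ V := by
    intro g hg u hu
    rcases B.mem_rr.1 hg with h | h
    · exact V.mul_mem (V.mul_mem (hEV h) hu) (V.inv_mem (hEV h))
    · have h1 := xV _ (V.mul_mem (V.mul_mem (hEV h) hu) (V.inv_mem (hEV h)))
      have h2 : x * (x * g * u * (x * g)⁻¹) * x⁻¹ = (x * x) * (g * u * g⁻¹) * (x * x)⁻¹ := by group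
      rw [h2, B.hx] at h1
      simpa using h1
  have hTV : ∀ g ∈ T, ∀ u ∈ V, g * u * g⁻¹ ∈ V := by
    intro g hg u hu
    by_cases h : g ∈ rr x E
    · exact hFV g h u hu
    · have h1 := D.mul_mem D.t0T hg D.t0_notMem h
      have h2 := tV _ (hFV _ h1 u hu)
      have h3 : t0 * (t0 * g * u * (t0 * g)⁻¹) * t0⁻¹ = (t0 * t0) * (g * u * g⁻¹) * (t0 * t0)⁻¹ := by group
      rw [h3, htt] at h2
      simpa using h2
  have hVp : IsPGroup 2 V := IsPGroup.of_card (n := 4) (by rw [hcard]; norm_num)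
  have hVT : IsPGroup 2 (V ⊔ T : Subgroup G) := by
    have : Fact (Nat.Prime 2) := ⟨Nat.prime_two⟩
    refine hVp.to_sup_of_normal_left' Y.two ?_
    intro g hg
    rw [Subgroup.mem_normalizer_iff]
    intro u
    constructor
    · intro hu; exact hTV g hg u hu
    · intro hu
      have h1 := hTV g⁻¹ (T.inv_mem hg) _ hu
      have h2 : g⁻¹ * (g * u * g⁻¹) * g⁻¹⁻¹ = u := by group
      rwa [h2] at h1
  obtain ⟨S, hS⟩ := hVT.exists_le_sylow
  refine ⟨S, le_antisymm ?_ hS⟩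
  have hVS : V ≤ (S : Subgroup G) := le_sup_left.trans hS
  have hTS : T ≤ (S : Subgroup G) := le_sup_right.trans hS
  have h1 := sylow_eq (by
    intro K hK
    exact HolEight.Hol.comm_of_index_two hG K (Subgroup.normal_of_index_eq_two hK) hK) B Y ht htt hc
    hcard hsq hEV xV tV hcx S hVS (hTS Y.xT) (hTS ht)
  rw [← h1]
  refine sup_le (sup_le le_sup_left ?_) ?_
  · rw [Subgroup.zpowers_le]; exact Subgroup.mem_sup_right Y.xT
  · rw [Subgroup.zpowers_le]; exact Subgroup.mem_sup_right ht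

end Cfsg.Agent.GH.N2.Four
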