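import Cfsg.Agent.GH.N2.MainAux
import Cfsg.Agent.GH.N2.FourSyl

/-!
# GH-L2, `|Q| = 2`, Sylow 2-subgroups of `C(x)` of order at most 16: the main theorem

`G` simple, `x` an involution, `E` a four-group centralised by `x`, `T ≥ E⟨x⟩` a Sylow 2-subgroup of `C(x)`
normalising `E`; 2-subgroups of `C(x)` have order at most 16 and abelian ones have order at most 8;
`h ∈ C(x)` permutes `E#` cyclically.  Then the Sylow 2-subgroups of `G` are `E⟨x⟩`, or of type `PSp₄(3)`, or of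
type `G₂(3)`.
-/

set_option autoImplicit false
set_option linter.unusedSectionVars false

universe u

namespace Cfsg.Agent.GH.N2

open Cfsg.Agent.GH.E (rr)

variable {G : Type u} [Group G] {x h : G} {E T : Subgroup G}

/-- **Main theorem** for `|Q| = 2`, `|D| = 4` (and `T = 2 × D8`). -/
theorem main [Finite G] [IsSimpleGroup G] (hG : ¬ ∀ a b : G, a * b = b * a) (B : Base x E)
    (S : Syl x E T) (hx : h * x = x * h) (hE : ∀ e ∈ E, h * e * h⁻¹ ∈ E)
    (h3 : ∀ e ∈ E, e ≠ 1 → h * e * h⁻¹ ≠ e) :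
    ∃ R : Sylow 2 G, (R : Subgroup G) = rr x E ∨ Defs.TypeSp4 (R : Subgroup G) ∨
      Defs.TypeG2 (R : Subgroup G) :=
  main_of_four hG B S hx hE h3 (fun V _ A t ht htF ht2 =>
    Four.exists_sylow hG B S ht htF ht2 A.card A.sq A.le A.nx (A.nT t ht) A.cx)

/-- The same with the output `SType`. -/
theorem sType [Finite G] [IsSimpleGroup G] (hG : ¬ ∀ a b : G, a * b = b * a) (B : Base x E)
    (S : Syl x E T) (hx : h * x = x * h) (hE : ∀ e ∈ E, h * e * h⁻¹ ∈ E)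
    (h3 : ∀ e ∈ E, e ≠ 1 → h * e * h⁻¹ ≠ e) :
    ∃ R : Sylow 2 G, Defs.SType (R : Subgroup G) := by
  obtain ⟨R, h1 | h1 | h1⟩ := main hG B S hx hE h3
  · refine ⟨R, Or.inl ⟨⟨?_⟩⟩⟩
    rintro ⟨a, ha⟩ ⟨b, hb⟩
    rw [h1] at ha hb
    exact Subtype.ext (B.rr_comm_rr ha hb)
  · exact ⟨R, by unfold Defs.SType; tauto⟩
  · exact ⟨R, by unfold Defs.SType; tauto⟩

end Cfsg.Agent.GH.N2
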