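import Cfsg.Agent.GH.N2.Defs

/-!
# GH-L2, `|Q| = 2`, `|D| = 4`: basic facts on levels
-/

set_option autoImplicit false

namespace Cfsg.Agent.GH.N2

open Cfsg.Agent.GH.E (rr self_mem_rr le_rr rr_mono cj cj_mul cj_inv cj_one cj_zero cj_cj cj_injective
  cj_eq_one cj_succ cj_mem Expo pow_two_pow_succ pow_two_pow_succ' conj_pow')

variable {G : Type*} [Group G] {x h : G} {E U : Subgroup G} {k : ℕ}

/-- membership in `C_Q(x)`, `Q` a 2-group containing `E⟨x⟩` and centralising `E` -/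
theorem Base.mem_of_comm [Finite G] (B : Base x E) {Q : Subgroup G} (hQ : IsPGroup 2 Q)
    (hEQ : rr x E ≤ Q) (hE : ∀ q ∈ Q, ∀ e ∈ E, e * q = q * e) {q : G} (hq : q ∈ Q)
    (hc : x * q = q * x) : q ∈ rr x E := by
  have h1 : IsPGroup 2 (Q ⊓ Subgroup.centralizer {x} : Subgroup G) := hQ.to_le inf_le_left
  have h2 : ∀ c ∈ (Q ⊓ Subgroup.centralizer {x} : Subgroup G), x * c = c * x := fun c hc =>
    (Subgroup.mem_centralizer_singleton_iff.1 hc.2).symm
  have h3 := B.eq_rr h1 (le_inf hEQ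
    (fun g hg => Subgroup.mem_centralizer_singleton_iff.2 (B.rr_comm hg).symm)) h2
    (fun q hq e he => hE q hq.1 e he)
  rw [← h3]
  exact ⟨hq, Subgroup.mem_centralizer_singleton_iff.2 hc.symm⟩

/-- A 2-element of `C(x) ∩ C(E)` lies in `E⟨x⟩`. -/
theorem Base.mem_of_elt [Finite G] (B : Base x E) {q : G} (hq : ∃ n : ℕ, q ^ 2 ^ n = 1)
    (hc : x * q = q * x) (hE : ∀ e ∈ E, e * q = q * e) : q ∈ rr x E := by
  have : Fact (Nat.Prime 2) := ⟨Nat.prime_two⟩
  have hz : IsPGroup 2 (Subgroup.zpowers q) := by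
    obtain ⟨n, hn⟩ := hq
    rintro ⟨y, hy⟩
    obtain ⟨m, rfl⟩ := Subgroup.mem_zpowers_iff.1 hy
    refine ⟨n, Subtype.ext ?_⟩
    show (q ^ m) ^ 2 ^ n = 1
    rw [← zpow_natCast, ← zpow_mul, mul_comm, zpow_mul, zpow_natCast, hn, one_zpow]
  have hq' : ∀ f ∈ rr x E, q * f = f * q := by
    intro f hf
    rcases B.mem_rr.1 hf with h1 | h1
    · exact (hE f h1).symm
    · have h2 := hE _ h1
      calc q * f = q * (x * (x * f)) := by rw [B.xx_mul]
        _ = (q * x) * (x * f) := by group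
        _ = (x * q) * (x * f) := by rw [hc]
        _ = x * (q * (x * f)) := by group
        _ = x * ((x * f) * q) := by rw [h2]
        _ = f * q := by rw [mul_assoc x f q, B.xx_mul]
  have hcz : ∀ f ∈ rr x E, ∀ y ∈ Subgroup.zpowers q, y * f = f * y := by
    intro f hf y hy
    obtain ⟨m, rfl⟩ := Subgroup.mem_zpowers_iff.1 hy
    exact ((show Commute q f from hq' f hf).zpow_left m).eq
  have hP : IsPGroup 2 (rr x E ⊔ Subgroup.zpowers q : Subgroup G) := by
    apply B.rr_pgroup.to_sup_of_normal_left' hz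
    intro y hy
    rw [Subgroup.mem_normalizer_iff]
    intro f
    constructor
    · intro hf
      rw [hcz f hf y hy, mul_inv_cancel_right]; exact hf
    · intro hf
      have h1 := hcz _ hf y⁻¹ (Subgroup.inv_mem _ hy)
      have h2 : f = y⁻¹ * (y * f * y⁻¹) * y⁻¹⁻¹ := by group
      rw [h2, h1, mul_inv_cancel_right]
      exact hf
  have hcl : ∀ y ∈ (rr x E ⊔ Subgroup.zpowers q : Subgroup G), ∀ f ∈ rr x E, f * y = y * f := by
    intro y hy f hf
    have h1 : (rr x E ⊔ Subgroup.zpowers q : Subgroup G) ≤ Subgroup.centralizer {f} := by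
      apply sup_le
      · intro g hg
        exact Subgroup.mem_centralizer_singleton_iff.2 (B.rr_comm_rr hg hf)
      · intro g hg
        exact Subgroup.mem_centralizer_singleton_iff.2 (hcz f hf g hg)
    exact (Subgroup.mem_centralizer_singleton_iff.1 (h1 hy)).symm
  have h1 := B.eq_rr hP le_sup_left (fun y hy => hcl y hy x (self_mem_rr x E))
    (fun y hy e he => hcl y hy e (le_rr x E he))
  rw [← h1]
  exact Subgroup.mem_sup_right (Subgroup.mem_zpowers q)

theorem Base.sq_of_elt [Finite G] (B : Base x E) {q : G} (hq : ∃ n : ℕ, q ^ 2 ^ n = 1)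
    (hc : x * q = q * x) (hE : ∀ e ∈ E, e * q = q * e) : q * q = 1 :=
  B.rr_sq (B.mem_of_elt hq hc hE)

/-! ### Levels -/

/-- `x u x = u⁻¹`. -/
theorem Level.inv' (B : Base x E) (L : Level x E U h) {u : G} (hu : u ∈ U) : x * u * x = u⁻¹ := by
  have h1 := L.inv u hu
  rwa [B.inv_x] at h1

theorem Level.x_mul (B : Base x E) (L : Level x E U h) {u : G} (hu : u ∈ U) : x * u = u⁻¹ * x := by
  rw [← L.inv' B hu, mul_assoc, B.hx, mul_one]

theorem Level.mul_x (B : Base x E) (L : Level x E U h) {u : G} (hu : u ∈ U) : u * x = x * u⁻¹ := by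
  rw [L.x_mul B (U.inv_mem hu), inv_inv]

theorem Level.x_notMem (B : Base x E) (L : Level x E U h) : x ∉ U := fun hx =>
  B.hxE (L.omega x hx B.hx)

/-- every element `xu` is an involution -/
theorem Level.xu_sq (B : Base x E) (L : Level x E U h) {u : G} (hu : u ∈ U) : x * u * (x * u) = 1 := by
  rw [← mul_assoc, L.inv' B hu, inv_mul_cancel]

theorem Level.mul_pow (L : Level x E U h) {u v : G} (hu : u ∈ U) (hv : v ∈ U) (n : ℕ) :
    (u * v) ^ n = u ^ n * v ^ n :=
  (show Commute u v from L.comm u hu v hv).mul_pow n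

theorem Level.hU_pow (L : Level x E U h) (n : ℕ) {u : G} (hu : u ∈ U) : cj h n u ∈ U := cj_mem L.hU n hu

theorem Level.conj_E (B : Base x E) (L : Level x E U h) {g : G} (hg : ∀ u ∈ U, g * u * g⁻¹ ∈ U) {e : G}
    (he : e ∈ E) : g * e * g⁻¹ ∈ E := by
  apply L.omega _ (hg e (L.le he))
  calc g * e * g⁻¹ * (g * e * g⁻¹) = g * (e * e) * g⁻¹ := by group
    _ = 1 := by rw [B.sq e he]; group

theorem Level.hE (B : Base x E) (L : Level x E U h) {e : G} (he : e ∈ E) : h * e * h⁻¹ ∈ E :=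
  L.conj_E B L.hU he

theorem Level.cjE (B : Base x E) (L : Level x E U h) (n : ℕ) {e : G} (he : e ∈ E) : cj h n e ∈ E :=
  cj_mem (fun _ hu => L.hE B hu) n he

theorem Level.cj_x (L : Level x E U h) (n : ℕ) : cj h n x = x := by
  induction n with
  | zero => rw [cj_zero]
  | succ n ih => rw [cj_succ, ih, L.hx, mul_inv_cancel_right]

/-- in a four-group: the elements of `E` are `1, a, b, ab`. -/
theorem Base.mem_cases (B : Base x E) {a b : G} (ha : a ∈ E) (hb : b ∈ E) (ha1 : a ≠ 1) (hb1 : b ≠ 1)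
    (hab : a ≠ b) {e : G} (he : e ∈ E) : e = 1 ∨ e = a ∨ e = b ∨ e = a * b := by
  classical
  have hab1 : a * b ≠ 1 := fun hc => hab (by
    rw [mul_eq_one_iff_inv_eq, B.inv_eq ha] at hc; exact hc)
  have habm := E.mul_mem ha hb
  have hs : (({1, a, b, a * b} : Finset G) : Set G) = (E : Set G) := by
    apply Set.eq_of_subset_of_ncard_le _ _ (Nat.finite_of_card_ne_zero (by
      show Nat.card E ≠ 0
      rw [B.card]; norm_num))
    · intro y hy
      simp only [Finset.coe_insert, Finset.coe_singleton, Set.mem_insert_iff, Set.mem_singleton_iff] at hy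
      rcases hy with rfl | rfl | rfl | rfl
      · exact E.one_mem
      · exact ha
      · exact hb
      · exact habm
    · have h1 : (E : Set G).ncard = 4 := B.card
      rw [h1, Set.ncard_coe_finset]
      rw [Finset.card_insert_of_notMem, Finset.card_insert_of_notMem, Finset.card_insert_of_notMem,
        Finset.card_singleton]
      · simp only [Finset.mem_singleton]
        intro hc
        exact ha1 (right_eq_mul.1 hc)
      · simp only [Finset.mem_insert, Finset.mem_singleton, not_or]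
        exact ⟨hab, fun hc => hb1 (left_eq_mul.1 hc)⟩
      · simp only [Finset.mem_insert, Finset.mem_singleton, not_or]
        exact ⟨ha1.symm, hb1.symm, hab1.symm⟩
  have h2 : e ∈ (({1, a, b, a * b} : Finset G) : Set G) := by rw [hs]; exact he
  simpa using h2

/-- `h²e = e · he`. -/
theorem Level.cj_two (B : Base x E) (L : Level x E U h) {e : G} (he : e ∈ E) :
    cj h 2 e = e * cj h 1 e := by
  by_cases he1 : e = 1
  · rw [he1, cj_one, cj_one, mul_one]
  have m1 := L.cjE B 1 he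
  have m2 := L.cjE B 2 he
  have n1 : cj h 1 e ≠ 1 := fun hc => he1 (cj_eq_one h 1 hc)
  have n2 : cj h 2 e ≠ 1 := fun hc => he1 (cj_eq_one h 2 hc)
  have c1 : cj h 1 e ≠ e := by
    have := L.h3 e he he1
    rw [cj_succ, cj_zero]; exact this
  have c2 : cj h 2 e ≠ cj h 1 e := by
    have := L.h3 _ m1 n1
    rw [cj_succ h 1]; exact this
  have c3 : cj h 2 e ≠ e := by
    intro hc
    have h1 : e * cj h 1 e ∈ E := E.mul_mem he m1
    have h2 : e * cj h 1 e ≠ 1 := by
      intro hc2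
      rw [mul_eq_one_iff_inv_eq, B.inv_eq he] at hc2
      exact c1 hc2.symm
    apply L.h3 _ h1 h2
    have h4 : h * (e * cj h 1 e) * h⁻¹ = cj h 1 e * cj h 2 e := by
      rw [cj_succ h 1, cj_succ, cj_zero]; group
    rw [h4, hc]
    exact B.commE m1 he
  rcases B.mem_cases he m1 he1 n1 c1.symm m2 with h1 | h1 | h1 | h1
  · exact absurd h1 n2
  · exact absurd h1 c3
  · exact absurd h1 c2
  · exact h1

/-- `h³ = 1` on `E`. -/
theorem Level.cj_three (B : Base x E) (L : Level x E U h) {e : G} (he : e ∈ E) : cj h 3 e = e := by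
  have m1 := L.cjE B 1 he
  have h1 := L.cj_two B m1
  rw [cj_cj, cj_cj] at h1
  rw [show (3 : ℕ) = 2 + 1 by norm_num, h1, L.cj_two B he, B.commE he m1, ← mul_assoc, B.sq _ m1, one_mul]

/-- transitivity on `E#` -/
theorem Level.trans (B : Base x E) (L : Level x E U h) {a b : G} (ha : a ∈ E) (hb : b ∈ E) (ha1 : a ≠ 1)
    (hb1 : b ≠ 1) : ∃ n : ℕ, cj h n a = b := by
  have m1 := L.cjE B 1 ha
  have n1 : cj h 1 a ≠ 1 := fun hc => ha1 (cj_eq_one h 1 hc)
  have c1 : cj h 1 a ≠ a := by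
    have := L.h3 a ha ha1
    rw [cj_succ, cj_zero]; exact this
  rcases B.mem_cases ha m1 ha1 n1 c1.symm hb with h1 | h1 | h1 | h1
  · exact absurd h1 hb1
  · exact ⟨0, by rw [cj_zero, h1]⟩
  · exact ⟨1, h1.symm⟩
  · exact ⟨2, by rw [L.cj_two B ha, h1]⟩

theorem Level.exists_expo [Finite G] (B : Base x E) (L : Level x E U h) : ∃ k, Expo U k := by
  classical
  have h1 : ∃ m : ℕ, ∀ u ∈ U, u ^ 2 ^ m = 1 := by
    have : Fact (Nat.Prime 2) := ⟨Nat.prime_two⟩
    obtain ⟨m, hm⟩ := IsPGroup.iff_card.mp L.pgroup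
    refine ⟨m, fun u hu => ?_⟩
    rw [← hm]
    have h2 : (⟨u, hu⟩ : U) ^ Nat.card U = 1 := pow_card_eq_one'
    have h3 := congrArg Subtype.val h2
    rwa [Subgroup.coe_pow, Subgroup.coe_one] at h3
  have h2 := Nat.find_spec h1
  set m := Nat.find h1 with hm
  have hm0 : m ≠ 0 := by
    intro h0
    obtain ⟨e, he, he1⟩ := B.exists_ne_one
    have h3 := h2 e (L.le he)
    rw [h0] at h3
    exact he1 (by simpa using h3)
  obtain ⟨k, hk⟩ := Nat.exists_eq_succ_of_ne_zero hm0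
  refine ⟨k, ?_, ?_⟩
  · rw [hk] at h2; exact h2
  · by_contra hcon
    push Not at hcon
    have h4 : m ≤ k := Nat.find_min' h1 hcon
    omega

theorem Level.pi_mem (L : Level x E U h) (X : Expo U k) {u : G} (hu : u ∈ U) : u ^ 2 ^ k ∈ E := by
  apply L.omega _ (U.pow_mem hu _)
  rw [← pow_two_pow_succ]
  exact X.all u hu

theorem cj_pow (h : G) (n : ℕ) (g : G) (m : ℕ) : (cj h n g) ^ m = cj h n (g ^ m) := by
  unfold cj; rw [conj_pow]

theorem Level.pi_surj (B : Base x E) (L : Level x E U h) (X : Expo U k) {e : G} (he : e ∈ E) :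
    ∃ u ∈ U, u ^ 2 ^ k = e := by
  by_cases he1 : e = 1
  · exact ⟨1, U.one_mem, by rw [one_pow, he1]⟩
  obtain ⟨u, hu, hu1⟩ := X.ex
  obtain ⟨n, hn⟩ := L.trans B (L.pi_mem X hu) he hu1 he1
  exact ⟨cj h n u, L.hU_pow n hu, by rw [cj_pow, hn]⟩

/-- `u ^ 2 ^ k = 1` implies that `u` is the square of an element of `U`. -/
theorem Level.exists_sq (B : Base x E) (L : Level x E U h) (X : Expo U k) {u : G} (hu : u ∈ U)
    (hu1 : u ^ 2 ^ k = 1) : ∃ w ∈ U, w * w = u := by
  have key : ∀ i : ℕ, i ≤ k → ∀ u ∈ U, u ^ 2 ^ i = 1 → ∃ w ∈ U, w * w = u := by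
    intro i
    induction i with
    | zero =>
      intro _ u _ h1
      exact ⟨1, U.one_mem, by simpa using h1.symm⟩
    | succ i ih =>
      intro hi u hu h1
      have h2 : u ^ 2 ^ i ∈ E := L.omega _ (U.pow_mem hu _) (by rw [← pow_two_pow_succ]; exact h1)
      obtain ⟨w, hw, hw1⟩ := L.pi_surj B X h2
      obtain ⟨j, hj⟩ : ∃ j, k = i + 1 + j := ⟨k - (i + 1), by omega⟩
      have h3 : (w ^ 2 ^ (j + 1)) ^ 2 ^ i = u ^ 2 ^ i := by
        rw [← hw1, ← pow_mul, ← pow_add]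
        congr 2
        omega
      have h4 : (u * (w ^ 2 ^ (j + 1))⁻¹) ^ 2 ^ i = 1 := by
        rw [L.mul_pow hu (U.inv_mem (U.pow_mem hw _)), inv_pow, h3, mul_inv_cancel]
      obtain ⟨v, hv, hv1⟩ := ih (by omega) _ (U.mul_mem hu (U.inv_mem (U.pow_mem hw _))) h4
      refine ⟨v * w ^ 2 ^ j, U.mul_mem hv (U.pow_mem hw _), ?_⟩
      have h5 : v * w ^ 2 ^ j * (v * w ^ 2 ^ j) = v * v * (w ^ 2 ^ j * w ^ 2 ^ j) := by
        have := L.comm _ (U.pow_mem hw (2 ^ j)) v hv
        calc v * w ^ 2 ^ j * (v * w ^ 2 ^ j) = v * (w ^ 2 ^ j * v) * w ^ 2 ^ j := by group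
          _ = v * (v * w ^ 2 ^ j) * w ^ 2 ^ j := by rw [this]
          _ = v * v * (w ^ 2 ^ j * w ^ 2 ^ j) := by group
      rw [h5, hv1, ← pow_two_pow_succ, inv_mul_cancel_right]
  exact key k le_rfl u hu hu1

theorem sq_pow_eq_one (X : Expo U k) {w : G} (hw : w ∈ U) : (w * w) ^ 2 ^ k = 1 := by
  rw [← pow_two_pow_succ']; exact X.all w hw

/-- if `u, v` have the same image then they differ by a square -/
theorem Level.exists_sq_mul (B : Base x E) (L : Level x E U h) (X : Expo U k) {u v : G} (hu : u ∈ U)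
    (hv : v ∈ U) (huv : u ^ 2 ^ k = v ^ 2 ^ k) : ∃ w ∈ U, u = v * (w * w) := by
  have h1 : (v⁻¹ * u) ^ 2 ^ k = 1 := by
    rw [L.mul_pow (U.inv_mem hv) hu, inv_pow, huv, inv_mul_cancel]
  obtain ⟨w, hw, hw1⟩ := L.exists_sq B X (U.mul_mem (U.inv_mem hv) hu) h1
  exact ⟨w, hw, by rw [hw1, mul_inv_cancel_left]⟩

/-- `w (x u) w⁻¹ = x (u w⁻²)`. -/
theorem Level.conj_xu (B : Base x E) (L : Level x E U h) {u w : G} (hu : u ∈ U) (hw : w ∈ U) :
    w * (x * u) * w⁻¹ = x * (u * (w⁻¹ * w⁻¹)) := by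
  have h1 : w * x = x * w⁻¹ := L.mul_x B hw
  have h2 : w⁻¹ * u = u * w⁻¹ := L.comm _ (U.inv_mem hw) _ hu
  calc w * (x * u) * w⁻¹ = (w * x) * u * w⁻¹ := by group
    _ = x * (w⁻¹ * u) * w⁻¹ := by rw [h1]; group
    _ = x * (u * (w⁻¹ * w⁻¹)) := by rw [h2]; group

/-- `U` conjugates `xu` to `xv` if `u, v` have the same image in `E`. -/
theorem Level.exists_conj (B : Base x E) (L : Level x E U h) (X : Expo U k) {u v : G} (hu : u ∈ U)
    (hv : v ∈ U) (huv : u ^ 2 ^ k = v ^ 2 ^ k) : ∃ w ∈ U, w * (x * u) * w⁻¹ = x * v := by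
  obtain ⟨w, hw, hw1⟩ := L.exists_sq_mul B X hv hu huv.symm
  refine ⟨w⁻¹, U.inv_mem hw, ?_⟩
  rw [L.conj_xu B hu (U.inv_mem hw), inv_inv, hw1]

/-! ### The group `R = U⟨x⟩` -/

theorem Level.mem_rr (B : Base x E) (L : Level x E U h) {g : G} : g ∈ rr x U ↔ g ∈ U ∨ x * g ∈ U :=
  Cfsg.Agent.GH.E.mem_rr B.hx (fun u hu => by rw [L.inv u hu]; exact U.inv_mem hu)

theorem Level.conj_mem (L : Level x E U h) {u : G} (hu : u ∈ U) : x * u * x⁻¹ ∈ U := by
  rw [L.inv u hu]; exact U.inv_mem hu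

theorem Level.card_rr (B : Base x E) (L : Level x E U h) : Nat.card (rr x U) = 2 * Nat.card U :=
  Cfsg.Agent.GH.E.card_rr B.hx (fun _ hu => L.conj_mem hu) (L.x_notMem B)

theorem Level.rr_pgroup [Finite G] (B : Base x E) (L : Level x E U h) : IsPGroup 2 (rr x U) := by
  have : Fact (Nat.Prime 2) := ⟨Nat.prime_two⟩
  obtain ⟨n, hn⟩ := IsPGroup.iff_card.mp L.pgroup
  apply IsPGroup.of_card (n := n + 1)
  rw [L.card_rr B, hn, pow_succ']

theorem Level.E_comm (B : Base x E) (L : Level x E U h) {e r : G} (he : e ∈ E) (hr : r ∈ rr x U) :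
    e * r = r * e := by
  rcases (L.mem_rr B).1 hr with hr | hr
  · exact L.comm e (L.le he) r hr
  · have h1 := L.comm e (L.le he) _ hr
    have h2 := B.comm e he
    calc e * r = (x * x) * e * r := by rw [B.hx, one_mul]
      _ = x * (x * e) * r := by group
      _ = x * (e * x) * r := by rw [h2]
      _ = x * (e * (x * r)) := by group
      _ = x * (x * r * e) := by rw [h1]
      _ = (x * x) * r * e := by group
      _ = r * e := by rw [B.hx, one_mul]

/-- The start of the tower. -/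
theorem Base.level (B : Base x E) (hx : h * x = x * h) (hE : ∀ e ∈ E, h * e * h⁻¹ ∈ E)
    (h3 : ∀ e ∈ E, e ≠ 1 → h * e * h⁻¹ ≠ e) : Level x E E h where
  le := le_refl _
  comm := fun u hu v hv => B.commE hu hv
  pgroup := IsPGroup.of_card (n := 2) (by rw [B.card]; norm_num)
  inv := fun u hu => by
    rw [B.comm u hu, mul_inv_cancel_right]
    exact (B.inv_eq hu).symm
  omega := fun u hu _ => hu
  hx := hx
  hU := hE
  h3 := h3

/-! ### Sizes of orbits and centralisers -/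

/-- `x` is not conjugate to an element centralised by a 2-group of order `> 16`. -/
theorem Base.not_conj_of_card (B : Base x E) {Q : Subgroup G} (hQ : IsPGroup 2 Q)
    (hc : 16 < Nat.card Q) {e : G} (he : ∀ q ∈ Q, e * q = q * e) (g : G) : g * x * g⁻¹ ≠ e := by
  intro hge
  have h1 : IsPGroup 2 (Q.map (MulAut.conj g⁻¹).toMonoidHom) := hQ.map _
  have h2 : ∀ q ∈ Q.map (MulAut.conj g⁻¹).toMonoidHom, x * q = q * x := by
    rintro _ ⟨q, hq, rfl⟩
    have h3 := he q hq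
    rw [← hge] at h3
    simp only [MulEquiv.coe_toMonoidHom, MulAut.conj_apply, inv_inv]
    calc x * (g⁻¹ * q * g) = g⁻¹ * (g * x * g⁻¹ * q) * g := by group
      _ = g⁻¹ * (q * (g * x * g⁻¹)) * g := by rw [h3]
      _ = g⁻¹ * q * g * x := by group
  have h4 := B.cent_card _ h1 h2
  have h5 : Nat.card (Q.map (MulAut.conj g⁻¹).toMonoidHom) = Nat.card Q :=
    Nat.card_congr (Q.equivMapOfInjective _ (MulAut.conj g⁻¹).injective).symm.toEquiv
  omega

/-- `x` is not conjugate to an element centralised by an abelian 2-group of order `> 8`. -/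
theorem Base.not_conj_of_abel (B : Base x E) {Q : Subgroup G} (hQ : IsPGroup 2 Q)
    (hab : ∀ p ∈ Q, ∀ q ∈ Q, p * q = q * p)
    (hc : 8 < Nat.card Q) {e : G} (he : ∀ q ∈ Q, e * q = q * e) (g : G) : g * x * g⁻¹ ≠ e := by
  intro hge
  have h1 : IsPGroup 2 (Q.map (MulAut.conj g⁻¹).toMonoidHom) := hQ.map _
  have h2 : ∀ q ∈ Q.map (MulAut.conj g⁻¹).toMonoidHom, x * q = q * x := by
    rintro _ ⟨q, hq, rfl⟩
    have h3 := he q hq
    rw [← hge] at h3
    simp only [MulEquiv.coe_toMonoidHom, MulAut.conj_apply, inv_inv]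
    calc x * (g⁻¹ * q * g) = g⁻¹ * (g * x * g⁻¹ * q) * g := by group
      _ = g⁻¹ * (q * (g * x * g⁻¹)) * g := by rw [h3]
      _ = g⁻¹ * q * g * x := by group
  have h3 : ∀ p ∈ Q.map (MulAut.conj g⁻¹).toMonoidHom, ∀ q ∈ Q.map (MulAut.conj g⁻¹).toMonoidHom,
      p * q = q * p := by
    rintro _ ⟨p, hp, rfl⟩ _ ⟨q, hq, rfl⟩
    rw [← map_mul, ← map_mul, hab p hp q hq]
  have h4 := B.cent_abel _ h1 h2 h3
  have h5 : Nat.card (Q.map (MulAut.conj g⁻¹).toMonoidHom) = Nat.card Q :=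
    Nat.card_congr (Q.equivMapOfInjective _ (MulAut.conj g⁻¹).injective).symm.toEquiv
  omega

theorem conj_sq_one (B : Base x E) (g : G) : g * x * g⁻¹ * (g * x * g⁻¹) = 1 := by
  calc g * x * g⁻¹ * (g * x * g⁻¹) = g * (x * x) * g⁻¹ := by group
    _ = 1 := by rw [B.hx]; group

theorem ncard_xU (U : Subgroup G) (x : G) : ((fun u => x * u) '' (U : Set G)).ncard = Nat.card U := by
  rw [Set.ncard_image_of_injective _ (mul_right_injective x)]
  rfl

/-! ### The stabiliser of `xU` -/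

/-- The elements normalising `U` and `xU`. -/
def Nx (x : G) (U : Subgroup G) [Finite G] : Subgroup G where
  carrier := {g | (∀ u ∈ U, g * u * g⁻¹ ∈ U) ∧ x * (g * x * g⁻¹) ∈ U ∧ x * x = 1}
    ∪ {g | (∀ u ∈ U, g * u * g⁻¹ ∈ U) ∧ x * x ≠ 1}
  one_mem' := by
    by_cases hx : x * x = 1
    · left
      exact ⟨fun u hu => by simpa using hu, by simp [hx, U.one_mem], hx⟩
    · right
      exact ⟨fun u hu => by simpa using hu, hx⟩
  mul_mem' := by
    rintro a b (⟨ha, ha1, hx⟩ | ⟨ha, hx⟩) (⟨hb, hb1, hx'⟩ | ⟨hb, hx'⟩)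
    · left
      refine ⟨fun u hu => ?_, ?_, hx⟩
      · have h1 : a * b * u * (a * b)⁻¹ = a * (b * u * b⁻¹) * a⁻¹ := by group
        rw [h1]; exact ha _ (hb u hu)
      · have h1 : x * (a * b * x * (a * b)⁻¹) = x * (a * x * a⁻¹) * (a * (x * (b * x * b⁻¹)) * a⁻¹) := by
          calc x * (a * b * x * (a * b)⁻¹) = x * (a * (b * x * b⁻¹) * a⁻¹) := by group
            _ = x * (a * (x * x * (b * x * b⁻¹)) * a⁻¹) := by rw [hx, one_mul]
            _ = x * (a * x * a⁻¹) * (a * (x * (b * x * b⁻¹)) * a⁻¹) := by group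
        rw [h1]
        exact U.mul_mem ha1 (ha _ hb1)
    · exact absurd hx hx'
    · exact absurd hx' hx
    · right
      refine ⟨fun u hu => ?_, hx⟩
      have h1 : a * b * u * (a * b)⁻¹ = a * (b * u * b⁻¹) * a⁻¹ := by group
      rw [h1]; exact ha _ (hb u hu)
  inv_mem' := by
    have key : ∀ a : G, (∀ u ∈ U, a * u * a⁻¹ ∈ U) → ∀ u ∈ U, a⁻¹ * u * a ∈ U := by
      intro a ha u hu
      have h2 : Function.Injective (fun r : U => (⟨a * r * a⁻¹, ha r r.2⟩ : U)) := by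
        intro p q hpq
        have := congrArg Subtype.val hpq
        simp only at this
        exact Subtype.ext (mul_left_cancel (mul_right_cancel this))
      obtain ⟨⟨r, hr⟩, hr1⟩ := (Finite.injective_iff_surjective.1 h2) ⟨u, hu⟩
      have h3 := congrArg Subtype.val hr1
      simp only at h3
      rw [← h3]
      have h4 : a⁻¹ * (a * r * a⁻¹) * a = r := by group
      rw [h4]; exact hr
    rintro a (⟨ha, ha1, hx⟩ | ⟨ha, hx⟩)
    · left
      refine ⟨fun u hu => by rw [inv_inv]; exact key a ha u hu, ?_, hx⟩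
      have hxi : x⁻¹ = x := inv_eq_iff_mul_eq_one.mpr hx
      have h1 := U.inv_mem (key a ha _ ha1)
      have h2 : (a⁻¹ * (x * (a * x * a⁻¹)) * a)⁻¹ = x * (a⁻¹ * x * a⁻¹⁻¹) := by
        calc (a⁻¹ * (x * (a * x * a⁻¹)) * a)⁻¹ = x⁻¹ * (a⁻¹ * x⁻¹ * a⁻¹⁻¹) := by group
          _ = x * (a⁻¹ * x * a⁻¹⁻¹) := by rw [hxi]
      rw [← h2]; exact h1
    · right
      exact ⟨fun u hu => by rw [inv_inv]; exact key a ha u hu, hx⟩

theorem mem_Nx [Finite G] (B : Base x E) {g : G} :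
    g ∈ Nx x U ↔ (∀ u ∈ U, g * u * g⁻¹ ∈ U) ∧ x * (g * x * g⁻¹) ∈ U := by
  constructor
  · rintro (⟨h1, h2, _⟩ | ⟨_, h2⟩)
    · exact ⟨h1, h2⟩
    · exact absurd B.hx h2
  · rintro ⟨h1, h2⟩
    exact Or.inl ⟨h1, h2, B.hx⟩

end Cfsg.Agent.GH.N2
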