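import Cfsg.Agent.GH.N2.Basic
import Cfsg.Agent.SmallSimple.TransferInvol

/-!
# GH-L2, `|Q| = 2`, `|D| = 4`: products, transfer, facts on `T`
-/

set_option autoImplicit false
set_option linter.unusedSectionVars false

universe u

namespace Cfsg.Agent.GH.N2

open Cfsg.Agent.GH.E (rr self_mem_rr le_rr rr_mono cj cj_mul cj_inv cj_one cj_zero cj_cj cj_injective
  cj_eq_one cj_succ cj_mem Expo pow_two_pow_succ pow_two_pow_succ' conj_pow' phi card_eq_ncard_orbit_mul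
  exists_conj_le exists_pow_eq_inv)

variable {G : Type u} [Group G] {x h : G} {E T U P V N : Subgroup G} {k : ℕ}

/-! ### Products -/

theorem mem_sup_of_norm (hn : ∀ t ∈ T, ∀ n ∈ N, t * n * t⁻¹ ∈ N) {g : G} :
    g ∈ N ⊔ T ↔ ∃ n ∈ N, ∃ t ∈ T, g = n * t := by
  constructor
  · intro hg
    let K : Subgroup G :=
      { carrier := {g | ∃ n ∈ N, ∃ t ∈ T, g = n * t}
        one_mem' := ⟨1, N.one_mem, 1, T.one_mem, by group⟩
        mul_mem' := by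
          rintro _ _ ⟨n, hn1, t, ht, rfl⟩ ⟨m, hm, s, hs, rfl⟩
          exact ⟨n * (t * m * t⁻¹), N.mul_mem hn1 (hn t ht m hm), t * s, T.mul_mem ht hs, by group⟩
        inv_mem' := by
          rintro _ ⟨n, hn1, t, ht, rfl⟩
          refine ⟨t⁻¹ * n⁻¹ * t⁻¹⁻¹, hn _ (T.inv_mem ht) _ (N.inv_mem hn1), t⁻¹, T.inv_mem ht, by group⟩ }
    have hK : N ⊔ T ≤ K := sup_le (fun n hn1 => ⟨n, hn1, 1, T.one_mem, by group⟩)
      (fun t ht => ⟨1, N.one_mem, t, ht, by group⟩)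
    exact hK hg
  · rintro ⟨n, hn1, t, ht, rfl⟩
    exact Subgroup.mul_mem _ (Subgroup.mem_sup_left hn1) (Subgroup.mem_sup_right ht)

theorem sup_norm (hn : ∀ t ∈ T, ∀ n ∈ N, t * n * t⁻¹ ∈ N) : ∀ g ∈ N ⊔ T, ∀ n ∈ N, g * n * g⁻¹ ∈ N := by
  intro g hg n hn1
  obtain ⟨m, hm, t, ht, rfl⟩ := (mem_sup_of_norm hn).1 hg
  have h1 : m * t * n * (m * t)⁻¹ = m * (t * n * t⁻¹) * m⁻¹ := by group
  rw [h1]
  exact N.mul_mem (N.mul_mem hm (hn t ht n hn1)) (N.inv_mem hm)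

theorem sup_comm (hn : ∀ t ∈ T, ∀ n ∈ N, t * n * t⁻¹ ∈ N) (hc : ∀ t ∈ T, ∀ s ∈ T, t * s * t⁻¹ * s⁻¹ ∈ N) :
    ∀ a ∈ N ⊔ T, ∀ b ∈ N ⊔ T, a * b * a⁻¹ * b⁻¹ ∈ N := by
  intro a ha b hb
  obtain ⟨n, hn1, t, ht, rfl⟩ := (mem_sup_of_norm hn).1 ha
  obtain ⟨m, hm, s, hs, rfl⟩ := (mem_sup_of_norm hn).1 hb
  have h1 : n * t * (m * s) * (n * t)⁻¹ * (m * s)⁻¹ =
      n * (t * m * t⁻¹) * (t * s * t⁻¹ * s⁻¹) * (s * n⁻¹ * s⁻¹) * m⁻¹ := by group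
  rw [h1]
  exact N.mul_mem (N.mul_mem (N.mul_mem (N.mul_mem hn1 (hn t ht m hm)) (hc t ht s hs))
    (hn s hs _ (N.inv_mem hn1))) (N.inv_mem hm)

theorem sup_pgroup [Finite G] (hN : IsPGroup 2 N) (hT : IsPGroup 2 T)
    (hn : ∀ t ∈ T, ∀ n ∈ N, t * n * t⁻¹ ∈ N) : IsPGroup 2 (N ⊔ T : Subgroup G) := by
  apply hN.to_sup_of_normal_left' hT
  intro t ht
  rw [Subgroup.mem_normalizer_iff]
  intro u
  refine ⟨hn t ht u, fun hu => ?_⟩
  have h1 := hn t⁻¹ (T.inv_mem ht) _ hu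
  have h2 : t⁻¹ * (t * u * t⁻¹) * t⁻¹⁻¹ = u := by group
  rwa [h2] at h1

/-! ### Transfer -/

theorem exists_commQuot {Ps : Subgroup G} (hnorm : ∀ p ∈ Ps, ∀ n ∈ N, p * n * p⁻¹ ∈ N)
    (hcomm : ∀ a ∈ Ps, ∀ b ∈ Ps, a * b * a⁻¹ * b⁻¹ ∈ N) :
    ∃ (Q : Type u) (_ : CommGroup Q) (π : Ps →* Q), ∀ p : Ps, π p = 1 ↔ (p : G) ∈ N := by
  have hN : (N.subgroupOf Ps).Normal := by
    refine ⟨fun n hn g => ?_⟩
    rw [Subgroup.mem_subgroupOf] at hn ⊢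
    exact hnorm g g.2 _ hn
  refine ⟨Ps ⧸ N.subgroupOf Ps, { QuotientGroup.Quotient.group (N.subgroupOf Ps) with
    mul_comm := ?_ }, QuotientGroup.mk' (N.subgroupOf Ps), ?_⟩
  · intro a b
    obtain ⟨a, rfl⟩ := QuotientGroup.mk_surjective a
    obtain ⟨b, rfl⟩ := QuotientGroup.mk_surjective b
    show ((a * b : Ps) : Ps ⧸ N.subgroupOf Ps) = ((b * a : Ps) : Ps ⧸ N.subgroupOf Ps)
    rw [QuotientGroup.eq, Subgroup.mem_subgroupOf]
    have h1 := hcomm _ (Ps.inv_mem b.2) _ (Ps.inv_mem a.2)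
    have h2 : (((a * b)⁻¹ * (b * a) : Ps) : G) = (b : G)⁻¹ * (a : G)⁻¹ * (b : G)⁻¹⁻¹ * (a : G)⁻¹⁻¹ := by
      push_cast; group
    rw [h2]; exact h1
  · intro p
    have h1 : QuotientGroup.mk' (N.subgroupOf Ps) p = 1 ↔ p ∈ N.subgroupOf Ps := by
      rw [← MonoidHom.mem_ker, QuotientGroup.ker_mk']
    exact h1.trans Subgroup.mem_subgroupOf

/-- `Ps` Sylow, `Ps / N` abelian, `x ∉ N` an involution, all conjugates of `x` in `Ps` lie in `xN`: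
contradiction in a simple group. -/
theorem false_of_transfer [Finite G] [IsSimpleGroup G] (hG : ¬ ∀ a b : G, a * b = b * a) {Ps : Subgroup G}
    (hS : ∃ S : Sylow 2 G, (S : Subgroup G) = Ps) (hnorm : ∀ p ∈ Ps, ∀ n ∈ N, p * n * p⁻¹ ∈ N)
    (hcomm : ∀ a ∈ Ps, ∀ b ∈ Ps, a * b * a⁻¹ * b⁻¹ ∈ N) (hx : x * x = 1) (hxP : x ∈ Ps) (hxN : x ∉ N)
    (hc : ∀ g : G, g * x * g⁻¹ ∈ Ps → x * (g * x * g⁻¹) ∈ N) : False := by
  have : Fact (Nat.Prime 2) := ⟨Nat.prime_two⟩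
  obtain ⟨Q, _, π, hπ⟩ := exists_commQuot hnorm hcomm
  obtain ⟨S, rfl⟩ := hS
  have hodd : Odd (S : Subgroup G).index := by
    rw [← Nat.not_even_iff_odd, even_iff_two_dvd]
    exact Sylow.not_dvd_index S
  apply hxN
  rw [← hπ ⟨x, hxP⟩]
  apply Cfsg.Agent.SmallSimple.TransferInvol.eq_one_of_odd_index hG _ π x (by rw [pow_two, hx]) hodd
  · rw [← map_pow]
    have : (⟨x, hxP⟩ : (S : Subgroup G)) ^ 2 = 1 := Subtype.ext (by
      rw [Subgroup.coe_pow, pow_two]; exact hx)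
    rw [this, map_one]
  · rintro ⟨y, hy⟩ hxy
    obtain ⟨g, hg⟩ := isConj_iff.1 hxy
    have h1 : g * x * g⁻¹ = y := hg
    have h2 := hc g (by rw [h1]; exact hy)
    rw [h1] at h2
    have h3 := (hπ (⟨x, hxP⟩ * ⟨y, hy⟩)).2 h2
    rw [map_mul] at h3
    have h4 : π ⟨x, hxP⟩ * π ⟨x, hxP⟩ = 1 := by
      rw [← map_mul]
      have : (⟨x, hxP⟩ : (S : Subgroup G)) * ⟨x, hxP⟩ = 1 := Subtype.ext hx
      rw [this, map_one]
    exact mul_left_cancel (h3.trans h4.symm)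

/-! ### Facts on `T` -/

theorem Syl.F_le (S : Syl x E T) : rr x E ≤ T := sup_le S.ET (by rw [Subgroup.zpowers_le]; exact S.xT)

theorem Syl.card_le (B : Base x E) (S : Syl x E T) : Nat.card T ≤ 16 := B.cent_card T S.two S.cx

theorem Syl.relIndex_le [Finite G] (B : Base x E) (S : Syl x E T) : (rr x E).relIndex T ≤ 2 := by
  have h1 := Subgroup.relIndex_mul_relIndex ⊥ (rr x E) T bot_le S.F_le
  rw [Subgroup.relIndex_bot_left, Subgroup.relIndex_bot_left, B.card_rr] at h1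
  have := S.card_le B
  omega

theorem Syl.mem_F_of_notMem [Finite G] (B : Base x E) (S : Syl x E T) {t s : G} (ht : t ∈ T) (hs : s ∈ T)
    (ht1 : t ∉ rr x E) (hs1 : s ∉ rr x E) : t * s ∈ rr x E := by
  have h2 : (rr x E).relIndex T = 2 := by
    have h3 : (rr x E).relIndex T ≠ 0 := by
      rw [Subgroup.relIndex]; exact Subgroup.index_ne_zero_of_finite
    have h4 : (rr x E).relIndex T ≠ 1 := by
      rw [Ne, Subgroup.relIndex_eq_one]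
      exact fun hc => ht1 (hc ht)
    have := S.relIndex_le B
    omega
  have h4 : ((rr x E).subgroupOf T).index = 2 := h2
  have h5 := (Subgroup.mul_mem_iff_of_index_two h4 (a := ⟨t, ht⟩) (b := (⟨s, hs⟩ : T))).2
    ⟨fun hc => absurd (Subgroup.mem_subgroupOf.1 hc) ht1, fun hc =>
      absurd (Subgroup.mem_subgroupOf.1 hc) hs1⟩
  exact Subgroup.mem_subgroupOf.1 h5

/-- `T / E` is abelian. -/
theorem Syl.comm_mem [Finite G] (B : Base x E) (S : Syl x E T) : ∀ t ∈ T, ∀ s ∈ T, t * s * t⁻¹ * s⁻¹ ∈ E := by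
  have key : ∀ t ∈ T, ∀ s ∈ rr x E, t * s * t⁻¹ * s⁻¹ ∈ E := by
    intro t ht s hs
    have hxt := S.cx t ht
    rcases B.mem_rr.1 hs with h1 | h1
    · exact E.mul_mem (S.nE t ht s h1) (E.inv_mem h1)
    · have h2 := E.mul_mem (S.nE t ht _ h1) (E.inv_mem h1)
      have h3 : t * (x * s) * t⁻¹ * (x * s)⁻¹ = t * s * t⁻¹ * s⁻¹ := by
        have h4 := B.comm _ (S.nE t ht _ h1)
        calc t * (x * s) * t⁻¹ * (x * s)⁻¹ = (t * x) * s * t⁻¹ * s⁻¹ * x⁻¹ := by group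
          _ = x * (t * s * t⁻¹ * s⁻¹) * x⁻¹ := by rw [← hxt]; group
          _ = t * s * t⁻¹ * s⁻¹ := by
            have h5 : x * (t * s * t⁻¹ * s⁻¹) = (t * s * t⁻¹ * s⁻¹) * x := by
              have hs' : s ∈ T := S.F_le hs
              exact S.cx _ (T.mul_mem (T.mul_mem (T.mul_mem ht hs') (T.inv_mem ht)) (T.inv_mem hs'))
            rw [h5, mul_inv_cancel_right]
      rw [← h3]; exact h2
  intro t ht s hs
  by_cases hs1 : s ∈ rr x E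
  · exact key t ht s hs1
  by_cases ht1 : t ∈ rr x E
  · have h1 := E.inv_mem (key s hs t ht1)
    have h2 : (s * t * s⁻¹ * t⁻¹)⁻¹ = t * s * t⁻¹ * s⁻¹ := by group
    rwa [h2] at h1
  · have h1 : t⁻¹ ∉ rr x E := fun hc => ht1 (by
      rw [Subgroup.inv_mem_iff] at hc; exact hc)
    have h2 := S.mem_F_of_notMem B (T.inv_mem ht) hs h1 hs1
    -- `s = t f`
    have h3 := key t ht _ h2
    have h4 := S.nE t ht _ h3
    have h5 : t * (t * (t⁻¹ * s) * t⁻¹ * (t⁻¹ * s)⁻¹) * t⁻¹ = t * s * t⁻¹ * s⁻¹ := by group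
    rwa [h5] at h4

end Cfsg.Agent.GH.N2
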