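import Cfsg.Agent.GH.N2.Dich
import Cfsg.Agent.GH.N2.Sup

/-!
# GH-L2, `|Q| = 2`, `|D| = 4`: conjugates of `x` in `P`
-/

set_option autoImplicit false
set_option linter.unusedSectionVars false

universe u

namespace Cfsg.Agent.GH.N2

open Cfsg.Agent.GH.E (rr self_mem_rr le_rr rr_mono cj cj_mul cj_inv cj_one cj_zero cj_cj cj_injective
  cj_eq_one cj_succ cj_mem Expo pow_two_pow_succ pow_two_pow_succ' conj_pow' phi card_eq_ncard_orbit_mul
  exists_conj_le exists_pow_eq_inv exists_sylow_eq)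

variable {G : Type u} [Group G] {x h : G} {E T U P V : Subgroup G} {k : ℕ}

theorem conj_centr_map {Q : Subgroup G} {g v : G} (hgv : g * x * g⁻¹ = v) (he : ∀ q ∈ Q, v * q = q * v) :
    ∀ q ∈ Q.map (MulAut.conj g⁻¹).toMonoidHom, x * q = q * x := by
  rintro _ ⟨q, hq, rfl⟩
  have h3 := he q hq
  rw [← hgv] at h3
  simp only [MulEquiv.coe_toMonoidHom, MulAut.conj_apply, inv_inv]
  calc x * (g⁻¹ * q * g) = g⁻¹ * (g * x * g⁻¹ * q) * g := by group
    _ = g⁻¹ * (q * (g * x * g⁻¹)) * g := by rw [h3]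
    _ = g⁻¹ * q * g * x := by group

/-- `Base` for a conjugate of `x`, with another four-group. -/
theorem Base.conj (B : Base x E) {E' : Subgroup G} {g v : G} (hgv : g * x * g⁻¹ = v)
    (hc : Nat.card E' = 4) (hsq : ∀ e ∈ E', e * e = 1) (hv : v ∉ E') (hcomm : ∀ e ∈ E', v * e = e * v) :
    Base v E' where
  hx := by rw [← hgv]; exact conj_sq_one B g
  hxE := hv
  card := hc
  sq := hsq
  comm := hcomm
  cent_card := by
    intro Q hQ hq
    have h4 := B.cent_card _ (hQ.map (MulAut.conj g⁻¹).toMonoidHom) (conj_centr_map hgv hq)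
    have h5 : Nat.card (Q.map (MulAut.conj g⁻¹).toMonoidHom) = Nat.card Q :=
      Nat.card_congr (Q.equivMapOfInjective _ (MulAut.conj g⁻¹).injective).symm.toEquiv
    omega
  cent_abel := by
    intro Q hQ hq hab
    have h3 : ∀ p ∈ Q.map (MulAut.conj g⁻¹).toMonoidHom, ∀ q ∈ Q.map (MulAut.conj g⁻¹).toMonoidHom,
        p * q = q * p := by
      rintro _ ⟨p, hp, rfl⟩ _ ⟨q, hq, rfl⟩
      rw [← map_mul, ← map_mul, hab p hp q hq]
    have h4 := B.cent_abel _ (hQ.map (MulAut.conj g⁻¹).toMonoidHom) (conj_centr_map hgv hq) h3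
    have h5 : Nat.card (Q.map (MulAut.conj g⁻¹).toMonoidHom) = Nat.card Q :=
      Nat.card_congr (Q.equivMapOfInjective _ (MulAut.conj g⁻¹).injective).symm.toEquiv
    omega

section

variable [Finite G]

/-- The kernel of `u ↦ u ^ 2 ^ k`. -/
theorem Level.exists_K (B : Base x E) (L : Level x E U h) (X : Expo U k) :
    ∃ K : Subgroup G, (∀ u, u ∈ K ↔ u ∈ U ∧ u ^ 2 ^ k = 1) ∧ Nat.card U = 4 * Nat.card K := by
  let f : U →* G :=
    { toFun := fun u => (u : G) ^ 2 ^ k
      map_one' := by simp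
      map_mul' := fun u v => by
        rw [Subgroup.coe_mul, L.mul_pow u.2 v.2] }
  have hf : ∀ u : U, f u = (u : G) ^ 2 ^ k := fun u => rfl
  refine ⟨f.ker.map U.subtype, ?_, ?_⟩
  · intro u
    constructor
    · rintro ⟨v, hv, rfl⟩
      exact ⟨v.2, hv⟩
    · rintro ⟨hu, hu1⟩
      exact ⟨⟨u, hu⟩, hu1, rfl⟩
  · have h1 : Nat.card (f.ker.map U.subtype) = Nat.card f.ker :=
      Nat.card_congr (f.ker.equivMapOfInjective _ U.subtype_injective).symm.toEquiv
    have h2 := Subgroup.card_mul_index f.ker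
    have h3 : f.ker.index = Nat.card f.range := Subgroup.index_ker f
    have h4 : f.range = E := by
      ext e
      constructor
      · rintro ⟨u, rfl⟩
        exact L.pi_mem X u.2
      · intro he
        obtain ⟨u, hu, hue⟩ := L.pi_surj B X he
        exact ⟨⟨u, hu⟩, hue⟩
    rw [h3, h4, B.card] at h2
    rw [h1, ← h2, mul_comm]

theorem VV.rr_eq (B : Base x E) (A : VV x E T U P V h) (X : Expo U k) : rr x V = P := by
  apply le_antisymm
  · exact sup_le A.le (by rw [Subgroup.zpowers_le]; exact A.stp.xP)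
  · intro p hp
    rcases A.cover B X hp with h1 | h1
    · exact le_rr x V h1
    · have h2 := Subgroup.mul_mem _ (self_mem_rr x V) (le_rr x V h1)
      rwa [B.xx_mul] at h2

theorem VV.card (B : Base x E) (A : VV x E T U P V h) (X : Expo U k) : Nat.card V = 4 * Nat.card U := by
  have h1 := Cfsg.Agent.GH.E.card_rr B.hx (fun v hv => A.nP B X A.stp.xP hv) (A.x_notMem B)
  rw [A.rr_eq B X, A.stp.card] at h1
  omega

theorem Stp.card_gt (B : Base x E) (A : Stp x E T U P h) : 16 < Nat.card P := by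
  have h1 : Nat.card E ≤ Nat.card U := Subgroup.card_le_of_le A.level.le
  rw [B.card] at h1
  have h2 := A.card
  omega

/-- The elements of `V` are not conjugate to `x`. -/
theorem VV.not_conj (B : Base x E) (A : VV x E T U P V h) (X : Expo U k) {v : G} (hv : v ∈ V) (g : G) :
    g * x * g⁻¹ ≠ v := by
  intro hgv
  have L := A.stp.level
  have hv2 : v * v = 1 := by rw [← hgv]; exact conj_sq_one B g
  have hvE0 : ∀ e ∈ E, v * e = e * v := fun e he => (A.stp.cE v (A.le hv) e he).symm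
  by_cases hvU : v ∈ U
  · have hvE := L.omega v hvU hv2
    exact B.not_conj_of_card A.stp.two (A.stp.card_gt B) (fun q hq => A.stp.cE q hq v hvE) g hgv
  · have B' : Base v E := B.conj hgv B.card B.sq (fun hc => hvU (L.le hc)) hvE0
    have hC : (V ⊓ Subgroup.centralizer {v} : Subgroup G) ≤ rr v E := by
      intro c hc
      have hc1 : v * c = c * v := (Subgroup.mem_centralizer_singleton_iff.1 hc.2).symm
      exact B'.mem_of_elt (exists_pow_of_mem A.stp.two (A.le hc.1)) hc1 (A.stp.cE c (A.le hc.1))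
    have h8 : Nat.card (V ⊓ Subgroup.centralizer {v} : Subgroup G) ≤ 8 := by
      have := Subgroup.card_le_of_le hC
      rwa [B'.card_rr] at this
    obtain ⟨K, hK, hKc⟩ := L.exists_K B X
    have horb : ({y | ∃ c ∈ V, c * v * c⁻¹ = y} : Set G) ⊆ (fun u => v * u) '' (K : Set G) := by
      rintro _ ⟨c, hc, rfl⟩
      refine ⟨v⁻¹ * c * v⁻¹⁻¹ * c⁻¹, ?_, ?_⟩
      · have h1 := A.bb_eq_one B X (V.inv_mem hv) hc
        exact (hK _).2 ⟨A.stp.comm_mem B X (P.inv_mem (A.le hv)) (A.le hc), h1⟩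
      · show v * (v⁻¹ * c * v⁻¹⁻¹ * c⁻¹) = c * v * c⁻¹
        group
    have h1 := card_eq_ncard_orbit_mul V v
    have h2 := Set.ncard_le_ncard horb (Set.toFinite _)
    rw [ncard_xU K v] at h2
    have h3 := A.card B X
    have h4 : 0 < Nat.card K := Nat.card_pos
    have h5 := Nat.mul_le_mul h2 h8
    omega

/-- Case (β): the conjugates of `x` in `P` lie in `xU`. -/
theorem VV.beta (B : Base x E) (A : VV x E T U P V h) (X : Expo U k)
    (hβ : ∀ y ∈ V, y ∉ U → x * y * x⁻¹ ≠ y⁻¹) {g : G} (hg : g * x * g⁻¹ ∈ P) :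
    x * (g * x * g⁻¹) ∈ U := by
  rcases A.cover B X hg with h1 | h1
  · exact absurd rfl (A.not_conj B X h1 g)
  · by_contra hc
    apply hβ _ h1 hc
    have h2 := conj_sq_one B g
    set v := g * x * g⁻¹ with hv
    have hvi : v⁻¹ = v := inv_eq_iff_mul_eq_one.mpr h2
    rw [B.xx_mul, mul_inv_rev, B.inv_x, hvi]

/-- `T` normalises `V`; elements of `V ⊔ T`. -/
theorem VV.sup_eq (B : Base x E) (S : Syl x E T) (A : VV x E T U P V h) (X : Expo U k) :
    (V ⊔ T : Subgroup G) = P ⊔ T := by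
  apply le_antisymm
  · exact sup_le_sup A.le le_rfl
  · refine sup_le ?_ le_sup_right
    rw [← A.rr_eq B X]
    exact sup_le le_sup_left (by rw [Subgroup.zpowers_le]; exact Subgroup.mem_sup_right S.xT)

/-- If all involutions of `T / E` lie in `F / E`, then the conjugates of `x` in `P T` lie in `P`. -/
theorem VV.mem_P_of_noInv (B : Base x E) (S : Syl x E T) (A : VV x E T U P V h) (X : Expo U k)
    (hT : ∀ t ∈ T, t ∉ rr x E → t * t ∉ E) {v : G} (hv : v ∈ V ⊔ T) (hv2 : v * v = 1) : v ∈ P := by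
  have L := A.stp.level
  obtain ⟨n, hn, t, ht, rfl⟩ := (mem_sup_of_norm (fun t ht v hv => A.nT B S X ht hv)).1 hv
  by_cases htF : t ∈ rr x E
  · exact P.mul_mem (A.le hn) (A.stp.F_le htF)
  exfalso
  apply hT t ht htF
  have h1 : t * t = (n * (t * n * t⁻¹))⁻¹ := by
    have h2 : n * t * (n * t) = (n * (t * n * t⁻¹)) * (t * t) := by group
    rw [h2] at hv2
    exact eq_inv_of_mul_eq_one_right hv2
  have h3 : t * t ∈ V := by
    rw [h1]
    exact V.inv_mem (V.mul_mem hn (A.nT B S X ht hn))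
  have htt : t * t ∈ T := T.mul_mem ht ht
  have h4 : t * t ∈ rr x E := B.mem_of_elt (exists_pow_of_mem S.two htt) (S.cx _ htt) (S.sq_comm B ht)
  rcases B.mem_rr.1 h4 with h5 | h5
  · exact h5
  · exfalso
    apply A.x_notMem B
    have h6 := V.mul_mem (A.U_le (L.le h5)) (V.inv_mem h3)
    rwa [mul_inv_cancel_right] at h6

/-- **Endgame 1**: if all conjugates of `x` in `P T` lie in `xU`, contradiction. -/
theorem VV.false_of_conj [IsSimpleGroup G] (hG : ¬ ∀ a b : G, a * b = b * a) (B : Base x E)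
    (S : Syl x E T) (A : VV x E T U P V h) (X : Expo U k)
    (hc : ∀ g : G, g * x * g⁻¹ ∈ V ⊔ T → x * (g * x * g⁻¹) ∈ U) : False := by
  have L := A.stp.level
  have hnT : ∀ t ∈ T, ∀ v ∈ V, t * v * t⁻¹ ∈ V := fun t ht v hv => A.nT B S X ht hv
  have hpg : IsPGroup 2 (V ⊔ T : Subgroup G) := sup_pgroup (A.stp.two.to_le A.le) S.two hnT
  have hPle : P ≤ V ⊔ T := by rw [A.sup_eq B S X]; exact le_sup_left
  have hTle : T ≤ V ⊔ T := le_sup_right
  have hSyl : ∃ R : Sylow 2 G, (R : Subgroup G) = V ⊔ T := by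
    apply exists_sylow_eq hpg
    intro Q hQ hle hQN
    apply le_antisymm _ hle
    intro q hq
    have h1 : q * x * q⁻¹ ∈ V ⊔ T := (Subgroup.mem_normalizer_iff.1 (hQN hq) x).1 (hTle S.xT)
    obtain ⟨p, hp, hpx⟩ := A.stp.trans _ (hc q h1)
    rw [B.xx_mul] at hpx
    -- `p⁻¹ q ∈ C(x)`
    have h2 : p⁻¹ * q ∈ Q := Q.mul_mem (Q.inv_mem (hle (hPle hp))) hq
    have h3 : (p⁻¹ * q) * x = x * (p⁻¹ * q) := by
      have h4 : (p⁻¹ * q) * x * (p⁻¹ * q)⁻¹ = x := by
        calc (p⁻¹ * q) * x * (p⁻¹ * q)⁻¹ = p⁻¹ * (q * x * q⁻¹) * p := by group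
          _ = p⁻¹ * (p * x * p⁻¹) * p := by rw [hpx]
          _ = x := by group
      rwa [mul_inv_eq_iff_eq_mul] at h4
    have h4 : (Q ⊓ Subgroup.centralizer {x} : Subgroup G) = T := by
      apply S.max _ (hQ.to_le inf_le_left)
      · exact fun c hc => (Subgroup.mem_centralizer_singleton_iff.1 hc.2).symm
      · exact le_inf (hTle.trans hle) (fun t ht => Subgroup.mem_centralizer_singleton_iff.2 (S.cx t ht).symm)
    have h5 : p⁻¹ * q ∈ T := by
      rw [← h4]
      exact ⟨h2, Subgroup.mem_centralizer_singleton_iff.2 h3⟩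
    have h6 := Subgroup.mul_mem _ (hPle hp) (hTle h5)
    rwa [mul_inv_cancel_left] at h6
  exact false_of_transfer hG hSyl (sup_norm hnT)
    (sup_comm hnT (fun t ht s hs => A.U_le (L.le (S.comm_mem B t ht s hs)))) B.hx (hTle S.xT)
    (A.x_notMem B) (fun g hg => A.U_le (hc g hg))

end

end Cfsg.Agent.GH.N2
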