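import Cfsg.Agent.GH.N2.Quot

/-!
# GH-L2, `|Q| = 2`, `|D| = 4`: commutators in `V`
-/

set_option autoImplicit false
set_option linter.unusedSectionVars false

universe u

namespace Cfsg.Agent.GH.N2

open Cfsg.Agent.GH.E (rr self_mem_rr le_rr rr_mono cj cj_mul cj_inv cj_one cj_zero cj_cj cj_injective
  cj_eq_one cj_succ cj_mem Expo pow_two_pow_succ pow_two_pow_succ' conj_pow' phi card_eq_ncard_orbit_mul
  exists_conj_le exists_pow_eq_inv)

variable {G : Type u} [Group G] {x h : G} {E T U P V : Subgroup G} {k : ℕ}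

section

variable [Finite G]

/-- conjugation by `p ∈ P` fixes the `2 ^ k`-th power of elements of `U` -/
theorem Stp.pow_conj (A : Stp x E T U P h) (X : Expo U k) {p u : G} (hp : p ∈ P) (hu : u ∈ U) :
    (p * u * p⁻¹) ^ 2 ^ k = u ^ 2 ^ k := by
  rw [conj_pow', ← A.cE p hp _ (A.level.pi_mem X hu), mul_inv_cancel_right]

/-- `[v, w] ^ 2 ^ k` -/
def bb (k : ℕ) (v w : G) : G := (v * w * v⁻¹ * w⁻¹) ^ 2 ^ k

theorem Stp.bb_mem (B : Base x E) (A : Stp x E T U P h) (X : Expo U k) {v w : G} (hv : v ∈ P) (hw : w ∈ P) :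
    bb k v w ∈ E := A.level.pi_mem X (A.comm_mem B X hv hw)

theorem Stp.bb_mul_left (B : Base x E) (A : Stp x E T U P h) (X : Expo U k) {v v' w : G} (hv : v ∈ P)
    (hv' : v' ∈ P) (hw : w ∈ P) : bb k (v * v') w = bb k v w * bb k v' w := by
  have h1 := A.comm_mem B X hv hw
  have h2 := A.comm_mem B X hv' hw
  have h3 : v * v' * w * (v * v')⁻¹ * w⁻¹ = (v * (v' * w * v'⁻¹ * w⁻¹) * v⁻¹) * (v * w * v⁻¹ * w⁻¹) := by
    group
  unfold bb
  rw [h3, A.level.mul_pow (A.U_nP B hv h2) h1, A.pow_conj X hv h2]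
  exact B.commE (A.level.pi_mem X h2) (A.level.pi_mem X h1)

theorem Stp.bb_symm (B : Base x E) (A : Stp x E T U P h) (X : Expo U k) {v w : G} (hv : v ∈ P)
    (hw : w ∈ P) : bb k w v = bb k v w := by
  have h1 := A.bb_mem B X hv hw
  have h3 : w * v * w⁻¹ * v⁻¹ = (v * w * v⁻¹ * w⁻¹)⁻¹ := by group
  unfold bb at h1 ⊢
  rw [h3, inv_pow, B.inv_eq h1]

theorem Stp.bb_mul_right (B : Base x E) (A : Stp x E T U P h) (X : Expo U k) {v w w' : G} (hv : v ∈ P)
    (hw : w ∈ P) (hw' : w' ∈ P) : bb k v (w * w') = bb k v w * bb k v w' := by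
  rw [← A.bb_symm B X hv (P.mul_mem hw hw'), A.bb_mul_left B X hw hw' hv, A.bb_symm B X hv hw,
    A.bb_symm B X hv hw']

theorem Stp.bb_self (v : G) : bb k v v = 1 := by
  unfold bb
  rw [mul_inv_cancel_right, mul_inv_cancel, one_pow]

theorem Stp.bb_U (B : Base x E) (A : Stp x E T U P h) (X : Expo U k) {u w : G} (hu : u ∈ U)
    (hw : w ∈ P) : bb k u w = 1 := by
  have h1 : u * w * u⁻¹ * w⁻¹ = u * (w * u⁻¹ * w⁻¹) := by group
  unfold bb
  rw [h1, A.level.mul_pow hu (A.U_nP B hw (U.inv_mem hu)), A.pow_conj X hw (U.inv_mem hu), inv_pow,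
    mul_inv_cancel]

theorem Stp.bb_U' (B : Base x E) (A : Stp x E T U P h) (X : Expo U k) {u w : G} (hu : u ∈ U)
    (hw : w ∈ P) : bb k w u = 1 := by
  rw [← A.bb_symm B X hw (A.UP hu)]
  exact A.bb_U B X hu hw

theorem bb_cj (h : G) (n : ℕ) (v w : G) : bb k (cj h n v) (cj h n w) = cj h n (bb k v w) := by
  unfold bb
  rw [← cj_pow, cj_mul, cj_mul, cj_mul, cj_inv, cj_inv]

/-- if `v, w` have the same image under `phi`, then `bb v w = 1` -/
theorem VV.bb_of_eq (B : Base x E) (A : VV x E T U P V h) (X : Expo U k) {v w w' : G} (hv : v ∈ V)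
    (hw : w ∈ V) (hw' : w' ∈ V) (h1 : phi x k w = phi x k w') : bb k v w = bb k v w' := by
  have h2 := A.eq_mul B X hw hw' h1
  have h3 : w' = w * (w⁻¹ * w') := by group
  rw [h3, A.stp.bb_mul_right B X (A.le hv) (A.le hw) (A.stp.UP h2), A.stp.bb_U' B X h2 (A.le hv), mul_one]

theorem VV.bb_eq_one (B : Base x E) (A : VV x E T U P V h) (X : Expo U k) {v w : G} (hv : v ∈ V)
    (hw : w ∈ V) : bb k v w = 1 := by
  have L := A.stp.level
  have hvE := A.stp.phi_mem B X (A.le hv)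
  have hwE := A.stp.phi_mem B X (A.le hw)
  by_cases hv1 : phi x k v = 1
  · exact A.stp.bb_U B X (A.U_of_phi B X hv hv1) (A.le hw)
  -- `bb v (hv) = 1`
  have h1V := A.cjV 1 hv
  have h2V := A.cjV 2 hv
  have key2 : phi x k (cj h 2 v) = phi x k (v * cj h 1 v) := by
    rw [A.stp.phi_cj, A.stp.phi_mul B X (A.le hv) (A.le h1V), A.stp.phi_cj, L.cj_two B hvE]
  have key : bb k v (cj h 1 v) = 1 := by
    have h1 : cj h 1 (bb k v (cj h 1 v)) = bb k v (cj h 1 v) := by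
      rw [← bb_cj, cj_cj, show (1 : ℕ) + 1 = 2 by norm_num,
        A.bb_of_eq B X h1V h2V (V.mul_mem hv h1V) key2,
        A.stp.bb_mul_right B X (A.le h1V) (A.le hv) (A.le h1V), Stp.bb_self, mul_one]
      exact A.stp.bb_symm B X (A.le hv) (A.le h1V)
    by_contra hc
    apply L.h3 _ (A.stp.bb_mem B X (A.le hv) (A.le h1V)) hc
    rw [cj_succ, cj_zero] at h1
    exact h1
  have c1 : cj h 1 (phi x k v) ≠ phi x k v := by
    have := L.h3 _ hvE hv1
    rw [cj_succ, cj_zero]; exact this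
  have n1 : cj h 1 (phi x k v) ≠ 1 := fun hc => hv1 (cj_eq_one h 1 hc)
  rcases B.mem_cases hvE (L.cjE B 1 hvE) hv1 n1 c1.symm hwE with h1 | h1 | h1 | h1
  · exact A.stp.bb_U' B X (A.U_of_phi B X hw h1) (A.le hv)
  · rw [A.bb_of_eq B X hv hw hv h1, Stp.bb_self]
  · rw [A.bb_of_eq B X hv hw h1V (by rw [h1, A.stp.phi_cj]), key]
  · rw [A.bb_of_eq B X hv hw (V.mul_mem hv h1V)
      (by rw [h1, A.stp.phi_mul B X (A.le hv) (A.le h1V), A.stp.phi_cj]),
      A.stp.bb_mul_right B X (A.le hv) (A.le hv) (A.le h1V), Stp.bb_self, key, mul_one]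

/-- cases for elements of `V` -/
theorem VV.cases (B : Base x E) (A : VV x E T U P V h) (X : Expo U k) {v w : G} (hv : v ∈ V)
    (hv1 : phi x k v ≠ 1) (hw : w ∈ V) : (∃ u ∈ U, w = u) ∨ (∃ u ∈ U, w = v * u) ∨
      (∃ u ∈ U, w = cj h 1 v * u) ∨ (∃ u ∈ U, w = v * cj h 1 v * u) := by
  have L := A.stp.level
  have hvE := A.stp.phi_mem B X (A.le hv)
  have hwE := A.stp.phi_mem B X (A.le hw)
  have h1V := A.cjV 1 hv
  have c1 : cj h 1 (phi x k v) ≠ phi x k v := by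
    have := L.h3 _ hvE hv1
    rw [cj_succ, cj_zero]; exact this
  have n1 : cj h 1 (phi x k v) ≠ 1 := fun hc => hv1 (cj_eq_one h 1 hc)
  have hgen : ∀ q ∈ V, phi x k q = phi x k w → ∃ u ∈ U, w = q * u := fun q hq hqw =>
    ⟨q⁻¹ * w, A.eq_mul B X hq hw hqw, by group⟩
  rcases B.mem_cases hvE (L.cjE B 1 hvE) hv1 n1 c1.symm hwE with h1 | h1 | h1 | h1
  · exact Or.inl ⟨w, A.U_of_phi B X hw h1, rfl⟩
  · exact Or.inr (Or.inl (hgen v hv h1.symm))
  · exact Or.inr (Or.inr (Or.inl (hgen _ h1V (by rw [h1, A.stp.phi_cj]))))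
  · exact Or.inr (Or.inr (Or.inr (hgen _ (V.mul_mem hv h1V)
      (by rw [h1, A.stp.phi_mul B X (A.le hv) (A.le h1V), A.stp.phi_cj]))))

theorem VV.U_lt (B : Base x E) (A : VV x E T U P V h) (X : Expo U k) : U < V := by
  refine lt_of_le_of_ne A.U_le (fun hc => ?_)
  obtain ⟨e, he, he1⟩ := B.exists_ne_one
  obtain ⟨v, hv, hve⟩ := A.phi_surj B X he
  rw [← hc] at hv
  exact he1 (by rw [← hve]; exact A.stp.level.phi_U B X hv)

end

end Cfsg.Agent.GH.N2
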