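import Cfsg.Agent.GH.ETowerA

/-!
# GH-L2, `|Q| = 2`, `|D| = 4` (bb GH #6798): basic structures

* `Base x E`: `x` an involution, `E` a four-group centralised by `x`; 2-subgroups of `C(x)` have order at most 16
  and abelian ones have order at most 8.
* `Level x E U h`: `U` an abelian 2-group, `Ω₁(U) = E`, inverted by `x`, normalised by `h ∈ C(x)`, `h` a 3-cycle on
  `E#`.
* `Syl x E T`: `T` is a Sylow 2-subgroup of `C(x)` containing `E⟨x⟩` and normalising `E`.
* `Nx x U`: the elements normalising `U` and `xU`.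
-/

set_option autoImplicit false

namespace Cfsg.Agent.GH.N2

open Cfsg.Agent.GH.E (rr mem_rr self_mem_rr le_rr rr_mono cj cj_mul cj_inv cj_one cj_zero cj_cj cj_injective
  cj_eq_one cj_succ cj_mem Expo pow_two_pow_succ pow_two_pow_succ' conj_pow')

variable {G : Type*} [Group G]

/-- `x` is an involution, `E` a four-group centralised by `x`; 2-subgroups of `C(x)` have order at most 16, abelian
ones order at most 8. -/
structure Base (x : G) (E : Subgroup G) : Prop where
  hx : x * x = 1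
  hxE : x ∉ E
  card : Nat.card E = 4
  sq : ∀ e ∈ E, e * e = 1
  comm : ∀ e ∈ E, x * e = e * x
  cent_card : ∀ Q : Subgroup G, IsPGroup 2 Q → (∀ q ∈ Q, x * q = q * x) → Nat.card Q ≤ 16
  cent_abel : ∀ Q : Subgroup G, IsPGroup 2 Q → (∀ q ∈ Q, x * q = q * x) →
    (∀ p ∈ Q, ∀ q ∈ Q, p * q = q * p) → Nat.card Q ≤ 8

/-- A level of the homocyclic tower over `E`. -/
structure Level (x : G) (E U : Subgroup G) (h : G) : Prop where
  le : E ≤ U
  comm : ∀ u ∈ U, ∀ v ∈ U, u * v = v * u
  pgroup : IsPGroup 2 U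
  inv : ∀ u ∈ U, x * u * x⁻¹ = u⁻¹
  omega : ∀ u ∈ U, u * u = 1 → u ∈ E
  hx : h * x = x * h
  hU : ∀ u ∈ U, h * u * h⁻¹ ∈ U
  h3 : ∀ e ∈ E, e ≠ 1 → h * e * h⁻¹ ≠ e

/-- `T` is a Sylow 2-subgroup of `C(x)`, contains `E⟨x⟩` and normalises `E`. -/
structure Syl (x : G) (E T : Subgroup G) : Prop where
  two : IsPGroup 2 T
  xT : x ∈ T
  ET : E ≤ T
  cx : ∀ t ∈ T, x * t = t * x
  nE : ∀ t ∈ T, ∀ e ∈ E, t * e * t⁻¹ ∈ E
  max : ∀ Q : Subgroup G, IsPGroup 2 Q → (∀ q ∈ Q, x * q = q * x) → T ≤ Q → Q = T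

variable {x h : G} {E U : Subgroup G}

/-! ### Base -/

theorem Base.inv_x (B : Base x E) : x⁻¹ = x := inv_eq_iff_mul_eq_one.mpr B.hx

theorem Base.x_ne_one (B : Base x E) : x ≠ 1 := fun h1 => B.hxE (h1 ▸ E.one_mem)

theorem Base.inv_eq (B : Base x E) {e : G} (he : e ∈ E) : e⁻¹ = e := inv_eq_iff_mul_eq_one.mpr (B.sq e he)

theorem Base.commE (B : Base x E) {u v : G} (hu : u ∈ E) (hv : v ∈ E) : u * v = v * u := by
  have h1 := B.inv_eq (E.mul_mem hu hv)
  rw [mul_inv_rev, B.inv_eq hu, B.inv_eq hv] at h1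
  exact h1.symm

theorem Base.xx_mul (B : Base x E) (g : G) : x * (x * g) = g := by rw [← mul_assoc, B.hx, one_mul]

theorem Base.exists_ne_one (B : Base x E) : ∃ e ∈ E, e ≠ 1 := by
  by_contra hcon
  push Not at hcon
  have h1 : E = ⊥ := (Subgroup.eq_bot_iff_forall E).2 hcon
  have h2 := B.card
  rw [h1, Subgroup.card_bot] at h2
  omega

theorem Base.conj_mem (B : Base x E) {u : G} (hu : u ∈ E) : x * u * x⁻¹ ∈ E := by
  rw [B.comm u hu, mul_inv_cancel_right]; exact hu

theorem Base.mem_rr (B : Base x E) {g : G} : g ∈ rr x E ↔ g ∈ E ∨ x * g ∈ E :=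
  Cfsg.Agent.GH.E.mem_rr B.hx (fun _ hu => B.conj_mem hu)

theorem Base.card_rr (B : Base x E) : Nat.card (rr x E) = 8 := by
  rw [Cfsg.Agent.GH.E.card_rr B.hx (fun _ hu => B.conj_mem hu) B.hxE, B.card]

/-- `E⟨x⟩` centralises `x`. -/
theorem Base.rr_comm (B : Base x E) {g : G} (hg : g ∈ rr x E) : x * g = g * x := by
  rcases B.mem_rr.1 hg with hg | hg
  · exact B.comm g hg
  · have h1 := B.comm _ hg
    rw [← mul_assoc, B.hx, one_mul] at h1
    calc x * g = x * (x * g * x) := by rw [← h1]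
      _ = (x * x) * g * x := by group
      _ = g * x := by rw [B.hx, one_mul]

/-- `E⟨x⟩` centralises `E`. -/
theorem Base.rr_comm_E (B : Base x E) {g e : G} (hg : g ∈ rr x E) (he : e ∈ E) : e * g = g * e := by
  rcases B.mem_rr.1 hg with hg | hg
  · exact B.commE he hg
  · have h1 := B.commE he hg
    have h2 := B.comm e he
    calc e * g = (x * x) * e * g := by rw [B.hx, one_mul]
      _ = x * (x * e) * g := by group
      _ = x * (e * x) * g := by rw [h2]
      _ = x * (e * (x * g)) := by group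
      _ = x * (x * g * e) := by rw [h1]
      _ = (x * x) * g * e := by group
      _ = g * e := by rw [B.hx, one_mul]

theorem Base.rr_sq (B : Base x E) {g : G} (hg : g ∈ rr x E) : g * g = 1 := by
  rcases B.mem_rr.1 hg with hg | hg
  · exact B.sq g hg
  · have h1 := B.comm _ hg
    rw [← mul_assoc, B.hx, one_mul] at h1
    -- g = x * g * x
    have h2 := B.sq _ hg
    calc g * g = (x * g * x) * g := by rw [← h1]
      _ = x * g * (x * g) := by group
      _ = 1 := h2

theorem Base.rr_comm_rr (B : Base x E) {g k : G} (hg : g ∈ rr x E) (hk : k ∈ rr x E) : g * k = k * g := by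
  rcases B.mem_rr.1 hg with hg | hg
  · exact B.rr_comm_E hk hg
  · have h1 := B.rr_comm_E hk hg
    have h2 := B.rr_comm hk
    calc g * k = x * (x * g * k) := by rw [← mul_assoc, ← mul_assoc, B.hx, one_mul]
      _ = x * (k * (x * g)) := by rw [h1]
      _ = (x * k) * (x * g) := by group
      _ = (k * x) * (x * g) := by rw [h2]
      _ = k * (x * x) * g := by group
      _ = k * g := by rw [B.hx, mul_one]

theorem Base.rr_pgroup (B : Base x E) : IsPGroup 2 (rr x E) :=
  IsPGroup.of_card (n := 3) (by rw [B.card_rr]; norm_num)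

/-- A 2-subgroup of `C(x) ∩ C(E)` containing `E⟨x⟩` is `E⟨x⟩`. -/
theorem Base.eq_rr [Finite G] (B : Base x E) {Q : Subgroup G} (hQ : IsPGroup 2 Q) (hle : rr x E ≤ Q)
    (hx : ∀ q ∈ Q, x * q = q * x) (hE : ∀ q ∈ Q, ∀ e ∈ E, e * q = q * e) : Q = rr x E := by
  have : Fact (Nat.Prime 2) := ⟨Nat.prime_two⟩
  symm
  have hF : ∀ q ∈ Q, ∀ f ∈ rr x E, q * f = f * q := by
    intro q hq f hf
    rcases B.mem_rr.1 hf with h1 | h1
    · exact (hE q hq f h1).symm
    · have h2 := hE q hq _ h1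
      have h3 := hx q hq
      calc q * f = q * (x * (x * f)) := by rw [← mul_assoc x x, B.hx, one_mul]
        _ = (q * x) * (x * f) := by group
        _ = (x * q) * (x * f) := by rw [h3]
        _ = x * (q * (x * f)) := by group
        _ = x * ((x * f) * q) := by rw [h2]
        _ = (x * x) * f * q := by group
        _ = f * q := by rw [B.hx, one_mul]
  apply Subgroup.eq_of_le_of_card_ge hle
  rw [B.card_rr]
  apply B.cent_abel Q hQ hx
  -- `Q` is abelian: `Q / F` has order at most 2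
  have h16 := B.cent_card Q hQ hx
  obtain ⟨n, hn⟩ := IsPGroup.iff_card.mp hQ
  have h8 : 8 ∣ Nat.card Q := by
    rw [← B.card_rr]; exact Subgroup.card_dvd_of_le hle
  have hidx : (rr x E).relIndex Q ≤ 2 := by
    have h1 := Subgroup.relIndex_mul_relIndex ⊥ (rr x E) Q bot_le hle
    rw [Subgroup.relIndex_bot_left, Subgroup.relIndex_bot_left, B.card_rr] at h1
    omega
  intro p hp q hq
  by_cases hpF : p ∈ rr x E
  · exact (hF q hq p hpF).symm
  by_cases hqF : q ∈ rr x E
  · exact hF p hp q hqF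
  · have h2 : (rr x E).relIndex Q = 2 := by
      have h3 : (rr x E).relIndex Q ≠ 0 := by
        rw [Subgroup.relIndex]; exact Subgroup.index_ne_zero_of_finite
      have h4 : (rr x E).relIndex Q ≠ 1 := by
        rw [Ne, Subgroup.relIndex_eq_one]
        exact fun hc => hpF (hc hp)
      omega
    have h3 : q * p⁻¹ ∈ rr x E := by
      have h4 : ((rr x E).subgroupOf Q).index = 2 := h2
      have h5 := (Subgroup.mul_mem_iff_of_index_two h4 (a := ⟨q, hq⟩) (b := (⟨p, hp⟩ : Q)⁻¹)).2
        ⟨fun hc => absurd (Subgroup.mem_subgroupOf.1 hc) hqF, fun hc => by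
          rw [Subgroup.inv_mem_iff] at hc
          exact absurd (Subgroup.mem_subgroupOf.1 hc) hpF⟩
      exact Subgroup.mem_subgroupOf.1 h5
    have h4 := hF p hp _ h3
    calc p * q = p * (q * p⁻¹) * p := by group
      _ = (q * p⁻¹) * p * p := by rw [h4]
      _ = q * p := by group

end Cfsg.Agent.GH.N2
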