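import Cfsg.Agent.GH.L2QTwo.Inst
import Cfsg.Agent.GH.TOne.Inst
import Cfsg.Agent.GH.N2.Defs

/-!
# GH-L2, `|Q| = 2`: `Base` and `Syl` from the 2-component

`K` a 2-component of `C(x)`, `K / O(K) = L₂(q)` or `A₇`, `T` a Sylow 2-subgroup of `C(x)`, `T ⊓ fix K = {1, x}`.
* `exists_base_two`: `|T ⊓ K| = 4`: `Base x (T ⊓ K)`, `Syl x (T ⊓ K) T` and `h ∈ C(x)` permuting `(T ⊓ K)#`.
* `exists_base_three`: `|T ⊓ K| = 8`, `|T| = 16`: the same for both four-groups of `T ⊓ K`.
-/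

set_option autoImplicit false
set_option linter.unusedSectionVars false

open Cfsg Subgroup
open Cfsg.Agent.SignalizersComponents
open Cfsg.Agent.Intrinsic.Basic Cfsg.Agent.GH.Defs Cfsg.Agent.GH.Comp
open Cfsg.Agent.Walter.SylowIn Cfsg.Agent.GH.L2Frame
open Cfsg.Agent.GH.L2One Cfsg.Agent.GH.L2AutPlus
open Cfsg.Agent.GH.L2Aut (Four)

namespace Cfsg.Agent.GH.N2

variable {G : Type*} [Group G]

/-- A four-group of `K`: some `k ∈ K` permutes it, centralising a 2-group `P` fixing `K`. -/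
theorem exists_rho [Finite G] {H K T : Subgroup G} (F : L2Frame.Frame H K T) (hg : Good (STop K))
    {a b : G} (ha : a ∈ K) (hb : b ∈ K) (h : Four a b) {P : Subgroup G} (hP : IsPGroup 2 P)
    (hPK : P ≤ fix K) (hPab : ∀ p ∈ P, p * a = a * p ∧ p * b = b * p) :
    ∃ k ∈ K, k * a * k⁻¹ = b ∧ k * b * k⁻¹ = a * b ∧ ∀ p ∈ P, p * k = k * p := by
  obtain ⟨A, _, d, p1, p2, Q, -⟩ := hg
  obtain ⟨a', ha'⟩ : ∃ a' : K, a' = ⟨a, ha⟩ := ⟨_, rfl⟩
  obtain ⟨b', hb'⟩ : ∃ b' : K, b' = ⟨b, hb⟩ := ⟨_, rfl⟩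
  have hF : Four a' b' := by
    rw [ha', hb']
    exact ⟨Subtype.ext h.aa, Subtype.ext h.bb, fun h1 => h.a1 (congrArg Subtype.val h1),
      fun h1 => h.b1 (congrArg Subtype.val h1), fun h1 => h.ne (congrArg Subtype.val h1),
      Subtype.ext h.comm⟩
  have hmem : ∀ x ∈ hF.sub, (x : G) ∈ centralizer (P : Set G) := by
    have h1 : (a' : G) ∈ centralizer (P : Set G) := by
      rw [mem_centralizer_iff, ha']
      exact fun p hp => (hPab p hp).1
    have h2 : (b' : G) ∈ centralizer (P : Set G) := by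
      rw [mem_centralizer_iff, hb']
      exact fun p hp => (hPab p hp).2
    rintro x (rfl | rfl | rfl | rfl)
    · exact one_mem _
    · exact h1
    · exact h2
    · exact mul_mem h1 h2
  have hne : ∀ x : K, x * x = 1 → x ≠ 1 → topMap K x ≠ 1 := fun x hx hx1 h1 => by
    have h2 : x ∈ (topMap K).ker := h1
    exact hx1 (eq_one_of_two (odd_card_ker F.odd) h2 (n := 1) (by rw [pow_one, pow_two, hx]))
  have hF' : Four (topMap K a') (topMap K b') := by
    refine ⟨by rw [← map_mul, hF.aa, map_one], by rw [← map_mul, hF.bb, map_one],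
      hne _ hF.aa hF.a1, hne _ hF.bb hF.b1, fun h1 => ?_, by rw [← map_mul, hF.comm, map_mul]⟩
    apply hne _ hF.right.bb hF.right.b1
    rw [map_mul, ← h1, ← map_mul, hF.aa, map_one]
  obtain ⟨l, hl1, hl2⟩ := Q.four _ _ hF'
  have hl3 : l * topMap K (a' * b') * l⁻¹ = topMap K a' := by
    have e1 : l * topMap K (a' * b') * l⁻¹ = (l * topMap K a' * l⁻¹) *
        (l * topMap K b' * l⁻¹) := by rw [map_mul]; group
    rw [e1, hl1, hl2, ← map_mul, ← map_mul]
    congr 1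
    rw [hF.comm, ← mul_assoc, hF.bb, one_mul]
  obtain ⟨k, hkP, -, hk⟩ := exists_conj_fixed F.comp F.odd hP hPK hF.sub_two hF.sub_two hmem hmem
    (l := l) (by
      rintro x (hx | hx | hx | hx) <;> rw [hx]
      · exact ⟨1, Or.inl rfl, by rw [map_one]; group⟩
      · exact ⟨b', Or.inr (Or.inr (Or.inl rfl)), hl1⟩
      · exact ⟨a' * b', Or.inr (Or.inr (Or.inr rfl)), by rw [hl2, map_mul]⟩
      · exact ⟨a', Or.inr (Or.inl rfl), hl3⟩)
  have h1 := hk a' (Or.inr (Or.inl rfl)) b' (Or.inr (Or.inr (Or.inl rfl))) hl1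
  have h2 := hk b' (Or.inr (Or.inr (Or.inl rfl))) (a' * b') (Or.inr (Or.inr (Or.inr rfl)))
    (by rw [hl2, map_mul])
  rw [ha', hb'] at h1 h2
  exact ⟨k, k.2, congrArg Subtype.val h1, congrArg Subtype.val h2, fun p hp =>
    mem_centralizer_iff.1 hkP p hp⟩

/-- `Base` and `Syl` from the order of `T`. -/
theorem base_syl [Finite G] {x : G} {T E : Subgroup G} (hx : x * x = 1) (hT : IsPGroup 2 T)
    (hxT : x ∈ T) (hTx : ∀ t ∈ T, x * t = t * x)
    (hsyl : ∀ P : Subgroup G, IsPGroup 2 P → (∀ p ∈ P, x * p = p * x) →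
      ∃ g, x * g = g * x ∧ ∀ p ∈ P, g * p * g⁻¹ ∈ T)
    (hET : E ≤ T) (hxE : x ∉ E) (hE4 : Nat.card E = 4) (hsq : ∀ e ∈ E, e * e = 1)
    (hnorm : ∀ t ∈ T, ∀ e ∈ E, t * e * t⁻¹ ∈ E) (h16 : Nat.card T ≤ 16)
    (hab : Nat.card T = 16 → ∃ s ∈ T, ∃ t ∈ T, s * t ≠ t * s) : Base x E ∧ Syl x E T := by
  have : Fact (Nat.Prime 2) := ⟨Nat.prime_two⟩
  have hcard : ∀ Q : Subgroup G, IsPGroup 2 Q → (∀ q ∈ Q, x * q = q * x) →
      Nat.card Q ≤ Nat.card T := by
    intro Q hQ hQx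
    obtain ⟨g, -, hg⟩ := hsyl Q hQ hQx
    have h1 : Q.map (MulAut.conj g).toMonoidHom ≤ T := by
      rintro _ ⟨q, hq, rfl⟩
      exact hg q hq
    rw [← card_map_of_injective (f := (MulAut.conj g).toMonoidHom) (K := Q)
      (MulAut.conj g).injective]
    exact Subgroup.card_le_of_le h1
  refine ⟨⟨hx, hxE, hE4, hsq, fun e he => hTx e (hET he), fun Q hQ hQx => (hcard Q hQ hQx).trans h16,
    ?_⟩, ⟨hT, hxT, hET, hTx, hnorm, ?_⟩⟩
  · intro Q hQ hQx hQc
    by_contra hlt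
    obtain ⟨n, hn⟩ := IsPGroup.iff_card.mp hQ
    have h1 := (hcard Q hQ hQx).trans h16
    have h2 : n = 4 := by
      have h3 : 2 ^ 3 < 2 ^ n := by rw [← hn]; omega
      have h4 : 2 ^ n ≤ 2 ^ 4 := by rw [← hn]; omega
      have h5 := (Nat.pow_lt_pow_iff_right (by norm_num : 1 < 2)).1 h3
      have h6 := (Nat.pow_le_pow_iff_right (by norm_num : 1 < 2)).1 h4
      omega
    rw [h2] at hn
    have h3 : Nat.card T = 16 := le_antisymm h16 (by
      have := hcard Q hQ hQx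
      omega)
    obtain ⟨g, -, hg⟩ := hsyl Q hQ hQx
    have h4 : Q.map (MulAut.conj g).toMonoidHom = T := by
      apply Subgroup.eq_of_le_of_card_ge
      · rintro _ ⟨q, hq, rfl⟩
        exact hg q hq
      · rw [card_map_of_injective (f := (MulAut.conj g).toMonoidHom) (K := Q)
          (MulAut.conj g).injective]
        omega
    obtain ⟨s, hs, t, ht, hst⟩ := hab h3
    rw [← h4] at hs ht
    obtain ⟨s', hs', rfl⟩ := hs
    obtain ⟨t', ht', rfl⟩ := ht
    apply hst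
    rw [← map_mul, ← map_mul, hQc s' hs' t' ht']
  · intro Q hQ hQx hTQ
    exact (Subgroup.eq_of_le_of_card_ge hTQ (hcard Q hQ hQx)).symm

section frame

variable [Finite G] {A : Type*} [Group A] {x : G} {K T D : Subgroup G} {d : ℕ} {r c : G}
  {o1 : G → ℤˣ} {o2 : G → A}

theorem dihD (F : L2QTwo.Frame x K T D d r c o1 o2) : AutSwap.Dih D d r c :=
  ⟨F.d_ge, F.r_mem, F.c_mem, F.cc, F.crc, F.or_eq, F.c_not, F.D_form⟩

theorem cardD (F : L2QTwo.Frame x K T D d r c o1 o2) : Nat.card D = 2 ^ d :=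
  TOne.card_of_dih (dihD F)

/-- the inner elements -/
theorem ncard_le (F : L2QTwo.Frame x K T D d r c o1 o2) {U : Set G}
    (hU : ∀ t ∈ U, ∃ e ∈ D, t = e ∨ t = x * e) : U.ncard ≤ 2 * 2 ^ d := by
  have h1 : U ⊆ (D : Set G) ∪ (fun e => x * e) '' (D : Set G) := by
    intro t ht
    obtain ⟨e, he, rfl | rfl⟩ := hU t ht
    · exact Or.inl he
    · exact Or.inr ⟨e, he, rfl⟩
  have h2 := Set.ncard_le_ncard h1 (Set.toFinite _)
  have h3 := Set.ncard_union_le (D : Set G) ((fun e => x * e) '' (D : Set G))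
  have h4 : ((fun e => x * e) '' (D : Set G)).ncard ≤ (D : Set G).ncard :=
    Set.ncard_image_le (Set.toFinite _)
  have h5 : (D : Set G).ncard = 2 ^ d := cardD F
  omega

/-- `|T| ≤ 16` if `d = 2`. -/
theorem card_T_le (F : L2QTwo.Frame x K T D 2 r c o1 o2) : Nat.card T ≤ 16 := by
  classical
  have hker : ∀ t ∈ T, o1 t = 1 → ∃ e ∈ D, t = e ∨ t = x * e := fun t ht h1 =>
    F.ker t ht h1 (F.small rfl t ht).1
  by_cases hall : ∀ t ∈ T, o1 t = 1
  · have h1 := ncard_le F (U := (T : Set G)) (fun t ht => hker t ht (hall t ht))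
    have h2 : (T : Set G).ncard = Nat.card T := rfl
    omega
  · push Not at hall
    obtain ⟨u, hu, hu1⟩ := hall
    have h1 : (T : Set G) ⊆ {t | t ∈ T ∧ o1 t = 1} ∪ (fun t => t * u) '' {t | t ∈ T ∧ o1 t = 1} := by
      intro t ht
      by_cases ht1 : o1 t = 1
      · exact Or.inl ⟨ht, ht1⟩
      · refine Or.inr ⟨t * u⁻¹, ⟨T.mul_mem ht (T.inv_mem hu), ?_⟩, by group⟩
        rw [F.o1_mul' ht (T.inv_mem hu), F.o1_inv hu]
        exact units_mul ht1 (fun h => hu1 (inv_eq_one.1 h))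
    have h2 := Set.ncard_le_ncard h1 (Set.toFinite _)
    have h3 := Set.ncard_union_le {t | t ∈ T ∧ o1 t = 1} ((fun t => t * u) '' {t | t ∈ T ∧ o1 t = 1})
    have h4 : ((fun t => t * u) '' {t | t ∈ T ∧ o1 t = 1}).ncard ≤ {t | t ∈ T ∧ o1 t = 1}.ncard :=
      Set.ncard_image_le (Set.toFinite _)
    have h5 := ncard_le F (U := {t | t ∈ T ∧ o1 t = 1}) (fun t ht => hker t ht.1 ht.2)
    have h6 : (T : Set G).ncard = Nat.card T := rfl
    omega

theorem base_two (F : L2QTwo.Frame x K T D 2 r c o1 o2) : Base x D ∧ Syl x D T := by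
  have hD := dihD F
  have hr1 : r ≠ 1 := by
    intro h
    have := F.or_eq
    rw [h, orderOf_one] at this
    norm_num at this
  obtain ⟨hD', hrc, hrr, hcc⟩ := dih_two hD F.r_mem F.c_mem hr1 hD.c_ne
    (fun h => F.c_not 1 (by rw [zpow_one, h]))
  have hsq : ∀ e ∈ D, e * e = 1 := by
    have key : ∀ k : ℤ, r ^ k * r ^ k = 1 := by
      intro k
      rw [← (Commute.refl r).mul_zpow, hrr, one_zpow]
    intro e he
    obtain ⟨k, hk | hk⟩ := F.D_form e he
    · rw [hk]; exact key k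
    · have h1 : Commute (r ^ k) c := (show Commute r c from hrc).zpow_left k
      rw [hk, h1.symm.mul_mul_mul_comm, key, hcc, mul_one]
  refine base_syl F.xx F.T_two F.x_mem F.T_comm F.T_syl F.D_le F.x_not (by rw [cardD F]; norm_num) hsq
    (fun t ht e he => F.D_norm ht he) (card_T_le F) ?_
  intro h16
  by_contra hcon
  push Not at hcon
  have h1 : ∀ t ∈ T, ∃ e ∈ D, t = e ∨ t = x * e := by
    intro t ht
    have h2 := F.small rfl t ht
    exact F.ker t ht (h2.2.2 (fun e he => hcon t ht e (F.D_le he))) h2.1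
  have h2 := ncard_le F (U := (T : Set G)) h1
  have h3 : (T : Set G).ncard = Nat.card T := rfl
  omega

end frame

/-- **`|T ⊓ K| = 4`.** -/
theorem exists_base_two [Finite G] {x : G} {K T : Subgroup G} (hx : orderOf x = 2)
    (F : L2Frame.Frame (centralizer ({x} : Set G)) K T)
    (hn : centralizer ({x} : Set G) ≤ normalizer (K : Set G)) (hg : Good (STop K))
    (hQ : ∀ q ∈ T ⊓ fix K, q = 1 ∨ q = x) (h4 : Nat.card ↥(T ⊓ K) = 4) :
    Base x (T ⊓ K) ∧ Syl x (T ⊓ K) T ∧ ∃ h ∈ K, h * x = x * h ∧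
      (∀ e ∈ T ⊓ K, h * e * h⁻¹ ∈ T ⊓ K) ∧ ∀ e ∈ T ⊓ K, e ≠ 1 → h * e * h⁻¹ ≠ e := by
  have : Fact (Nat.Prime 2) := ⟨Nat.prime_two⟩
  obtain ⟨A, _, d, r, c, o1, o2, F'⟩ := L2QTwo.exists_frame hx F hn hg hQ
  have hd : d = 2 := by
    have h1 := cardD F'
    rw [h4] at h1
    exact (Nat.pow_right_injective le_rfl (show 2 ^ 2 = 2 ^ d from h1)).symm
  subst hd
  obtain ⟨hB, hS⟩ := base_two F'
  refine ⟨hB, hS, ?_⟩
  have hr1 : r ≠ 1 := by
    intro h
    have := F'.or_eq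
    rw [h, orderOf_one] at this
    norm_num at this
  have hrc : r ≠ c := fun h => F'.c_not 1 (by rw [zpow_one, h])
  have h4' : Four r c := ⟨hB.sq r F'.r_mem, F'.cc, hr1, F'.c_ne, hrc, hB.commE F'.r_mem F'.c_mem⟩
  obtain ⟨k, hk, h5, h6, h7⟩ := exists_rho F hg (F'.D_le_K F'.r_mem) (F'.D_le_K F'.c_mem) h4'
    (P := zpowers x) (isPGroup_zpowers (n := 1) (by rw [pow_one, pow_two, F'.xx])) (by
      rw [zpowers_le, mem_fix]
      exact XSet.fixes_of_comm (fun y hy => F'.K_comm y hy))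
    (by
      intro p hp
      obtain ⟨i, rfl⟩ := mem_zpowers_iff.1 hp
      have e1 : Commute x r := F'.x_comm_D F'.r_mem
      have e2 : Commute x c := F'.x_comm_D F'.c_mem
      exact ⟨(e1.zpow_left i).eq, (e2.zpow_left i).eq⟩)
  have hkx : k * x = x * k := (F'.K_comm k hk).symm
  have h8 : k * (r * c) * k⁻¹ = r := by
    have e1 : k * (r * c) * k⁻¹ = (k * r * k⁻¹) * (k * c * k⁻¹) := by group
    rw [e1, h5, h6, h4'.comm, ← mul_assoc, h4'.bb, one_mul]
  have hform : ∀ e ∈ T ⊓ K, e = 1 ∨ e = r ∨ e = c ∨ e = r * c := by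
    intro e he
    have hD := dihD F'
    have hrr := hB.sq r F'.r_mem
    have hrk : ∀ k : ℤ, r ^ k = 1 ∨ r ^ k = r := by
      intro k
      rcases Int.even_or_odd k with ⟨m, hm⟩ | ⟨m, hm⟩
      · left
        rw [hm, ← two_mul, zpow_mul, zpow_two, hrr, one_zpow]
      · right
        rw [hm, zpow_add, zpow_mul, zpow_two, hrr, one_zpow, one_mul, zpow_one]
    obtain ⟨k, hk | hk⟩ := F'.D_form e he <;> rcases hrk k with h1 | h1 <;> rw [h1] at hk
    · exact Or.inl hk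
    · exact Or.inr (Or.inl hk)
    · rw [one_mul] at hk
      exact Or.inr (Or.inr (Or.inl hk))
    · exact Or.inr (Or.inr (Or.inr hk))
  refine ⟨k, hk, hkx, ?_, ?_⟩
  · intro e he
    rcases hform e he with rfl | rfl | rfl | rfl
    · rw [mul_one, mul_inv_cancel]; exact one_mem _
    · rw [h5]; exact F'.c_mem
    · rw [h6]; exact mul_mem F'.r_mem F'.c_mem
    · rw [h8]; exact F'.r_mem
  · intro e he he1
    rcases hform e he with rfl | rfl | rfl | rfl
    · exact absurd rfl he1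
    · rw [h5]; exact hrc.symm
    · rw [h6]; exact fun h => hr1 (mul_eq_right.1 h)
    · rw [h8]; exact fun h => F'.c_ne (left_eq_mul.1 h)

/-- The four-group `⟨z, e⟩`, `e` a reflection of `D`, `|D| = 8`, `T = ⟨x⟩ × D`. -/
theorem base_three [Finite G] {A : Type*} [Group A] {x : G} {K T D : Subgroup G} {r c : G}
    {o1 : G → ℤˣ} {o2 : G → A} (F : L2QTwo.Frame x K T D 3 r c o1 o2) (h16 : Nat.card T = 16)
    {e : G} (he : e ∈ D) (h : Four (r ^ 2) e) : Base x h.sub ∧ Syl x h.sub T := by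
  have hz : r ^ 2 ^ (3 - 2) = r ^ 2 := by norm_num
  have hsub : h.sub ≤ D := by
    rintro y (rfl | rfl | rfl | rfl)
    · exact one_mem _
    · exact D.pow_mem F.r_mem 2
    · exact he
    · exact D.mul_mem (D.pow_mem F.r_mem 2) he
  -- `T = D ∪ xD`
  have hT : ∀ t ∈ T, ∃ f ∈ D, t = f ∨ t = x * f := by
    have h1 : (D : Set G) ∪ (fun e => x * e) '' (D : Set G) = (T : Set G) := by
      apply Set.eq_of_subset_of_ncard_le
      · rintro y (hy | ⟨f, hf, rfl⟩)
        · exact F.D_le hy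
        · exact T.mul_mem F.x_mem (F.D_le hf)
      · have h2 : Disjoint (D : Set G) ((fun e => x * e) '' (D : Set G)) := by
          rw [Set.disjoint_left]
          rintro _ hy ⟨f, hf, rfl⟩
          exact F.xD_ne hf hy rfl
        rw [Set.ncard_union_eq h2 (Set.toFinite _) (Set.toFinite _),
          Set.ncard_image_of_injective _ (mul_right_injective x)]
        have h3 : (D : Set G).ncard = 2 ^ 3 := cardD F
        have h4 : (T : Set G).ncard = 16 := h16
        omega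
      · exact Set.toFinite _
    intro t ht
    have h2 : t ∈ (D : Set G) ∪ (fun e => x * e) '' (D : Set G) := by rw [h1]; exact ht
    rcases h2 with h2 | ⟨f, hf, h2⟩
    · exact ⟨t, h2, Or.inl rfl⟩
    · exact ⟨f, hf, Or.inr h2.symm⟩
  have hnD : ∀ f ∈ D, ∀ y ∈ h.sub, f * y * f⁻¹ ∈ h.sub := by
    have hfz : ∀ f ∈ D, f * r ^ 2 * f⁻¹ = r ^ 2 := by
      intro f hf
      have h1 := F.z_comm hf
      rw [hz] at h1
      rw [← h1, mul_inv_cancel_right]
    have key : ∀ f ∈ D, f * e * f⁻¹ = e ∨ f * e * f⁻¹ = r ^ 2 * e := by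
      intro f hf
      obtain ⟨k, hk⟩ := refl_of (dihD F) he h.bb ⟨r, F.r_mem, by
        intro h1
        obtain ⟨k, hk | hk⟩ := F.D_form e he
        · -- `e` a power of `r`: then `e = z`
          rcases F.rot_sq (k := k) (by rw [← hk]; exact h.bb) with h2 | h2
          · exact h.b1 (by rw [hk, h2])
          · exact h.ne (by rw [hk, h2, hz])
        · have h2 : r * (r ^ k * c) * (r ^ k * c)⁻¹ = (r ^ k * c) * r * (r ^ k * c)⁻¹ := by
            rw [← hk, h1]
          have h3 : (r ^ k * c) * r * (r ^ k * c)⁻¹ = r⁻¹ := by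
            calc (r ^ k * c) * r * (r ^ k * c)⁻¹ = r ^ k * (c * r * c⁻¹) * (r ^ k)⁻¹ := by group
              _ = r⁻¹ := by rw [F.crc]; group
          rw [mul_inv_cancel_right, h3] at h2
          have h4 : r ^ 2 = 1 := by
            rw [pow_two]
            nth_rw 1 [h2]
            exact inv_mul_cancel r
          exact h.a1 h4⟩
      have hrot : ∀ m : ℤ, (r ^ 2) ^ m = 1 ∨ (r ^ 2) ^ m = r ^ 2 := by
        intro m
        rcases Int.even_or_odd m with ⟨j, hj⟩ | ⟨j, hj⟩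
        · left
          rw [hj, ← two_mul, zpow_mul, zpow_two, h.aa, one_zpow]
        · right
          rw [hj, zpow_add, zpow_mul, zpow_two, h.aa, one_zpow, one_mul, zpow_one]
      have hD := dihD F
      obtain ⟨j, hj | hj⟩ := F.D_form f hf
      · have h1 : f * e * f⁻¹ = (r ^ 2) ^ j * e := by
          rw [hj, hk, ← mul_assoc, ← zpow_add, ← zpow_neg, mul_assoc, hD.c_rk, neg_neg, ← mul_assoc,
            ← zpow_add, ← mul_assoc, ← zpow_natCast r 2, ← zpow_mul, ← zpow_add]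
          congr 2
          push_cast
          ring
        rcases hrot j with h2 | h2
        · left; rw [h1, h2, one_mul]
        · right; rw [h1, h2]
      · have h1 : f * e * f⁻¹ = (r ^ 2) ^ (j - k) * e := by
          rw [hj, hk, mul_inv_rev, hD.c_inv, ← zpow_neg]
          calc r ^ j * c * (r ^ k * c) * (c * r ^ (-j)) = r ^ j * (c * r ^ k) * (c * c) * r ^ (-j) := by
                simp only [mul_assoc]
            _ = r ^ (2 * (j - k)) * (r ^ k * c) := by
              rw [hD.cc, mul_one, hD.c_rk, mul_assoc, mul_assoc, hD.c_rk, neg_neg, ← mul_assoc,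
                ← mul_assoc, ← zpow_add, ← zpow_add, ← mul_assoc, ← zpow_add]
              congr 2
              ring
            _ = (r ^ 2) ^ (j - k) * (r ^ k * c) := by
              rw [← zpow_natCast r 2, ← zpow_mul]
              rfl
        rcases hrot (j - k) with h2 | h2
        · left; rw [h1, h2, one_mul]
        · right; rw [h1, h2]
    rintro f hf y (rfl | rfl | rfl | rfl)
    · left; rw [mul_one, mul_inv_cancel]
    · right; left; exact hfz f hf
    · rcases key f hf with h1 | h1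
      · right; right; left; exact h1
      · right; right; right; exact h1
    · have h0 : f * (r ^ 2 * e) * f⁻¹ = (f * r ^ 2 * f⁻¹) * (f * e * f⁻¹) := by group
      rw [h0, hfz f hf]
      rcases key f hf with h1 | h1
      · right; right; right; rw [h1]
      · right; right; left
        rw [h1, ← mul_assoc, h.aa, one_mul]
  refine base_syl F.xx F.T_two F.x_mem F.T_comm F.T_syl (hsub.trans F.D_le) (fun h1 => F.x_not (hsub h1))
    (four_sub h).card (four_sub h).sq ?_ h16.le ?_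
  · intro t ht y hy
    obtain ⟨f, hf, rfl | rfl⟩ := hT t ht
    · exact hnD t hf y hy
    · have h1 := hnD f hf y hy
      have h2 : x * f * y * (x * f)⁻¹ = f * y * f⁻¹ := by
        have h3 := F.x_comm_D (hsub h1)
        calc x * f * y * (x * f)⁻¹ = x * (f * y * f⁻¹) * x⁻¹ := by group
          _ = f * y * f⁻¹ := by rw [h3, mul_inv_cancel_right]
      rw [h2]; exact h1
  · intro _
    refine ⟨c, F.c_T, r, F.r_T, fun h1 => h.a1 ?_⟩
    have h2 : c * r * c⁻¹ = r := by rw [h1, mul_inv_cancel_right]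
    rw [F.crc] at h2
    rw [pow_two]
    nth_rw 1 [← h2]
    exact inv_mul_cancel r

/-- **`|T ⊓ K| = 8`, `|T| = 16`**: every four-group `⟨z, e⟩` of `T ⊓ K`. -/
theorem exists_base_three [Finite G] {x : G} {K T : Subgroup G} (hx : orderOf x = 2)
    (F : L2Frame.Frame (centralizer ({x} : Set G)) K T)
    (hn : centralizer ({x} : Set G) ≤ normalizer (K : Set G)) (hg : Good (STop K))
    (hQ : ∀ q ∈ T ⊓ fix K, q = 1 ∨ q = x) (h8 : Nat.card ↥(T ⊓ K) = 8) (h16 : Nat.card T = 16) :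
    ∃ r c : G, r ∈ T ⊓ K ∧ c ∈ T ⊓ K ∧ orderOf r = 4 ∧ c * r * c⁻¹ = r⁻¹ ∧ Four (r ^ 2) c ∧
      Four (r ^ 2) (r * c) ∧ (∀ t ∈ T, t * r ^ 2 = r ^ 2 * t) ∧
      ∀ e (h : Four (r ^ 2) e), e ∈ T ⊓ K → Base x h.sub ∧ Syl x h.sub T ∧ ∃ k ∈ K, k * x = x * k ∧
        (∀ f ∈ h.sub, k * f * k⁻¹ ∈ h.sub) ∧ ∀ f ∈ h.sub, f ≠ 1 → k * f * k⁻¹ ≠ f := by
  have : Fact (Nat.Prime 2) := ⟨Nat.prime_two⟩
  obtain ⟨A, _, d, r, c, o1, o2, F'⟩ := L2QTwo.exists_frame hx F hn hg hQ
  have hd : d = 3 := by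
    have h1 := cardD F'
    rw [h8] at h1
    exact (Nat.pow_right_injective le_rfl (show 2 ^ 3 = 2 ^ d from h1)).symm
  subst hd
  have hz : r ^ 2 ^ (3 - 2) = r ^ 2 := by norm_num
  have hzz : r ^ 2 * r ^ 2 = 1 := by
    have := F'.z_sq
    rwa [hz] at this
  have hz1 : r ^ 2 ≠ 1 := by
    have := F'.z_ne
    rwa [hz] at this
  have hzc : ∀ e ∈ T ⊓ K, r ^ 2 * e = e * r ^ 2 := by
    intro e he
    have := F'.z_comm he
    rwa [hz] at this
  have hrefl : ∀ k : ℤ, Four (r ^ 2) (r ^ k * c) := by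
    intro k
    refine ⟨hzz, F'.refl_sq k, hz1, F'.refl_ne_one k, fun h => ?_, hzc _ (F'.refl_mem k)⟩
    exact F'.refl_ne k 2 (by rw [← h]; norm_cast)
  refine ⟨r, c, F'.r_mem, F'.c_mem, ?_, F'.crc, ?_, ?_, ?_, ?_⟩
  · rw [F'.or_eq]; norm_num
  · have := hrefl 0
    rwa [zpow_zero, one_mul] at this
  · have := hrefl 1
    rwa [zpow_one] at this
  · -- `z` is the square of `r`, `t r t⁻¹ = r^±1`
    intro t ht
    obtain ⟨l, ⟨m, hm⟩, hl⟩ := F'.conj_r le_rfl ht
    have h1 : t * r ^ 2 * t⁻¹ = r ^ 2 := by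
      rw [← conj_pow, hl, ← zpow_natCast, ← zpow_mul, hm]
      have h2 : (2 * m + 1) * ((2 : ℕ) : ℤ) = 2 + 4 * m := by push_cast; ring
      rw [h2, zpow_add, zpow_mul]
      have h3 : r ^ (4 : ℤ) = 1 := by
        have h4 : r ^ 4 = 1 := by
          rw [show (4 : ℕ) = 2 + 2 from rfl, pow_add, hzz]
        exact_mod_cast h4
      rw [h3, one_zpow, mul_one]
      norm_cast
    exact mul_inv_eq_iff_eq_mul.1 h1
  · intro e h he
    obtain ⟨hB, hS⟩ := base_three F' h16 he h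
    refine ⟨hB, hS, ?_⟩
    have hzK : r ^ 2 ∈ K := pow_mem (F'.D_le_K F'.r_mem) 2
    obtain ⟨k, hk, h5, h6, -⟩ := exists_rho F hg hzK (F'.D_le_K he) h (P := ⊥)
      IsPGroup.of_bot bot_le (by
        intro p hp
        rw [mem_bot.1 hp]
        exact ⟨by rw [one_mul, mul_one], by rw [one_mul, mul_one]⟩)
    have h8' : k * (r ^ 2 * e) * k⁻¹ = r ^ 2 := by
      have e1 : k * (r ^ 2 * e) * k⁻¹ = (k * r ^ 2 * k⁻¹) * (k * e * k⁻¹) := by group
      rw [e1, h5, h6, h.comm, ← mul_assoc, h.bb, one_mul]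
    refine ⟨k, hk, (F'.K_comm k hk).symm, ?_, ?_⟩
    · rintro f (rfl | rfl | rfl | rfl)
      · left; rw [mul_one, mul_inv_cancel]
      · right; right; left; exact h5
      · right; right; right; exact h6
      · right; left; exact h8'
    · rintro f (rfl | rfl | rfl | rfl) hf1
      · exact absurd rfl hf1
      · rw [h5]; exact h.ne.symm
      · rw [h6]; exact fun h7 => h.a1 (mul_eq_right.1 h7)
      · rw [h8']; exact fun h7 => h.b1 (left_eq_mul.1 h7)

end Cfsg.Agent.GH.N2
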