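import Cfsg.Agent.GH.N2.Main
import Cfsg.Agent.GH.N2.FrameInst

/-!
# GH-L2, `|Q| = 2`: the leaves `|T ⊓ K| = 4` and `|T ⊓ K| = 8`, `|T| = 16`
-/

set_option autoImplicit false
set_option linter.unusedSectionVars false

open Cfsg Subgroup
open Cfsg.Agent.SignalizersComponents
open Cfsg.Agent.Intrinsic.Basic Cfsg.Agent.GH.Defs Cfsg.Agent.GH.Comp
open Cfsg.Agent.Walter.SylowIn Cfsg.Agent.GH.L2Frame
open Cfsg.Agent.GH.L2One Cfsg.Agent.GH.L2AutPlus
open Cfsg.Agent.GH.L2Aut (Four)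

universe u

namespace Cfsg.Agent.GH.N2

variable {G : Type u} [Group G]

/-- **The leaf `|T ⊓ K| = 4`.** -/
theorem comp_four [Finite G] (H : Hyp G) {x : G} {K T : Subgroup G} (hx : orderOf x = 2)
    (F : L2Frame.Frame (centralizer ({x} : Set G)) K T)
    (hn : centralizer ({x} : Set G) ≤ normalizer (K : Set G)) (hg : Good (STop K))
    (hQ : ∀ q ∈ T ⊓ fix K, q = 1 ∨ q = x) (h4 : Nat.card ↥(T ⊓ K) = 4) :
    ∃ S : Sylow 2 G, SType (S : Subgroup G) := by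
  haveI := H.simple
  obtain ⟨hB, hS, h, -, hx', hE, h3⟩ := exists_base_two hx F hn hg hQ h4
  exact sType (fun h => H.nonComm ⟨⟨h⟩⟩) hB hS hx' hE h3

/-- **The leaf `|T ⊓ K| = 8`, `|T| = 16`.** -/
theorem comp_eight [Finite G] (H : Hyp G) {x : G} {K T : Subgroup G} (hx : orderOf x = 2)
    (F : L2Frame.Frame (centralizer ({x} : Set G)) K T)
    (hn : centralizer ({x} : Set G) ≤ normalizer (K : Set G)) (hg : Good (STop K))
    (hQ : ∀ q ∈ T ⊓ fix K, q = 1 ∨ q = x) (h8 : Nat.card ↥(T ⊓ K) = 8) (h16 : Nat.card T = 16) :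
    ∃ S : Sylow 2 G, SType (S : Subgroup G) := by
  haveI := H.simple
  obtain ⟨r, c, -, hc, -, -, hF, -, -, h⟩ := exists_base_three hx F hn hg hQ h8 h16
  obtain ⟨hB, hS, k, -, hx', hE, h3⟩ := h c hF hc
  exact sType (fun h => H.nonComm ⟨⟨h⟩⟩) hB hS hx' hE h3

end Cfsg.Agent.GH.N2
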