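import Cfsg.Agent.GH.N2.Bil

/-!
# GH-L2, `|Q| = 2`, `|D| = 4`: if some element of `V - U` is inverted by `x` then `V` is a level
-/

set_option autoImplicit false
set_option linter.unusedSectionVars false

universe u

namespace Cfsg.Agent.GH.N2

open Cfsg.Agent.GH.E (rr self_mem_rr le_rr rr_mono cj cj_mul cj_inv cj_one cj_zero cj_cj cj_injective
  cj_eq_one cj_succ cj_mem Expo pow_two_pow_succ pow_two_pow_succ' conj_pow' phi card_eq_ncard_orbit_mul
  exists_conj_le exists_pow_eq_inv)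

variable {G : Type u} [Group G] {x h : G} {E T U P V : Subgroup G} {k : ℕ}

/-- the commutator `[y, u]` -/
def nn (y u : G) : G := y * u * y⁻¹ * u⁻¹

theorem conj_eq_nn (y u : G) : y * u * y⁻¹ = nn y u * u := by unfold nn; group

theorem nn_cj (h : G) (n : ℕ) (y u : G) : nn (cj h n y) (cj h n u) = cj h n (nn y u) := by
  unfold nn; rw [cj_mul, cj_mul, cj_mul, cj_inv, cj_inv]

section

variable [Finite G]

theorem Stp.nn_mem (B : Base x E) (A : Stp x E T U P h) {y u : G} (hy : y ∈ P) (hu : u ∈ U) :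
    nn y u ∈ U := U.mul_mem (A.U_nP B hy hu) (U.inv_mem hu)

theorem Stp.nn_mul (B : Base x E) (A : Stp x E T U P h) {y u v : G} (hy : y ∈ P) (hu : u ∈ U)
    (hv : v ∈ U) : nn y (u * v) = nn y u * nn y v := by
  have h1 := A.U_nP B hy hu
  have h2 := A.U_nP B hy hv
  have h3 := A.level.comm _ (A.nn_mem B hy hv) _ (U.inv_mem hu)
  have h4 : nn y (u * v) = (y * u * y⁻¹) * (nn y v * u⁻¹) := by unfold nn; group
  rw [h4, h3]
  unfold nn; group

/-- `π (y²) = phi y` if `x` inverts `y`. -/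
theorem VV.phi_of_inv (B : Base x E) (A : VV x E T U P V h) (X : Expo U k) {y : G} (hy : y ∈ P)
    (hyx : x * y * x⁻¹ = y⁻¹) : phi x k y = (y * y) ^ 2 ^ k := by
  have h1 : x * (y * x * y⁻¹) = (y * y)⁻¹ := by
    rw [B.inv_x] at hyx
    calc x * (y * x * y⁻¹) = (x * y * x) * y⁻¹ := by group
      _ = (y * y)⁻¹ := by rw [hyx]; group
  unfold phi
  rw [h1, inv_pow]
  exact B.inv_eq (A.stp.level.pi_mem X (A.stp.sq_mem B X hy))

/-- If some element `y` of `V - U` is inverted by `x`, then it centralises `U`. -/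
theorem VV.centralises (B : Base x E) (A : VV x E T U P V h) (X : Expo U k) {y : G} (hy : y ∈ V)
    (hyU : y ∉ U) (hyx : x * y * x⁻¹ = y⁻¹) : ∀ n : ℕ, ∀ u ∈ U, nn (cj h n y) u = 1 := by
  have L := A.stp.level
  have hcV : ∀ n, cj h n y ∈ V := fun n => A.cjV n hy
  have hcP : ∀ n, cj h n y ∈ P := fun n => A.le (hcV n)
  have hyP := A.le hy
  have hsq : y * y ∈ U := A.stp.sq_mem B X hyP
  have hphi := A.phi_of_inv B X hyP hyx
  have hphi1 : phi x k y ≠ 1 := fun hc => hyU (A.U_of_phi B X hy hc)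
  set u0 := y * y with hu0
  set c0 := u0 ^ 2 ^ k with hc0
  rw [hphi] at hphi1
  have hc0E : c0 ∈ E := L.pi_mem X hsq
  have hu1 : cj h 1 u0 ∈ U := L.hU_pow 1 hsq
  have hu2 : cj h 2 u0 ∈ U := L.hU_pow 2 hsq
  have hbase : ∀ n, ∀ u ∈ U, (nn (cj h n y) u) ^ 2 ^ k = 1 := fun n u hu =>
    A.stp.bb_U' B X hu (hcP n)
  have hind : ∀ j ≤ k, ∀ n, ∀ u ∈ U, (nn (cj h n y) u) ^ 2 ^ (k - j) = 1 := by
    intro j
    induction j with
    | zero => intro _; simpa using hbase
    | succ j ih =>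
      intro hj
      obtain ⟨m, hm⟩ : ∃ m, k - (j + 1) = m := ⟨_, rfl⟩
      have hmj : k - j = m + 1 := by omega
      have IH := ih (by omega)
      rw [hmj] at IH
      rw [hm]
      have hmem : ∀ n, ∀ u ∈ U, nn (cj h n y) u ∈ U := fun n u hu => A.stp.nn_mem B (hcP n) hu
      have bmem : ∀ n, ∀ u ∈ U, (nn (cj h n y) u) ^ 2 ^ m ∈ E := by
        intro n u hu
        apply L.omega _ (U.pow_mem (hmem n u hu) _)
        rw [← pow_two_pow_succ]
        exact IH n u hu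
      have bmul : ∀ n, ∀ u ∈ U, ∀ v ∈ U, (nn (cj h n y) (u * v)) ^ 2 ^ m =
          (nn (cj h n y) u) ^ 2 ^ m * (nn (cj h n y) v) ^ 2 ^ m := by
        intro n u hu v hv
        rw [A.stp.nn_mul B (hcP n) hu hv, L.mul_pow (hmem n u hu) (hmem n v hv)]
      have bker : ∀ n, ∀ u ∈ U, u ^ 2 ^ k = 1 → (nn (cj h n y) u) ^ 2 ^ m = 1 := by
        intro n u hu hu1
        obtain ⟨w, hw, rfl⟩ := L.exists_sq B X hu hu1
        rw [bmul n w hw w hw]
        exact B.sq _ (bmem n w hw)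
      have beq : ∀ n, ∀ u ∈ U, ∀ v ∈ U, u ^ 2 ^ k = v ^ 2 ^ k →
          (nn (cj h n y) u) ^ 2 ^ m = (nn (cj h n y) v) ^ 2 ^ m := by
        intro n u hu v hv huv
        obtain ⟨w, hw, rfl⟩ := L.exists_sq_mul B X hu hv huv
        rw [bmul n v hv _ (U.mul_mem hw hw), bker n _ (U.mul_mem hw hw) (sq_pow_eq_one X hw), mul_one]
      have bself : ∀ n, (nn (cj h n y) (cj h n u0)) ^ 2 ^ m = 1 := by
        intro n
        rw [nn_cj]
        have h1 : nn y u0 = 1 := by unfold nn; rw [hu0]; group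
        rw [h1, cj_one, one_pow]
      have bcj : ∀ n u, (nn (cj h (n + 1) y) (cj h 1 u)) ^ 2 ^ m = cj h 1 ((nn (cj h n y) u) ^ 2 ^ m) := by
        intro n u
        rw [show cj h (n + 1) y = cj h 1 (cj h n y) by rw [cj_cj, add_comm], nn_cj, cj_pow]
      have btri : ∀ u ∈ U, (nn (cj h 0 y) u) ^ 2 ^ m * (nn (cj h 1 y) u) ^ 2 ^ m *
          (nn (cj h 2 y) u) ^ 2 ^ m = 1 := by
        intro u hu
        have hr := ((A.mem y).1 hy).2
        set a2 := nn (cj h 2 y) u with ha2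
        have ha2U : a2 ∈ U := hmem 2 u hu
        set s := nn (cj h 1 y) a2 * nn (cj h 1 y) u * (a2 * u) with hs
        have hsU : s ∈ U := U.mul_mem (U.mul_mem (hmem 1 _ ha2U) (hmem 1 _ hu)) (U.mul_mem ha2U hu)
        have e1 : cj h 2 y * u * (cj h 2 y)⁻¹ = a2 * u := conj_eq_nn _ _
        have e2 : cj h 1 y * (a2 * u) * (cj h 1 y)⁻¹ = s := by
          rw [conj_eq_nn, A.stp.nn_mul B (hcP 1) ha2U hu]
        have e3 : y * s * y⁻¹ = nn y s * s := conj_eq_nn _ _
        have e4 : y * s * y⁻¹ = u := by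
          rw [← e2, ← e1]
          have h1 : y * (cj h 1 y * (cj h 2 y * u * (cj h 2 y)⁻¹) * (cj h 1 y)⁻¹) * y⁻¹ =
              tr h y * u * (tr h y)⁻¹ := by unfold tr; group
          rw [h1, L.comm _ hr u hu, mul_inv_cancel_right]
        have e5 : nn y s * (nn (cj h 1 y) a2 * nn (cj h 1 y) u * a2) = 1 := by
          rw [e3] at e4
          have h1 : nn y s * s = (nn y s * (nn (cj h 1 y) a2 * nn (cj h 1 y) u * a2)) * u := by
            rw [hs]; group
          rw [h1] at e4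
          exact mul_eq_right.1 e4
        have m0 : nn y s ∈ U := A.stp.nn_mem B hyP hsU
        have m1 := hmem 1 _ ha2U
        have m2 := hmem 1 _ hu
        have e6 := congrArg (· ^ 2 ^ m) e5
        simp only [one_pow] at e6
        rw [L.mul_pow m0 (U.mul_mem (U.mul_mem m1 m2) ha2U), L.mul_pow (U.mul_mem m1 m2) ha2U,
          L.mul_pow m1 m2, bker 1 a2 ha2U (hbase 2 u hu), one_mul] at e6
        have e7 : (nn y s) ^ 2 ^ m = (nn y u) ^ 2 ^ m := by
          have h1 := beq 0 s hsU u hu (by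
            rw [hs, L.mul_pow (U.mul_mem m1 m2) (U.mul_mem ha2U hu), L.mul_pow m1 m2, L.mul_pow ha2U hu,
              hbase 1 a2 ha2U, hbase 1 u hu, ha2, hbase 2 u hu, one_mul, one_mul, one_mul])
          rwa [cj_zero] at h1
        rw [e7] at e6
        rw [cj_zero, mul_assoc]
        exact e6
      -- the sum over the three
      have csum : (u0 * cj h 1 u0 * cj h 2 u0) ^ 2 ^ k = 1 := by
        rw [L.mul_pow (U.mul_mem hsq hu1) hu2, L.mul_pow hsq hu1, cj_pow, cj_pow, ← hc0,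
          L.cj_two B hc0E]
        exact B.sq _ (E.mul_mem hc0E (L.cjE B 1 hc0E))
      have bsum : ∀ n, (nn (cj h n y) u0) ^ 2 ^ m * (nn (cj h n y) (cj h 1 u0)) ^ 2 ^ m *
          (nn (cj h n y) (cj h 2 u0)) ^ 2 ^ m = 1 := by
        intro n
        rw [← bmul n _ hsq _ hu1, ← bmul n _ (U.mul_mem hsq hu1) _ hu2]
        exact bker n _ (U.mul_mem (U.mul_mem hsq hu1) hu2) csum
      set a := (nn (cj h 0 y) (cj h 1 u0)) ^ 2 ^ m with ha
      have haE : a ∈ E := bmem 0 _ hu1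
      have b00 := bself 0
      rw [cj_zero h u0] at b00
      have b11 := bself 1
      have b22 := bself 2
      have b02 : (nn (cj h 0 y) (cj h 2 u0)) ^ 2 ^ m = a := by
        have h1 := bsum 0
        rw [b00, one_mul, ← ha] at h1
        rw [← B.inv_eq haE]
        exact eq_inv_of_mul_eq_one_right h1
      have b12 : (nn (cj h 1 y) (cj h 2 u0)) ^ 2 ^ m = cj h 1 a := by
        have h1 := bcj 0 (cj h 1 u0)
        rw [cj_cj, show (1 : ℕ) + 1 = 2 by norm_num, zero_add] at h1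
        rw [h1]
      have b10 : (nn (cj h 1 y) u0) ^ 2 ^ m = cj h 1 a := by
        have h1 := bsum 1
        rw [b11, mul_one, b12] at h1
        rw [← B.inv_eq (L.cjE B 1 haE)]
        exact eq_inv_of_mul_eq_one_left h1
      have b21 : (nn (cj h 2 y) (cj h 1 u0)) ^ 2 ^ m = cj h 2 a := by
        have h1 := bcj 1 u0
        rw [show (1 : ℕ) + 1 = 2 by norm_num, b10, cj_cj] at h1
        exact h1
      have b20 : (nn (cj h 2 y) u0) ^ 2 ^ m = cj h 2 a := by
        have h1 := bsum 2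
        rw [b22, mul_one, b21] at h1
        rw [← B.inv_eq (L.cjE B 2 haE)]
        exact eq_inv_of_mul_eq_one_left h1
      have ha1 : a = 1 := by
        have h1 := btri u0 hsq
        rw [b00, one_mul, b10, b20, L.cj_two B haE] at h1
        have h2 := L.cjE B 1 haE
        rw [B.commE haE h2, ← mul_assoc, B.sq _ h2, one_mul] at h1
        exact h1
      -- all
      have c1 : cj h 1 c0 ≠ c0 := by
        have := L.h3 _ hc0E hphi1
        rw [cj_succ, cj_zero]; exact this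
      have n1 : cj h 1 c0 ≠ 1 := fun hc => hphi1 (cj_eq_one h 1 hc)
      have b0 : ∀ u ∈ U, (nn (cj h 0 y) u) ^ 2 ^ m = 1 := by
        intro u hu
        rcases B.mem_cases hc0E (L.cjE B 1 hc0E) hphi1 n1 c1.symm (L.pi_mem X hu) with h1 | h1 | h1 | h1
        · exact bker 0 u hu h1
        · rw [beq 0 u hu u0 hsq h1, b00]
        · rw [beq 0 u hu _ hu1 (by rw [h1, cj_pow]), ← ha, ha1]
        · rw [beq 0 u hu _ (U.mul_mem hsq hu1) (by rw [h1, L.mul_pow hsq hu1, cj_pow]),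
            bmul 0 _ hsq _ hu1, b00, ← ha, ha1, one_mul]
      intro n
      induction n with
      | zero => exact b0
      | succ n ihn =>
        intro u hu
        have h1 : h⁻¹ * u * h⁻¹⁻¹ ∈ U := Nx_U B ((Nx x U).inv_mem (L.h_mem_Nx B)) hu
        rw [inv_inv] at h1
        have h2 : cj h 1 (h⁻¹ * u * h) = u := by rw [cj_succ, cj_zero]; group
        rw [← h2, bcj, ihn _ h1, cj_one]
  intro n u hu
  have h1 := hind k le_rfl n u hu
  rwa [Nat.sub_self, pow_zero, pow_one] at h1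

/-- **Dichotomy**: if some element `y` of `V - U` is inverted by `x`, then `V` is a level. -/
theorem VV.level_of_inv (B : Base x E) (A : VV x E T U P V h) (X : Expo U k) {y : G} (hy : y ∈ V)
    (hyU : y ∉ U) (hyx : x * y * x⁻¹ = y⁻¹) : Level x E V h := by
  have L := A.stp.level
  have hyP := A.le hy
  have hphi1 : phi x k y ≠ 1 := fun hc => hyU (A.U_of_phi B X hy hc)
  have hcen := A.centralises B X hy hyU hyx
  have hcomm : ∀ n, ∀ u ∈ U, cj h n y * u = u * cj h n y := by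
    intro n u hu
    have h1 := hcen n u hu
    unfold nn at h1
    rw [mul_inv_eq_one, mul_inv_eq_iff_eq_mul] at h1
    exact h1
  have hy0U : ∀ u ∈ U, y * u = u * y := fun u hu => by
    have := hcomm 0 u hu
    rwa [cj_zero] at this
  set y1 := cj h 1 y with hy1
  have hy1U : ∀ u ∈ U, y1 * u = u * y1 := hcomm 1
  have hy1V : y1 ∈ V := A.cjV 1 hy
  have hy1P : y1 ∈ P := A.le hy1V
  -- the commutator
  set w := y * y1 * y⁻¹ * y1⁻¹ with hw
  have hwU : w ∈ U := A.stp.comm_mem B X hyP hy1P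
  have hr := ((A.mem y).1 hy).2
  set r := tr h y with hrdef
  have hy2 : cj h 2 y = y1⁻¹ * y⁻¹ * r := by
    have h1 : r = y * y1 * cj h 2 y := rfl
    rw [h1]; group
  have hwh : cj h 1 w = w := by
    have h1 : cj h 1 w = y1 * cj h 2 y * y1⁻¹ * (cj h 2 y)⁻¹ := by
      rw [hw, cj_mul, cj_mul, cj_mul, cj_inv, cj_inv, hy1, cj_cj]
    have c1 := hy1U _ (U.inv_mem (U.inv_mem hr))
    have c2 := hy1U _ hr
    have c2' : r * y1⁻¹ = y1⁻¹ * r := ((show Commute y1 r from c2).inv_left).symm.eq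
    have c3 := hy0U w hwU
    have c4 := hy1U w hwU
    rw [h1, hy2]
    calc y1 * (y1⁻¹ * y⁻¹ * r) * y1⁻¹ * (y1⁻¹ * y⁻¹ * r)⁻¹ = y⁻¹ * (r * y1⁻¹) * r⁻¹ * y * y1 := by group
      _ = y⁻¹ * (y1⁻¹ * r) * r⁻¹ * y * y1 := by rw [c2']
      _ = y⁻¹ * y1⁻¹ * (w * y1 * y) := by rw [hw]; group
      _ = y⁻¹ * y1⁻¹ * (y1 * w * y) := by rw [c4]
      _ = y⁻¹ * (w * y) := by group
      _ = y⁻¹ * (y * w) := by rw [c3]
      _ = w := by group
  have hw1 : w = 1 := by
    -- `w² = 1`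
    have h1 : w * w = 1 := by
      have c3 := hy0U w hwU
      have h2 : w * w = (y * y) * y1 * (y * y)⁻¹ * y1⁻¹ := by
        calc w * w = w * (y * y1 * y⁻¹ * y1⁻¹) := rfl
          _ = (w * y) * y1 * y⁻¹ * y1⁻¹ := by group
          _ = (y * w) * y1 * y⁻¹ * y1⁻¹ := by rw [c3]
          _ = (y * y) * y1 * (y * y)⁻¹ * y1⁻¹ := by rw [hw]; group
      have h3 := hy1U _ (A.stp.sq_mem B X hyP)
      rw [h2, ← h3]; group
    have h2 := L.omega w hwU h1
    by_contra hc
    apply L.h3 w h2 hc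
    rw [cj_succ, cj_zero] at hwh
    exact hwh
  have hyy1 : y * y1 = y1 * y := by
    rw [hw, mul_inv_eq_one, mul_inv_eq_iff_eq_mul] at hw1
    exact hw1
  -- everything commutes with `U, y, y1`
  have hcent : ∀ v ∈ V, (∀ u ∈ U, v * u = u * v) ∧ v * y = y * v ∧ v * y1 = y1 * v := by
    intro v hv
    rcases A.cases B X hy hphi1 hv with ⟨u, hu, rfl⟩ | ⟨u, hu, rfl⟩ | ⟨u, hu, rfl⟩ | ⟨u, hu, rfl⟩
    · exact ⟨fun u' hu' => L.comm _ hu _ hu', (hy0U _ hu).symm, (hy1U _ hu).symm⟩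
    · refine ⟨fun u' hu' => ?_, ?_, ?_⟩
      · rw [mul_assoc, L.comm u hu u' hu', ← mul_assoc, hy0U u' hu', mul_assoc]
      · rw [mul_assoc, ← hy0U u hu]
      · rw [mul_assoc, ← hy1U u hu, ← mul_assoc, hyy1, mul_assoc]
    · refine ⟨fun u' hu' => ?_, ?_, ?_⟩
      · rw [← hy1, mul_assoc, L.comm u hu u' hu', ← mul_assoc, hy1U u' hu', mul_assoc]
      · rw [← hy1, mul_assoc, ← hy0U u hu, ← mul_assoc, ← hyy1, mul_assoc]
      · rw [← hy1, mul_assoc, ← hy1U u hu]
    · rw [← hy1]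
      refine ⟨fun u' hu' => ?_, ?_, ?_⟩
      · rw [mul_assoc, L.comm u hu u' hu', ← mul_assoc, mul_assoc y y1 u', hy1U u' hu', ← mul_assoc y u' y1,
          hy0U u' hu', mul_assoc, mul_assoc, mul_assoc]
      · calc y * y1 * u * y = y * y1 * (u * y) := by group
          _ = y * y1 * (y * u) := by rw [hy0U u hu]
          _ = y * (y1 * y) * u := by group
          _ = y * (y * y1) * u := by rw [hyy1]
          _ = y * (y * y1 * u) := by group
      · calc y * y1 * u * y1 = y * y1 * (u * y1) := by group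
          _ = y * y1 * (y1 * u) := by rw [hy1U u hu]
          _ = (y * y1) * (y1 * u) := by group
          _ = (y1 * y) * (y1 * u) := by rw [hyy1]
          _ = y1 * (y * y1 * u) := by group
  have hVcomm : ∀ v ∈ V, ∀ w ∈ V, v * w = w * v := by
    intro v hv w hw'
    obtain ⟨c0, c1, c2⟩ := hcent v hv
    rcases A.cases B X hy hphi1 hw' with ⟨u, hu, rfl⟩ | ⟨u, hu, rfl⟩ | ⟨u, hu, rfl⟩ | ⟨u, hu, rfl⟩
    · exact c0 _ hu
    · rw [← mul_assoc, c1, mul_assoc, c0 u hu, mul_assoc]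
    · rw [← hy1, ← mul_assoc, c2, mul_assoc, c0 u hu, mul_assoc]
    · rw [← hy1, mul_assoc y y1 u, ← mul_assoc v y, c1, mul_assoc, ← mul_assoc v y1, c2, mul_assoc,
        c0 u hu]
      group
  have hy1x : x * y1 * x⁻¹ = y1⁻¹ := by
    have h1 : cj h 1 (x * y * x⁻¹) = x * y1 * x⁻¹ := by
      rw [cj_mul, cj_mul, cj_inv, L.cj_x]
    rw [← h1, hyx, cj_inv]
  have hVinv : ∀ v ∈ V, x * v * x⁻¹ = v⁻¹ := by
    intro v hv
    have xm : ∀ p q : G, x * (p * q) * x⁻¹ = (x * p * x⁻¹) * (x * q * x⁻¹) := fun p q => by group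
    rcases A.cases B X hy hphi1 hv with ⟨u, hu, rfl⟩ | ⟨u, hu, rfl⟩ | ⟨u, hu, rfl⟩ | ⟨u, hu, rfl⟩
    · exact L.inv _ hu
    · rw [xm, hyx, L.inv u hu, hy0U u hu, mul_inv_rev]
    · rw [← hy1, xm, hy1x, L.inv u hu, hy1U u hu, mul_inv_rev]
    · rw [← hy1]
      have h1 := hVcomm _ (V.mul_mem hy hy1V) u (A.U_le hu)
      rw [xm, xm, hyx, hy1x, L.inv u hu, h1, mul_inv_rev, mul_inv_rev, ← mul_inv_rev y1 y, ← hyy1,
        mul_inv_rev]
  refine ⟨L.le.trans A.U_le, hVcomm, A.stp.two.to_le A.le, hVinv, ?_, L.hx, A.hV, L.h3⟩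
  intro v hv hv2
  have h1 := A.phi_of_inv B X (A.le hv) (hVinv v hv)
  rw [hv2, one_pow] at h1
  exact L.omega v (A.U_of_phi B X hv h1) hv2

end

end Cfsg.Agent.GH.N2
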