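import Cfsg.Agent.GH.N2.Beta

/-!
# GH-L2, `|Q| = 2`, `|D| = 4`: the tower if all involutions of `T` centralise `E`
-/

set_option autoImplicit false
set_option linter.unusedSectionVars false

universe u

namespace Cfsg.Agent.GH.N2

open Cfsg.Agent.GH.E (rr self_mem_rr le_rr rr_mono cj cj_mul cj_inv cj_one cj_zero cj_cj cj_injective
  cj_eq_one cj_succ cj_mem Expo pow_two_pow_succ pow_two_pow_succ' conj_pow' phi card_eq_ncard_orbit_mul
  exists_conj_le exists_pow_eq_inv exists_sylow_eq)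

variable {G : Type u} [Group G] {x h : G} {E T U P V : Subgroup G} {k : ℕ}

section

variable [Finite G]

theorem Level.pos_of_ne (B : Base x E) (L : Level x E U h) (X : Expo U k) (hUE : ∃ w ∈ U, w ∉ E) :
    k ≠ 0 := by
  rintro rfl
  obtain ⟨w, hw, hwE⟩ := hUE
  apply hwE
  apply L.omega w hw
  have := X.all w hw
  rwa [zero_add, pow_one, pow_two] at this

theorem Level.card_rr_gt (B : Base x E) (L : Level x E U h) (X : Expo U k) (hk : k ≠ 0) :
    16 < Nat.card (rr x U) := by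
  rw [L.card_rr B]
  obtain ⟨K, hK, hKc⟩ := L.exists_K B X
  have h1 : E ≤ K := by
    intro e he
    refine (hK e).2 ⟨L.le he, ?_⟩
    obtain ⟨j, rfl⟩ := Nat.exists_eq_succ_of_ne_zero hk
    rw [Nat.succ_eq_add_one, pow_two_pow_succ', B.sq e he, one_pow]
  have h2 := Subgroup.card_le_of_le h1
  rw [B.card] at h2
  omega

/-- elements of `E` are not conjugate to `x` if `U ≠ E` -/
theorem Level.not_conj_E (B : Base x E) (L : Level x E U h) (X : Expo U k) (hk : k ≠ 0) {e : G}
    (he : e ∈ E) (g : G) : g * x * g⁻¹ ≠ e :=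
  B.not_conj_of_card (L.rr_pgroup B) (L.card_rr_gt B X hk) (fun q hq => L.E_comm B he hq) g

theorem Level.mem_rr_of_noInv (B : Base x E) (S : Syl x E T) (L : Level x E U h)
    (tU : ∀ t ∈ T, ∀ u ∈ U, t * u * t⁻¹ ∈ U)
    (hT : ∀ t ∈ T, t ∉ rr x E → t * t ∉ E) {v : G} (hv : v ∈ U ⊔ T) (hv2 : v * v = 1) : v ∈ rr x U := by
  obtain ⟨n, hn, t, ht, rfl⟩ := (mem_sup_of_norm tU).1 hv
  by_cases htF : t ∈ rr x E
  · exact Subgroup.mul_mem _ (le_rr x U hn) (rr_mono L.le htF)
  exfalso
  apply hT t ht htF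
  have h1 : t * t = (n * (t * n * t⁻¹))⁻¹ := by
    have h2 : n * t * (n * t) = (n * (t * n * t⁻¹)) * (t * t) := by group
    rw [h2] at hv2
    exact eq_inv_of_mul_eq_one_right hv2
  have h3 : t * t ∈ U := by
    rw [h1]
    exact U.inv_mem (U.mul_mem hn (tU t ht n hn))
  have htt : t * t ∈ T := T.mul_mem ht ht
  have h4 : t * t ∈ rr x E := B.mem_of_elt (exists_pow_of_mem S.two htt) (S.cx _ htt) (S.sq_comm B ht)
  rcases B.mem_rr.1 h4 with h5 | h5
  · exact h5
  · exfalso
    apply L.x_notMem B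
    have h6 := U.mul_mem (L.le h5) (U.inv_mem h3)
    rwa [mul_inv_cancel_right] at h6

/-- **Endgame 2**: nothing in `Nx` moves the class of `x`, all conjugates of `x` in `U T` lie in `xU`. -/
theorem Level.false_of_fixed [IsSimpleGroup G] (hG : ¬ ∀ a b : G, a * b = b * a) (B : Base x E)
    (S : Syl x E T) (L : Level x E U h) (X : Expo U k) (tU : ∀ t ∈ T, ∀ u ∈ U, t * u * t⁻¹ ∈ U)
    (hfix : ∀ g ∈ Nx x U, phi x k g = 1)
    (hc : ∀ g : G, g * x * g⁻¹ ∈ U ⊔ T → x * (g * x * g⁻¹) ∈ U) : False := by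
  have hpg : IsPGroup 2 (U ⊔ T : Subgroup G) := sup_pgroup L.pgroup S.two tU
  have hTle : T ≤ U ⊔ T := le_sup_right
  have hUle : U ≤ U ⊔ T := le_sup_left
  have hxU : ∀ u ∈ U, x * u ∈ U ⊔ T := fun u hu => Subgroup.mul_mem _ (hTle S.xT) (hUle hu)
  have hSyl : ∃ R : Sylow 2 G, (R : Subgroup G) = U ⊔ T := by
    apply exists_sylow_eq hpg
    intro Q hQ hle hQN
    apply le_antisymm _ hle
    intro q hq
    have hqn : ∀ r ∈ U ⊔ T, q * r * q⁻¹ ∈ U ⊔ T := fun r hr =>
      (Subgroup.mem_normalizer_iff.1 (hQN hq) r).1 hr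
    set d := x * (q * x * q⁻¹) with hd
    have hdU : d ∈ U := hc q (hqn x (hTle S.xT))
    have hqx : q * x * q⁻¹ = x * d := by rw [hd, B.xx_mul]
    have hconj : ∀ u ∈ U, (∃ g : G, g * x * g⁻¹ = x * u) → q * (x * u) * q⁻¹ ∈ U ⊔ T →
        x * (q * (x * u) * q⁻¹) ∈ U := by
      rintro u hu ⟨g, hg⟩ hmem
      have h1 : q * (x * u) * q⁻¹ = (q * g) * x * (q * g)⁻¹ := by rw [← hg]; group
      rw [h1] at hmem ⊢
      exact hc _ hmem
    by_cases hd1 : d ^ 2 ^ k = 1
    · -- then `q ∈ U T`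
      obtain ⟨w, hw, hw1⟩ := L.exists_conj B X hdU U.one_mem (by rw [hd1, one_pow])
      rw [← hqx, mul_one] at hw1
      have h2 : w * q ∈ Q := Q.mul_mem (hle (hUle hw)) hq
      have h3 : (w * q) * x = x * (w * q) := by
        have h4 : (w * q) * x * (w * q)⁻¹ = x := by
          calc (w * q) * x * (w * q)⁻¹ = w * (q * x * q⁻¹) * w⁻¹ := by group
            _ = x := hw1
        rwa [mul_inv_eq_iff_eq_mul] at h4
      have h4 : (Q ⊓ Subgroup.centralizer {x} : Subgroup G) = T := by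
        apply S.max _ (hQ.to_le inf_le_left)
        · exact fun c hc => (Subgroup.mem_centralizer_singleton_iff.1 hc.2).symm
        · exact le_inf (hTle.trans hle) (fun t ht =>
            Subgroup.mem_centralizer_singleton_iff.2 (S.cx t ht).symm)
      have h5 : w * q ∈ T := by
        rw [← h4]
        exact ⟨h2, Subgroup.mem_centralizer_singleton_iff.2 h3⟩
      have h6 := Subgroup.mul_mem _ (hUle (U.inv_mem hw)) (hTle h5)
      rwa [inv_mul_cancel_left] at h6
    · exfalso
      -- all `xu` are conjugate to `x`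
      have hall : ∀ u ∈ U, ∃ g : G, g * x * g⁻¹ = x * u := by
        intro u hu
        by_cases hu1 : u ^ 2 ^ k = 1
        · obtain ⟨w, hw, hw1⟩ := L.exists_conj B X U.one_mem hu (by rw [hu1, one_pow])
          exact ⟨w, by rw [mul_one] at hw1; exact hw1⟩
        · obtain ⟨n, hn⟩ := L.trans B (L.pi_mem X hdU) (L.pi_mem X hu) hd1 hu1
          obtain ⟨w, hw, hw1⟩ := L.exists_conj B X (L.hU_pow n hdU) hu (by rw [cj_pow]; exact hn)
          refine ⟨w * (h ^ n * q), ?_⟩
          have h1 : cj h n (x * d) = x * cj h n d := by rw [cj_mul, L.cj_x]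
          calc w * (h ^ n * q) * x * (w * (h ^ n * q))⁻¹ = w * (h ^ n * (q * x * q⁻¹) * (h ^ n)⁻¹) * w⁻¹ := by
                group
            _ = w * cj h n (x * d) * w⁻¹ := by rw [hqx]; rfl
            _ = x * u := by rw [h1, hw1]
      have hqN : q ∈ Nx x U := by
        refine (mem_Nx B).2 ⟨fun u hu => ?_, hdU⟩
        have h1 := hconj u hu (hall u hu) (hqn _ (hxU u hu))
        have h2 : q * u * q⁻¹ = d⁻¹ * (x * (q * (x * u) * q⁻¹)) := by
          have h3 : q * (x * u) * q⁻¹ = (q * x * q⁻¹) * (q * u * q⁻¹) := by group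
          rw [h3, hqx, ← mul_assoc x, B.xx_mul, inv_mul_cancel_left]
        rw [h2]
        exact U.mul_mem (U.inv_mem hdU) h1
      exact hd1 (hfix q hqN)
  exact false_of_transfer hG hSyl (sup_norm tU)
    (sup_comm tU (fun t ht s hs => L.le (S.comm_mem B t ht s hs))) B.hx (hTle S.xT)
    (L.x_notMem B) hc

/-- `T` normalises `E`: the start. -/
theorem Syl.tE (S : Syl x E T) : ∀ t ∈ T, ∀ e ∈ E, t * e * t⁻¹ ∈ E := S.nE

/-- The tower in the case that all involutions of `T / E` lie in `F / E`. -/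
theorem false_of_noInv [IsSimpleGroup G] (hG : ¬ ∀ a b : G, a * b = b * a) (B : Base x E)
    (S : Syl x E T) (hT : ∀ t ∈ T, t ∉ rr x E → t * t ∉ E) :
    ∀ (n : ℕ) (U : Subgroup G) (h : G), Nat.card G - Nat.card U ≤ n → Level x E U h →
      (∀ t ∈ T, ∀ u ∈ U, t * u * t⁻¹ ∈ U) →
      ((∃ w ∈ U, w ∉ E) ∨ ∃ g ∈ Nx x U, ∀ k, Expo U k → phi x k g ≠ 1) → False := by
  intro n
  induction n with
  | zero =>
    intro U h hn L _ _
    have h1 : Nat.card U = Nat.card G := le_antisymm (Subgroup.card_le_card_group U) (by omega)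
    have h2 := Subgroup.eq_top_of_card_eq U h1
    exact L.x_notMem B (h2 ▸ Subgroup.mem_top x)
  | succ n ih =>
    intro U h hn L tU hst
    obtain ⟨k, X⟩ := L.exists_expo B
    by_cases hmov : ∃ g ∈ Nx x U, phi x k g ≠ 1
    · obtain ⟨g, hg, hg1⟩ := hmov
      obtain ⟨P, h', A, _⟩ := exists_stp B S L X tU hg hg1
      obtain ⟨V, hV⟩ := A.exists_V B X
      have AV : VV x E T U P V h' := ⟨A, hV⟩
      by_cases hd : ∃ y ∈ V, y ∉ U ∧ x * y * x⁻¹ = y⁻¹
      · obtain ⟨y, hy, hyU, hyx⟩ := hd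
        have LV := AV.level_of_inv B X hy hyU hyx
        have hUV := AV.U_lt B X
        have h3 : Nat.card U < Nat.card V := by
          by_contra hcon
          push Not at hcon
          exact hUV.ne (Subgroup.eq_of_le_of_card_ge hUV.le hcon)
        have h4 : Nat.card V ≤ Nat.card G := Subgroup.card_le_card_group V
        exact ih V h' (by omega) LV (fun t ht v hv => AV.nT B S X ht hv)
          (Or.inl ⟨y, hy, fun hc => hyU (L.le hc)⟩)
      · push Not at hd
        apply AV.false_of_conj hG B S X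
        intro g hg
        exact AV.beta B X hd (AV.mem_P_of_noInv B S X hT hg (conj_sq_one B g))
    · push Not at hmov
      have hk : k ≠ 0 := by
        rcases hst with h1 | ⟨g, hg, hg1⟩
        · exact L.pos_of_ne B X h1
        · exact absurd (hmov g hg) (hg1 k X)
      apply L.false_of_fixed hG B S X tU hmov
      intro g hg
      have h1 := L.mem_rr_of_noInv B S tU hT hg (conj_sq_one B g)
      rcases (L.mem_rr B).1 h1 with h2 | h2
      · exact absurd rfl (L.not_conj_E B X hk (L.omega _ h2 (conj_sq_one B g)) g)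
      · exact h2

end

end Cfsg.Agent.GH.N2
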