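import Cfsg.Agent.GH.N2.EndA

/-!
# GH-L2, `|Q| = 2`, `|D| = 4`: the tower if `T = 2 × D8`
-/

set_option autoImplicit false
set_option linter.unusedSectionVars false

universe u

namespace Cfsg.Agent.GH.N2

open Cfsg.Agent.GH.E (rr self_mem_rr le_rr rr_mono cj cj_mul cj_inv cj_one cj_zero cj_cj cj_injective
  cj_eq_one cj_succ cj_mem Expo pow_two_pow_succ pow_two_pow_succ' conj_pow' phi card_eq_ncard_orbit_mul
  exists_conj_le exists_pow_eq_inv exists_sylow_eq)

variable {G : Type u} [Group G] {x h : G} {E T U P V : Subgroup G} {k : ℕ}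

/-- the elements of `E` fixed by `s` -/
theorem Base.fix_cases (B : Base x E) {s e0 e : G} (he0 : e0 ∈ E) (hs : s * e0 * s⁻¹ ∈ E)
    (hne : s * e0 * s⁻¹ ≠ e0) (he : e ∈ E) (hfix : s * e * s⁻¹ = e) : e = 1 ∨ e = e0 * (s * e0 * s⁻¹) := by
  have he01 : e0 ≠ 1 := by
    rintro rfl
    exact hne (by group)
  have hf01 : s * e0 * s⁻¹ ≠ 1 := by
    intro hc
    apply he01
    have : e0 = s⁻¹ * (s * e0 * s⁻¹) * s := by group
    rw [this, hc]; group
  rcases B.mem_cases he0 hs he01 hf01 hne.symm he with h1 | h1 | h1 | h1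
  · exact Or.inl h1
  · rw [h1] at hfix
    exact absurd hfix hne
  · exfalso
    apply hne
    rw [h1] at hfix
    -- s (s e0 s⁻¹) s⁻¹ = s e0 s⁻¹
    have h2 : s * e0 * s⁻¹ = s⁻¹ * (s * (s * e0 * s⁻¹) * s⁻¹) * s := by group
    rw [h2, hfix]; group
  · exact Or.inr h1

section

variable [Finite G]

/-- `C_U(v)` contains an element of order `2 ^ (k + 1)` if `v² = 1` and `v` moves `E`. -/
theorem Level.exists_w (B : Base x E) (L : Level x E U h) (X : Expo U k) {v e0 : G} (hv2 : v * v = 1)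
    (hvU : ∀ u ∈ U, v * u * v⁻¹ ∈ U) (he0 : e0 ∈ E) (hne : v * e0 * v⁻¹ ≠ e0) :
    ∃ w ∈ U, v * w = w * v ∧ w ^ 2 ^ k ≠ 1 := by
  have hvi : v⁻¹ = v := inv_eq_iff_mul_eq_one.mpr hv2
  obtain ⟨u, hu, hue⟩ := L.pi_surj B X he0
  refine ⟨u * (v * u * v⁻¹), U.mul_mem hu (hvU u hu), ?_, ?_⟩
  · have h1 : v * u * v⁻¹ * u = u * (v * u * v⁻¹) := L.comm _ (hvU u hu) u hu
    calc v * (u * (v * u * v⁻¹)) = (v * u * v⁻¹) * (v * v) * u * v⁻¹ := by group
      _ = (v * u * v⁻¹) * u * v⁻¹ := by rw [hv2, mul_one]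
      _ = u * (v * u * v⁻¹) * v := by rw [h1, hvi]
  · rw [L.mul_pow hu (hvU u hu), conj_pow', hue]
    intro hc
    apply hne
    rw [mul_eq_one_iff_inv_eq, B.inv_eq he0] at hc
    exact hc.symm

/-- For `k ≥ 2` an involution normalising `U` and moving `E` is not conjugate to `x`. -/
theorem Level.false_of_move (B : Base x E) (L : Level x E U h) (X : Expo U k) (hk : 2 ≤ k) {g v e0 : G}
    (hgv : g * x * g⁻¹ = v) (hvU : ∀ u ∈ U, v * u * v⁻¹ ∈ U) (he0 : e0 ∈ E)
    (hne : v * e0 * v⁻¹ ≠ e0) : False := by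
  have : Fact (Nat.Prime 2) := ⟨Nat.prime_two⟩
  have hv2 : v * v = 1 := by rw [← hgv]; exact conj_sq_one B g
  obtain ⟨w, hw, hvw, hw1⟩ := L.exists_w B X hv2 hvU he0 hne
  have hvnU : v ∉ U := fun hc => hne (by
    rw [L.comm v hc e0 (L.le he0), mul_inv_cancel_right])
  have hZU : Subgroup.zpowers w ≤ U := by rw [Subgroup.zpowers_le]; exact hw
  have hcz : ∀ y ∈ Subgroup.zpowers w, v * y = y * v := by
    intro y hy
    obtain ⟨m, rfl⟩ := Subgroup.mem_zpowers_iff.1 hy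
    exact ((show Commute v w from hvw).zpow_right m).eq
  have hcard := Cfsg.Agent.GH.E.card_rr hv2 (U := Subgroup.zpowers w)
    (fun y hy => by rw [hcz y hy, mul_inv_cancel_right]; exact hy) (fun hc => hvnU (hZU hc))
  have hord : 2 ^ (k + 1) = Nat.card (Subgroup.zpowers w) := by
    rw [Nat.card_zpowers]
    exact (orderOf_eq_prime_pow hw1 (X.all w hw)).symm
  rw [← hord] at hcard
  have hmem : ∀ y, y ∈ rr v (Subgroup.zpowers w) ↔ y ∈ Subgroup.zpowers w ∨ v * y ∈ Subgroup.zpowers w :=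
    fun y => Cfsg.Agent.GH.E.mem_rr hv2 (fun y hy => by rw [hcz y hy, mul_inv_cancel_right]; exact hy)
  have hcv : ∀ y ∈ rr v (Subgroup.zpowers w), v * y = y * v := by
    intro y hy
    rcases (hmem y).1 hy with h1 | h1
    · exact hcz y h1
    · have h2 := hcz _ h1
      have h3 : v * (v * y) = y := by rw [← mul_assoc, hv2, one_mul]
      rw [h3] at h2
      -- y = v * y * v
      calc v * y = v * y * (v * v) := by rw [hv2, mul_one]
        _ = (v * y * v) * v := by group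
        _ = y * v := by rw [← h2]
  have hpg : IsPGroup 2 (rr v (Subgroup.zpowers w)) := IsPGroup.of_card (n := k + 2) (by
    rw [hcard, pow_succ _ (k + 1)]; ring)
  have hab : ∀ p ∈ rr v (Subgroup.zpowers w), ∀ q ∈ rr v (Subgroup.zpowers w), p * q = q * p := by
    have hzz : ∀ a ∈ Subgroup.zpowers w, ∀ b ∈ Subgroup.zpowers w, a * b = b * a := fun a ha b hb =>
      L.comm a (hZU ha) b (hZU hb)
    have key : ∀ a ∈ Subgroup.zpowers w, ∀ q ∈ rr v (Subgroup.zpowers w), a * q = q * a := by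
      intro a ha q hq
      rcases (hmem q).1 hq with h1 | h1
      · exact hzz a ha q h1
      · have h2 := hzz a ha _ h1
        have h3 := hcz a ha
        calc a * q = a * (v * v) * q := by rw [hv2, mul_one]
          _ = (a * v) * (v * q) := by group
          _ = (v * a) * (v * q) := by rw [h3]
          _ = v * (a * (v * q)) := by group
          _ = v * (v * q * a) := by rw [h2]
          _ = (v * v) * q * a := by group
          _ = q * a := by rw [hv2, one_mul]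
    intro p hp q hq
    rcases (hmem p).1 hp with h1 | h1
    · exact key p h1 q hq
    · have h2 := key _ h1 q hq
      have h3 := hcv q hq
      calc p * q = (v * v) * p * q := by rw [hv2, one_mul]
        _ = v * (v * p * q) := by group
        _ = v * (q * (v * p)) := by rw [h2]
        _ = (v * q) * (v * p) := by group
        _ = (q * v) * (v * p) := by rw [h3]
        _ = q * (v * v) * p := by group
        _ = q * p := by rw [hv2, mul_one]
  apply B.not_conj_of_abel hpg hab _ hcv g hgv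
  rw [hcard]
  have h1 : 2 ^ 3 ≤ 2 ^ (k + 1) := Nat.pow_le_pow_right (by norm_num) (by omega)
  omega

theorem Stp.phi_conj (B : Base x E) (A : Stp x E T U P h) (X : Expo U k) {v w : G} (hv : v ∈ Nx x U)
    (hw : w ∈ P) : phi x k (v * w * v⁻¹) = v * phi x k w * v⁻¹ := by
  have L := A.level
  have hvi := (Nx x U).inv_mem hv
  have hwN := A.nx hw
  have h1 : phi x k (w * v⁻¹) = phi x k w * phi x k v⁻¹ := by
    rw [L.phi_mul B hwN hvi, ← A.cE w hw _ (L.phi_mem B X hvi), mul_inv_cancel_right]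
  have h2 : phi x k v * (v * phi x k v⁻¹ * v⁻¹) = 1 := by
    rw [← L.phi_mul B hv hvi, mul_inv_cancel]; exact phi_of_comm B (by group)
  have m1 := L.phi_mem B X hv
  have hvE : ∀ e ∈ E, v * e * v⁻¹ ∈ E := fun e he => L.conj_E B (fun u hu => Nx_U B hv hu) he
  have m2 := hvE _ (L.phi_mem B X hwN)
  rw [mul_assoc, L.phi_mul B hv ((Nx x U).mul_mem hwN hvi), h1]
  calc phi x k v * (v * (phi x k w * phi x k v⁻¹) * v⁻¹)
      = (phi x k v * (v * phi x k w * v⁻¹)) * (v * phi x k v⁻¹ * v⁻¹) := by group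
    _ = ((v * phi x k w * v⁻¹) * phi x k v) * (v * phi x k v⁻¹ * v⁻¹) := by rw [B.commE m1 m2]
    _ = (v * phi x k w * v⁻¹) * (phi x k v * (v * phi x k v⁻¹ * v⁻¹)) := by group
    _ = v * phi x k w * v⁻¹ := by rw [h2, mul_one]

/-- `k = 1`: `s` moves `E`; at most 4 elements of `U` are inverted by `s`. -/
theorem Level.ncard_inv_le (B : Base x E) (L : Level x E U h) (X : Expo U 1) {s e0 : G}
    (hsU : ∀ u ∈ U, s * u * s⁻¹ ∈ U) (he0 : e0 ∈ E) (hne : s * e0 * s⁻¹ ≠ e0) :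
    ({u | u ∈ U ∧ s * u * s⁻¹ = u⁻¹} : Set G).ncard ≤ 4 := by
  classical
  set z := e0 * (s * e0 * s⁻¹) with hz
  have hsE : s * e0 * s⁻¹ ∈ E := L.conj_E B hsU he0
  have hsq : ∀ u ∈ U, u * u ∈ E := fun u hu => by
    have := L.pi_mem X hu
    rwa [pow_one, pow_two] at this
  have hcase : ∀ u ∈ U, s * u * s⁻¹ = u⁻¹ → u * u = 1 → u = 1 ∨ u = z := by
    intro u hu hsu hu2
    have huE := L.omega u hu hu2
    exact B.fix_cases he0 hsE hne huE (by rw [hsu]; exact B.inv_eq huE)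
  have hcase2 : ∀ u ∈ U, s * u * s⁻¹ = u⁻¹ → u * u ≠ 1 → u * u = z := by
    intro u hu hsu hu2
    have h1 : s * (u * u) * s⁻¹ = u * u := by
      have h2 : s * (u * u) * s⁻¹ = (s * u * s⁻¹) * (s * u * s⁻¹) := by group
      rw [h2, hsu, ← mul_inv_rev]
      exact B.inv_eq (hsq u hu)
    rcases B.fix_cases he0 hsE hne (hsq u hu) h1 with h3 | h3
    · exact absurd h3 hu2
    · exact h3
  by_cases hex : ∃ u1 ∈ U, s * u1 * s⁻¹ = u1⁻¹ ∧ u1 * u1 ≠ 1
  · obtain ⟨u1, hu1, hs1, hu11⟩ := hex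
    have hsub : ({u | u ∈ U ∧ s * u * s⁻¹ = u⁻¹} : Set G) ⊆ (({1, z, u1, u1 * z} : Finset G) : Set G) := by
      rintro u ⟨hu, hsu⟩
      simp only [Finset.coe_insert, Finset.coe_singleton, Set.mem_insert_iff, Set.mem_singleton_iff]
      by_cases hu2 : u * u = 1
      · rcases hcase u hu hsu hu2 with h1 | h1
        · exact Or.inl h1
        · exact Or.inr (Or.inl h1)
      · have h1 := hcase2 u hu hsu hu2
        have h2 := hcase2 u1 hu1 hs1 hu11
        have hm : u1⁻¹ * u ∈ U := U.mul_mem (U.inv_mem hu1) hu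
        have h3 : u1⁻¹ * u * (u1⁻¹ * u) = 1 := by
          have h4 := L.comm u hu u1⁻¹ (U.inv_mem hu1)
          calc u1⁻¹ * u * (u1⁻¹ * u) = u1⁻¹ * (u * u1⁻¹) * u := by group
            _ = u1⁻¹ * (u1⁻¹ * u) * u := by rw [h4]
            _ = (u1 * u1)⁻¹ * (u * u) := by group
            _ = 1 := by rw [h1, h2, inv_mul_cancel]
        have h5 : s * (u1⁻¹ * u) * s⁻¹ = (u1⁻¹ * u)⁻¹ := by
          have h6 : s * (u1⁻¹ * u) * s⁻¹ = (s * u1 * s⁻¹)⁻¹ * (s * u * s⁻¹) := by group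
          rw [h6, hs1, hsu, inv_inv, mul_inv_rev, inv_inv]
          exact L.comm u1 hu1 _ (U.inv_mem hu)
        rcases hcase _ hm h5 h3 with h6 | h6
        · right; right; left
          rw [inv_mul_eq_one] at h6
          exact h6.symm
        · right; right; right
          rw [← h6, mul_inv_cancel_left]
    refine (Set.ncard_le_ncard hsub (Finset.finite_toSet _)).trans ?_
    rw [Set.ncard_coe_finset]
    exact Finset.card_le_four
  · push Not at hex
    have hsub : ({u | u ∈ U ∧ s * u * s⁻¹ = u⁻¹} : Set G) ⊆ (({1, z} : Finset G) : Set G) := by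
      rintro u ⟨hu, hsu⟩
      simp only [Finset.coe_insert, Finset.coe_singleton, Set.mem_insert_iff, Set.mem_singleton_iff]
      exact hcase u hu hsu (hex u hu hsu)
    refine (Set.ncard_le_ncard hsub (Finset.finite_toSet _)).trans ?_
    rw [Set.ncard_coe_finset]
    exact Finset.card_le_two.trans (by norm_num)

/-- For `k ≥ 1` the conjugates of `x` in `V T` lie in `P`. -/
theorem VV.mem_P_of_conj (B : Base x E) (S : Syl x E T) (A : VV x E T U P V h) (X : Expo U k)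
    (hk : 1 ≤ k) {g : G} (hg : g * x * g⁻¹ ∈ V ⊔ T) : g * x * g⁻¹ ∈ P := by
  have L := A.stp.level
  obtain ⟨v, hgv⟩ : ∃ v, g * x * g⁻¹ = v := ⟨_, rfl⟩
  have hv2 : v * v = 1 := by rw [← hgv]; exact conj_sq_one B g
  rw [hgv] at hg ⊢
  have hvi : v⁻¹ = v := inv_eq_iff_mul_eq_one.mpr hv2
  have hnT : ∀ t ∈ T, ∀ v ∈ V, t * v * t⁻¹ ∈ V := fun t ht v hv => A.nT B S X ht hv
  have hTN : T ≤ Nx x U := fun t ht => mem_Nx_of_comm B (A.stp.tU t ht) (S.cx t ht)
  have hSN : V ⊔ T ≤ Nx x U := sup_le (A.le.trans A.stp.nx) hTN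
  have hpg : IsPGroup 2 (V ⊔ T : Subgroup G) := sup_pgroup (A.stp.two.to_le A.le) S.two hnT
  have hPle : P ≤ V ⊔ T := by rw [A.sup_eq B S X]; exact le_sup_left
  by_contra hvP
  -- `v` moves `E`
  obtain ⟨e0, he0, hne⟩ : ∃ e0 ∈ E, v * e0 * v⁻¹ ≠ e0 := by
    by_contra hcon
    push Not at hcon
    apply hvP
    have h1 := A.stp.max ((V ⊔ T : Subgroup G) ⊓ Subgroup.centralizer (E : Set G)) (hpg.to_le inf_le_left)
      (le_inf hPle (fun p hp => Subgroup.mem_centralizer_iff.2 (fun e he => A.stp.cE p hp e he)))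
      (inf_le_left.trans hSN) (fun q hq e he => Subgroup.mem_centralizer_iff.1 hq.2 e he)
    rw [← h1]
    refine ⟨hg, Subgroup.mem_centralizer_iff.2 (fun e he => ?_)⟩
    have h2 := hcon e he
    rw [mul_inv_eq_iff_eq_mul] at h2
    exact h2.symm
  have hvU : ∀ u ∈ U, v * u * v⁻¹ ∈ U := fun u hu => Nx_U B (hSN hg) hu
  by_cases hk2 : 2 ≤ k
  · exact L.false_of_move B X hk2 hgv hvU he0 hne
  have hk1 : k = 1 := by omega
  subst hk1
  have hvE : v * e0 * v⁻¹ ∈ E := L.conj_E B hvU he0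
  -- the elements of `V` inverted by `v`
  have hphi : ∀ w ∈ V, v * w * v⁻¹ = w⁻¹ → v * phi x 1 w * v⁻¹ = phi x 1 w := by
    intro w hw hw1
    rw [← A.stp.phi_conj B X (hSN hg) (A.le hw), hw1]
    exact A.stp.phi_inv B X (A.le hw)
  have hW : ({w | w ∈ V ∧ v * w * v⁻¹ = w⁻¹} : Set G).ncard ≤ 8 := by
    have h4 := L.ncard_inv_le B X hvU he0 hne
    by_cases hex : ∃ w0 ∈ V, v * w0 * v⁻¹ = w0⁻¹ ∧ w0 ∉ U
    · obtain ⟨w0, hw0, hvw0, hw0U⟩ := hex
      have hz0 : phi x 1 w0 = e0 * (v * e0 * v⁻¹) := by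
        rcases B.fix_cases he0 hvE hne (A.stp.phi_mem B X (A.le hw0)) (hphi w0 hw0 hvw0) with h1 | h1
        · exact absurd (A.U_of_phi B X hw0 h1) hw0U
        · exact h1
      have hsU : ∀ u ∈ U, (w0⁻¹ * v) * u * (w0⁻¹ * v)⁻¹ ∈ U := by
        intro u hu
        have h1 : (w0⁻¹ * v) * u * (w0⁻¹ * v)⁻¹ = w0⁻¹ * (v * u * v⁻¹) * w0⁻¹⁻¹ := by group
        rw [h1]
        exact A.stp.U_nP B (P.inv_mem (A.le hw0)) (hvU u hu)
      have hsne : (w0⁻¹ * v) * e0 * (w0⁻¹ * v)⁻¹ ≠ e0 := by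
        have h1 : (w0⁻¹ * v) * e0 * (w0⁻¹ * v)⁻¹ = w0⁻¹ * (v * e0 * v⁻¹) * w0⁻¹⁻¹ := by group
        rw [h1, ← A.stp.cE _ (P.inv_mem (A.le hw0)) _ hvE, mul_inv_cancel_right]
        exact hne
      have h5 := L.ncard_inv_le B X hsU he0 hsne
      have hsub : ({w | w ∈ V ∧ v * w * v⁻¹ = w⁻¹} : Set G) ⊆ {u | u ∈ U ∧ v * u * v⁻¹ = u⁻¹} ∪
          (fun u => w0 * u) '' {u | u ∈ U ∧ (w0⁻¹ * v) * u * (w0⁻¹ * v)⁻¹ = u⁻¹} := by
        rintro w ⟨hw, hvw⟩
        by_cases hwU : w ∈ U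
        · exact Or.inl ⟨hwU, hvw⟩
        · right
          have hz : phi x 1 w = e0 * (v * e0 * v⁻¹) := by
            rcases B.fix_cases he0 hvE hne (A.stp.phi_mem B X (A.le hw)) (hphi w hw hvw) with h1 | h1
            · exact absurd (A.U_of_phi B X hw h1) hwU
            · exact h1
          refine ⟨w0⁻¹ * w, ⟨A.eq_mul B X hw0 hw (by rw [hz0, hz]), ?_⟩, by
            show w0 * (w0⁻¹ * w) = w
            group⟩
          calc (w0⁻¹ * v) * (w0⁻¹ * w) * (w0⁻¹ * v)⁻¹ = w0⁻¹ * ((v * w0 * v⁻¹)⁻¹ * (v * w * v⁻¹)) * w0 := by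
                group
            _ = (w0⁻¹ * w)⁻¹ := by rw [hvw0, hvw]; group
      refine (Set.ncard_le_ncard hsub (Set.toFinite _)).trans ((Set.ncard_union_le _ _).trans ?_)
      have h6 := Set.ncard_image_le (f := fun u => w0 * u)
        (Set.toFinite ({u | u ∈ U ∧ (w0⁻¹ * v) * u * (w0⁻¹ * v)⁻¹ = u⁻¹} : Set G))
      omega
    · push Not at hex
      have hsub : ({w | w ∈ V ∧ v * w * v⁻¹ = w⁻¹} : Set G) ⊆ {u | u ∈ U ∧ v * u * v⁻¹ = u⁻¹} := by
        rintro w ⟨hw, hvw⟩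
        exact ⟨hex w hw hvw, hvw⟩
      exact (Set.ncard_le_ncard hsub (Set.toFinite _)).trans (h4.trans (by norm_num))
  -- the orbit of `v`
  have horb : ({y | ∃ c ∈ (V ⊔ T : Subgroup G), c * v * c⁻¹ = y} : Set G) ⊆
      (fun w => v * w) '' {w | w ∈ V ∧ v * w * v⁻¹ = w⁻¹} := by
    rintro _ ⟨c, hc, rfl⟩
    refine ⟨v⁻¹ * (c * v * c⁻¹), ⟨?_, ?_⟩, by
      show v * (v⁻¹ * (c * v * c⁻¹)) = c * v * c⁻¹
      group⟩
    · have h1 := sup_comm hnT (fun t ht s hs => A.U_le (L.le (S.comm_mem B t ht s hs))) _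
        (Subgroup.inv_mem _ hg) c hc
      have h2 : v⁻¹ * (c * v * c⁻¹) = v⁻¹ * c * v⁻¹⁻¹ * c⁻¹ := by group
      rw [h2]; exact h1
    · rw [hvi]
      calc v * (v * (c * v * c⁻¹)) * v = (v * v) * (c * v * c⁻¹) * v := by group
        _ = (c * v * c⁻¹) * v := by rw [hv2, one_mul]
        _ = (v⁻¹ * (c * v⁻¹ * c⁻¹))⁻¹ := by group
        _ = (v * (c * v * c⁻¹))⁻¹ := by rw [hvi]
  have h1 := card_eq_ncard_orbit_mul (V ⊔ T : Subgroup G) v
  have h2 : ({y | ∃ c ∈ (V ⊔ T : Subgroup G), c * v * c⁻¹ = y} : Set G).ncard ≤ 8 :=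
    (Set.ncard_le_ncard horb (Set.toFinite _)).trans
      ((Set.ncard_image_le (Set.toFinite _)).trans hW)
  -- the centraliser of `v` has order at most 16
  have h3 : Nat.card ((V ⊔ T : Subgroup G) ⊓ Subgroup.centralizer {v} : Subgroup G) ≤ 16 := by
    have h4 := B.cent_card _ ((hpg.to_le inf_le_left).map (MulAut.conj g⁻¹).toMonoidHom)
      (conj_centr_map (Q := (V ⊔ T : Subgroup G) ⊓ Subgroup.centralizer {v}) hgv
        (fun c hc => (Subgroup.mem_centralizer_singleton_iff.1 hc.2).symm))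
    have h5 : Nat.card (((V ⊔ T : Subgroup G) ⊓ Subgroup.centralizer {v} : Subgroup G).map
        (MulAut.conj g⁻¹).toMonoidHom) = Nat.card ((V ⊔ T : Subgroup G) ⊓ Subgroup.centralizer {v} : Subgroup G) :=
      Nat.card_congr (((V ⊔ T : Subgroup G) ⊓ Subgroup.centralizer {v} : Subgroup G).equivMapOfInjective _
        (MulAut.conj g⁻¹).injective).symm.toEquiv
    omega
  -- the order of `V T`
  have h4 : 2 * Nat.card P ≤ Nat.card (V ⊔ T : Subgroup G) := by
    have h5 := Subgroup.card_dvd_of_le hPle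
    obtain ⟨m, hm⟩ := h5
    have h6 : m ≠ 1 := by
      rintro rfl
      rw [mul_one] at hm
      exact hvP (by rw [Subgroup.eq_of_le_of_card_ge hPle hm.le]; exact hg)
    have h7 : m ≠ 0 := by
      rintro rfl
      have : 0 < Nat.card (V ⊔ T : Subgroup G) := Nat.card_pos
      omega
    rw [hm, mul_comm]
    exact Nat.mul_le_mul_left _ (by omega)
  have h5 := A.stp.card
  obtain ⟨K, hK, hKc⟩ := L.exists_K B X
  have h6 : E ≤ K := by
    intro e he
    exact (hK e).2 ⟨L.le he, by rw [pow_one, pow_two]; exact B.sq e he⟩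
  have h7 := Subgroup.card_le_of_le h6
  rw [B.card] at h7
  have h8 := Nat.mul_le_mul h2 h3
  omega

end

end Cfsg.Agent.GH.N2
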