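import Cfsg.Agent.GH.N2.EndB

/-!
# GH-L2, `|Q| = 2`, `|D| = 4`, `T = 2 × D8`: levels `k ≥ 1` lead to the type of `G₂(3)`
-/

set_option autoImplicit false
set_option linter.unusedSectionVars false

universe u

namespace Cfsg.Agent.GH.N2

open Cfsg.Agent.GH.E (rr self_mem_rr le_rr rr_mono cj cj_mul cj_inv cj_one cj_zero cj_cj cj_injective
  cj_eq_one cj_succ cj_mem Expo pow_two_pow_succ pow_two_pow_succ' conj_pow' phi card_eq_ncard_orbit_mul
  exists_conj_le exists_pow_eq_inv exists_sylow_eq)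

variable {G : Type u} [Group G] {x h : G} {E T U P V : Subgroup G} {k : ℕ}

section

variable [Finite G]

/-- an element of `T` outside `E⟨x⟩` moves `E` -/
theorem Syl.moves (B : Base x E) (S : Syl x E T) {t : G} (ht : t ∈ T) (htF : t ∉ rr x E) :
    ∃ e0 ∈ E, t * e0 * t⁻¹ ≠ e0 := by
  by_contra hcon
  push Not at hcon
  apply htF
  apply B.mem_of_elt (exists_pow_of_mem S.two ht) (S.cx t ht)
  intro e he
  have h2 := hcon e he
  rw [mul_inv_eq_iff_eq_mul] at h2
  exact h2.symm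

/-- If `T / E` has a further involution, then `T - E⟨x⟩` contains an involution. -/
theorem Syl.exists_inv (B : Base x E) (S : Syl x E T) {t : G} (ht : t ∈ T) (htF : t ∉ rr x E)
    (ht2 : t * t ∈ E) : ∃ s ∈ T, s ∉ rr x E ∧ s * s = 1 := by
  obtain ⟨e0, he0, hne⟩ := S.moves B ht htF
  have hsw := S.swap B ht he0 hne
  have hf0 := S.nE t ht e0 he0
  have hfix : t * (t * t) * t⁻¹ = t * t := by group
  rcases B.fix_cases he0 hf0 hne ht2 hfix with h1 | h1
  · exact ⟨t, ht, htF, h1⟩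
  · refine ⟨t * e0, T.mul_mem ht (S.ET he0), fun hc => htF ?_, ?_⟩
    · have h2 := Subgroup.mul_mem _ hc (Subgroup.inv_mem _ (le_rr x E he0))
      rwa [mul_inv_cancel_right] at h2
    · -- `t e0 t e0 = (t e0 t⁻¹) t² e0`
      have h3 := B.commE he0 hf0
      calc t * e0 * (t * e0) = (t * e0 * t⁻¹) * (t * t) * e0 := by group
        _ = (t * e0 * t⁻¹) * (e0 * (t * e0 * t⁻¹)) * e0 := by rw [h1]
        _ = (t * e0 * t⁻¹) * ((t * e0 * t⁻¹) * e0) * e0 := by rw [h3]
        _ = ((t * e0 * t⁻¹) * (t * e0 * t⁻¹)) * (e0 * e0) := by group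
        _ = 1 := by rw [B.sq _ hf0, B.sq _ he0, one_mul]

/-- `k ≥ 2`, no mover: contradiction. -/
theorem Level.false_of_fixed_two [IsSimpleGroup G] (hG : ¬ ∀ a b : G, a * b = b * a) (B : Base x E)
    (S : Syl x E T) (L : Level x E U h) (X : Expo U k) (tU : ∀ t ∈ T, ∀ u ∈ U, t * u * t⁻¹ ∈ U)
    (hk : 2 ≤ k) (hfix : ∀ g ∈ Nx x U, phi x k g = 1) : False := by
  apply L.false_of_fixed hG B S X tU hfix
  intro g hg
  obtain ⟨v, hgv⟩ : ∃ v, g * x * g⁻¹ = v := ⟨_, rfl⟩
  have hv2 : v * v = 1 := by rw [← hgv]; exact conj_sq_one B g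
  rw [hgv] at hg ⊢
  obtain ⟨n, hn, t, ht, rfl⟩ := (mem_sup_of_norm tU).1 hg
  by_cases htF : t ∈ rr x E
  · have h1 : n * t ∈ rr x U := Subgroup.mul_mem _ (le_rr x U hn) (rr_mono L.le htF)
    rcases (L.mem_rr B).1 h1 with h2 | h2
    · exact absurd hgv (L.not_conj_E B X (by omega) (L.omega _ h2 hv2) g)
    · exact h2
  · exfalso
    obtain ⟨e0, he0, hne⟩ := S.moves B ht htF
    refine L.false_of_move B X hk hgv (sup_norm tU _ hg) he0 ?_
    have h1 : n * t * e0 * (n * t)⁻¹ = n * (t * e0 * t⁻¹) * n⁻¹ := by group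
    rw [h1, L.comm n hn _ (L.le (S.nE t ht e0 he0)), mul_inv_cancel_right]
    exact hne

/-- `k = 1`, no mover, `T - E⟨x⟩` not empty: `U T` is a Sylow 2-subgroup of `G`. -/
theorem Level.sylow_one (B : Base x E)
    (S : Syl x E T) (L : Level x E U h) (X : Expo U 1) (tU : ∀ t ∈ T, ∀ u ∈ U, t * u * t⁻¹ ∈ U)
    {t0 : G} (ht0 : t0 ∈ T) (ht0F : t0 ∉ rr x E)
    (hfix : ∀ g ∈ Nx x U, phi x 1 g = 1) : ∃ R : Sylow 2 G, (R : Subgroup G) = U ⊔ T := by
  have hpg : IsPGroup 2 (U ⊔ T : Subgroup G) := sup_pgroup L.pgroup S.two tU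
  have hTle : T ≤ U ⊔ T := le_sup_right
  have hUle : U ≤ U ⊔ T := le_sup_left
  obtain ⟨e0, he0, hne⟩ := S.moves B ht0 ht0F
  have hsq : ∀ u ∈ U, u * u ∈ E := fun u hu => by
    have := L.pi_mem X hu
    rwa [pow_one, pow_two] at this
  -- `U` = the elements of `U T` commuting with all commutators
  have hcU : ∀ a ∈ U ⊔ T, ∀ b ∈ U ⊔ T, a * b * a⁻¹ * b⁻¹ ∈ U :=
    sup_comm tU (fun t ht s hs => L.le (S.comm_mem B t ht s hs))
  have hchar : ∀ g ∈ U ⊔ T, (∀ a ∈ U ⊔ T, ∀ b ∈ U ⊔ T, g * (a * b * a⁻¹ * b⁻¹) =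
      (a * b * a⁻¹ * b⁻¹) * g) → g ∈ U := by
    intro g hg hgc
    -- all elements of `E` are commutators
    have hE : ∀ e ∈ E, g * e = e * g := by
      intro e he
      obtain ⟨u, hu, hue⟩ := L.pi_surj B X he
      rw [pow_one, pow_two] at hue
      have h1 := hgc x (hTle S.xT) u (hUle hu)
      have h2 : x * u * x⁻¹ * u⁻¹ = e := by
        rw [L.inv u hu, ← mul_inv_rev, hue, B.inv_eq he]
      rwa [h2] at h1
    obtain ⟨n, hn, t, ht, rfl⟩ := (mem_sup_of_norm tU).1 hg
    have htF : t ∈ rr x E := by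
      by_contra htF
      obtain ⟨e1, he1, hne1⟩ := S.moves B ht htF
      apply hne1
      have h1 := hE e1 he1
      have h2 := L.comm n hn e1 (L.le he1)
      have h3 : t * e1 = e1 * t := by
        have h4 : n * (t * e1) = n * (e1 * t) := by
          calc n * (t * e1) = n * t * e1 := by group
            _ = e1 * (n * t) := h1
            _ = (e1 * n) * t := by group
            _ = n * (e1 * t) := by rw [← h2]; group
        exact mul_left_cancel h4
      rw [h3, mul_inv_cancel_right]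
    have h1 : n * t ∈ rr x U := Subgroup.mul_mem _ (le_rr x U hn) (rr_mono L.le htF)
    rcases (L.mem_rr B).1 h1 with h2 | h2
    · exact h2
    · exfalso
      apply hne
      obtain ⟨u, hu, hue⟩ := L.pi_surj B X he0
      rw [pow_one, pow_two] at hue
      set n' := x * (n * t) with hn'
      have hg' : n * t = x * n' := by rw [hn', B.xx_mul]
      set c := t0 * u * t0⁻¹ * u⁻¹ with hc
      have hcU' : c ∈ U := hcU _ (hTle ht0) _ (hUle hu)
      have h3 := hgc t0 (hTle ht0) u (hUle hu)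
      rw [← hc, hg'] at h3
      -- `x n' c = c x n'` so `c⁻¹ = c`
      have h4 : c * c = 1 := by
        have h5 : x * n' * c * (x * n')⁻¹ = c⁻¹ := by
          have h6 : x * n' * c * (x * n')⁻¹ = x * (n' * c * n'⁻¹) * x⁻¹ := by group
          rw [h6, L.comm n' h2 c hcU', mul_inv_cancel_right, L.inv c hcU']
        rw [h3, mul_inv_cancel_right] at h5
        rw [← mul_inv_cancel c, ← h5]
      -- `c² = (t0 e0 t0⁻¹) e0`
      have h5 : c * c = (t0 * e0 * t0⁻¹) * e0 := by
        have m1 : t0 * u * t0⁻¹ ∈ U := tU t0 ht0 u hu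
        have h6 := L.comm _ (U.inv_mem hu) _ m1
        calc c * c = (t0 * u * t0⁻¹) * (u⁻¹ * (t0 * u * t0⁻¹)) * u⁻¹ := by rw [hc]; group
          _ = (t0 * u * t0⁻¹) * ((t0 * u * t0⁻¹) * u⁻¹) * u⁻¹ := by rw [h6]
          _ = (t0 * (u * u) * t0⁻¹) * (u * u)⁻¹ := by group
          _ = (t0 * e0 * t0⁻¹) * e0 := by rw [hue, B.inv_eq he0]
      rw [h4] at h5
      have h6 := eq_inv_of_mul_eq_one_left h5.symm
      rw [h6, B.inv_eq he0]
  apply exists_sylow_eq hpg
  intro Q hQ hle hQN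
  apply le_antisymm _ hle
  intro q hq
  have hqn : ∀ r ∈ U ⊔ T, q * r * q⁻¹ ∈ U ⊔ T := fun r hr =>
    (Subgroup.mem_normalizer_iff.1 (hQN hq) r).1 hr
  have hqn' : ∀ r ∈ U ⊔ T, q⁻¹ * r * q ∈ U ⊔ T := fun r hr => by
    have := (Subgroup.mem_normalizer_iff.1 (hQN (Q.inv_mem hq)) r).1 hr
    rwa [inv_inv] at this
  have key : ∀ y : G, (∀ r ∈ U ⊔ T, y * r * y⁻¹ ∈ U ⊔ T) → (∀ r ∈ U ⊔ T, y⁻¹ * r * y ∈ U ⊔ T) →
      ∀ u ∈ U, y * u * y⁻¹ ∈ U := by
    intro y hy hy' u hu
    apply hchar _ (hy u (hUle hu))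
    intro a ha b hb
    have h1 := hcU _ (hy' a ha) _ (hy' b hb)
    have h2 := L.comm u hu _ h1
    calc y * u * y⁻¹ * (a * b * a⁻¹ * b⁻¹)
        = y * (u * ((y⁻¹ * a * y) * (y⁻¹ * b * y) * (y⁻¹ * a * y)⁻¹ * (y⁻¹ * b * y)⁻¹)) * y⁻¹ := by group
      _ = y * (((y⁻¹ * a * y) * (y⁻¹ * b * y) * (y⁻¹ * a * y)⁻¹ * (y⁻¹ * b * y)⁻¹) * u) * y⁻¹ := by rw [h2]
      _ = a * b * a⁻¹ * b⁻¹ * (y * u * y⁻¹) := by group
  have hqU := key q hqn hqn'
  have hqU' : ∀ u ∈ U, q⁻¹ * u * q ∈ U := fun u hu => by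
    have := key q⁻¹ (fun r hr => by rw [inv_inv]; exact hqn' r hr) (fun r hr => by rw [inv_inv]; exact hqn r hr)
      u hu
    rwa [inv_inv] at this
  -- `q x q⁻¹` inverts `U`
  have hinv : ∀ u ∈ U, (q * x * q⁻¹) * u * (q * x * q⁻¹)⁻¹ = u⁻¹ := by
    intro u hu
    have h1 := L.inv _ (hqU' u hu)
    calc (q * x * q⁻¹) * u * (q * x * q⁻¹)⁻¹ = q * (x * (q⁻¹ * u * q) * x⁻¹) * q⁻¹ := by group
      _ = u⁻¹ := by rw [h1]; group
  have hd : x * (q * x * q⁻¹) ∈ U := by
    apply hchar _ (Subgroup.mul_mem _ (hTle S.xT) (hqn x (hTle S.xT)))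
    intro a ha b hb
    have h1 := hcU a ha b hb
    set c := a * b * a⁻¹ * b⁻¹ with hc
    have h2 := hinv c h1
    rw [mul_inv_eq_iff_eq_mul] at h2
    have h3 := L.mul_x B h1
    rw [mul_assoc, h2, ← mul_assoc, ← h3, mul_assoc]
  have hqN : q ∈ Nx x U := (mem_Nx B).2 ⟨hqU, hd⟩
  have hphi := hfix q hqN
  obtain ⟨w, hw, hw1⟩ := L.exists_conj B X hd U.one_mem (by rw [one_pow]; exact hphi)
  rw [B.xx_mul, mul_one] at hw1
  have h2 : w * q ∈ Q := Q.mul_mem (hle (hUle hw)) hq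
  have h3 : (w * q) * x = x * (w * q) := by
    have h4 : (w * q) * x * (w * q)⁻¹ = x := by
      calc (w * q) * x * (w * q)⁻¹ = w * (q * x * q⁻¹) * w⁻¹ := by group
        _ = x := hw1
    rwa [mul_inv_eq_iff_eq_mul] at h4
  have h4 : (Q ⊓ Subgroup.centralizer {x} : Subgroup G) = T := by
    apply S.max _ (hQ.to_le inf_le_left)
    · exact fun c hc => (Subgroup.mem_centralizer_singleton_iff.1 hc.2).symm
    · exact le_inf (hTle.trans hle) (fun t ht =>
        Subgroup.mem_centralizer_singleton_iff.2 (S.cx t ht).symm)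
  have h5 : w * q ∈ T := by
    rw [← h4]
    exact ⟨h2, Subgroup.mem_centralizer_singleton_iff.2 h3⟩
  have h6 := Subgroup.mul_mem _ (hUle (U.inv_mem hw)) (hTle h5)
  rwa [inv_mul_cancel_left] at h6

/-- The tower for `T = 2 × D8`: levels `k ≥ 1`. -/
theorem exists_of_level [IsSimpleGroup G] (hG : ¬ ∀ a b : G, a * b = b * a) (B : Base x E)
    (S : Syl x E T) {t0 : G} (ht0 : t0 ∈ T) (ht0F : t0 ∉ rr x E) :
    ∀ (n : ℕ) (U : Subgroup G) (h : G), Nat.card G - Nat.card U ≤ n → Level x E U h →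
      (∀ t ∈ T, ∀ u ∈ U, t * u * t⁻¹ ∈ U) → (∃ w ∈ U, w ∉ E) →
      ∃ (U' : Subgroup G) (h' : G), Level x E U' h' ∧ Expo U' 1 ∧ (∀ t ∈ T, ∀ u ∈ U', t * u * t⁻¹ ∈ U') ∧
        ∃ R : Sylow 2 G, (R : Subgroup G) = U' ⊔ T := by
  intro n
  induction n with
  | zero =>
    intro U h hn L _ _
    have h1 : Nat.card U = Nat.card G := le_antisymm (Subgroup.card_le_card_group U) (by omega)
    have h2 := Subgroup.eq_top_of_card_eq U h1
    exact absurd (h2 ▸ Subgroup.mem_top x) (L.x_notMem B)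
  | succ n ih =>
    intro U h hn L tU hst
    obtain ⟨k, X⟩ := L.exists_expo B
    have hk := L.pos_of_ne B X hst
    by_cases hmov : ∃ g ∈ Nx x U, phi x k g ≠ 1
    · obtain ⟨g, hg, hg1⟩ := hmov
      obtain ⟨P, h', A, _⟩ := exists_stp B S L X tU hg hg1
      obtain ⟨V, hV⟩ := A.exists_V B X
      have AV : VV x E T U P V h' := ⟨A, hV⟩
      by_cases hd : ∃ y ∈ V, y ∉ U ∧ x * y * x⁻¹ = y⁻¹
      · obtain ⟨y, hy, hyU, hyx⟩ := hd
        have LV := AV.level_of_inv B X hy hyU hyx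
        have hUV := AV.U_lt B X
        have h3 : Nat.card U < Nat.card V := by
          by_contra hcon
          push Not at hcon
          exact hUV.ne (Subgroup.eq_of_le_of_card_ge hUV.le hcon)
        have h4 : Nat.card V ≤ Nat.card G := Subgroup.card_le_card_group V
        exact ih V h' (by omega) LV (fun t ht v hv => AV.nT B S X ht hv)
          ⟨y, hy, fun hc => hyU (L.le hc)⟩
      · push Not at hd
        exfalso
        apply AV.false_of_conj hG B S X
        intro g hg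
        exact AV.beta B X hd (AV.mem_P_of_conj B S X (by omega) hg)
    · push Not at hmov
      by_cases hk2 : 2 ≤ k
      · exact absurd (L.false_of_fixed_two hG B S X tU hk2 hmov) id
      · have hk1 : k = 1 := by omega
        subst hk1
        exact ⟨U, h, L, X, tU, L.sylow_one B S X tU ht0 ht0F hmov⟩

/-- The data of the type of `G₂(3)`. -/
theorem Level.data (B : Base x E) (S : Syl x E T) (L : Level x E U h) (X : Expo U 1)
    (tU : ∀ t ∈ T, ∀ u ∈ U, t * u * t⁻¹ ∈ U) {t : G} (ht : t ∈ T) (htF : t ∉ rr x E) (ht2 : t * t = 1) :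
    ∃ a ∈ U, ∃ b ∈ U, a * b = b * a ∧ a ^ 4 = 1 ∧ b ^ 4 = 1 ∧ x * a * x⁻¹ = a⁻¹ ∧ x * b * x⁻¹ = b⁻¹ ∧
      t * a * t⁻¹ = b ∧ Subgroup.closure {a, b, x, t} = U ⊔ T ∧ Nat.card (U ⊔ T : Subgroup G) = 64 := by
  obtain ⟨e0, he0, hne⟩ := S.moves B ht htF
  have hf0 := S.nE t ht e0 he0
  have he01 : e0 ≠ 1 := by
    rintro rfl
    exact hne (by group)
  have hf01 : t * e0 * t⁻¹ ≠ 1 := by
    intro hc
    apply he01
    have : e0 = t⁻¹ * (t * e0 * t⁻¹) * t := by group
    rw [this, hc]; group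
  have hsq : ∀ u ∈ U, u * u ∈ E := fun u hu => by
    have := L.pi_mem X hu
    rwa [pow_one, pow_two] at this
  have h4 : ∀ u ∈ U, u ^ 4 = 1 := fun u hu => X.all u hu
  obtain ⟨a, ha, hae⟩ := L.pi_surj B X he0
  rw [pow_one, pow_two] at hae
  set b := t * a * t⁻¹ with hb
  have hbU : b ∈ U := tU t ht a ha
  have hbe : b * b = t * e0 * t⁻¹ := by rw [← hae, hb]; group
  have hTle : T ≤ U ⊔ T := le_sup_right
  have hUle : U ≤ U ⊔ T := le_sup_left
  refine ⟨a, ha, b, hbU, L.comm a ha b hbU, h4 a ha, h4 b hbU, L.inv a ha, L.inv b hbU, rfl, ?_, ?_⟩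
  · apply le_antisymm
    · rw [Subgroup.closure_le]
      rintro y (rfl | rfl | rfl | rfl)
      · exact hUle ha
      · exact hUle hbU
      · exact hTle S.xT
      · exact hTle ht
    · set C := Subgroup.closure {a, b, x, t} with hC
      have ma : a ∈ C := Subgroup.subset_closure (by simp)
      have mb : b ∈ C := Subgroup.subset_closure (by simp)
      have mx : x ∈ C := Subgroup.subset_closure (by simp)
      have mt : t ∈ C := Subgroup.subset_closure (by simp)
      have hEC : ∀ e ∈ E, e ∈ C := by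
        intro e he
        have h5 : e0 ∈ C := by rw [← hae]; exact C.mul_mem ma ma
        have h6 : t * e0 * t⁻¹ ∈ C := by rw [← hbe]; exact C.mul_mem mb mb
        rcases B.mem_cases he0 hf0 he01 hf01 hne.symm he with h7 | h7 | h7 | h7
        · rw [h7]; exact C.one_mem
        · rw [h7]; exact h5
        · rw [h7]; exact h6
        · rw [h7]; exact C.mul_mem h5 h6
      have hdiff : ∀ u ∈ U, ∀ v ∈ U, v ∈ C → u * u = v * v → u ∈ C := by
        intro u hu v hv hvC huv
        have h5 : v⁻¹ * u * (v⁻¹ * u) = 1 := by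
          have h6 := L.comm u hu v⁻¹ (U.inv_mem hv)
          calc v⁻¹ * u * (v⁻¹ * u) = v⁻¹ * (u * v⁻¹) * u := by group
            _ = v⁻¹ * (v⁻¹ * u) * u := by rw [h6]
            _ = (v * v)⁻¹ * (u * u) := by group
            _ = 1 := by rw [huv, inv_mul_cancel]
        have h6 := hEC _ (L.omega _ (U.mul_mem (U.inv_mem hv) hu) h5)
        have h7 := C.mul_mem hvC h6
        rwa [mul_inv_cancel_left] at h7
      have hUC : U ≤ C := by
        intro u hu
        rcases B.mem_cases he0 hf0 he01 hf01 hne.symm (hsq u hu) with h7 | h7 | h7 | h7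
        · exact hdiff u hu 1 U.one_mem C.one_mem (by rw [h7, one_mul])
        · exact hdiff u hu a ha ma (by rw [h7, hae])
        · exact hdiff u hu b hbU mb (by rw [h7, hbe])
        · refine hdiff u hu (a * b) (U.mul_mem ha hbU) (C.mul_mem ma mb) ?_
          rw [h7, ← hbe, ← hae]
          have h8 := L.comm b hbU a ha
          calc a * a * (b * b) = a * (a * b) * b := by group
            _ = a * (b * a) * b := by rw [h8]
            _ = a * b * (a * b) := by group
      refine sup_le hUC ?_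
      have hFC : rr x E ≤ C := sup_le (fun e he => hEC e he) (by rw [Subgroup.zpowers_le]; exact mx)
      intro s hs
      by_cases hsF : s ∈ rr x E
      · exact hFC hsF
      · have h5 := hFC (S.mem_F_of_notMem B hs ht hsF htF)
        have h6 := C.mul_mem h5 (C.inv_mem mt)
        rwa [mul_inv_cancel_right] at h6
  · have hsup : (U ⊔ T : Subgroup G) = rr t (rr x U) := by
      apply le_antisymm
      · refine sup_le ((le_rr x U).trans (le_rr t _)) ?_
        intro s hs
        by_cases hsF : s ∈ rr x E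
        · exact le_rr t _ (rr_mono L.le hsF)
        · have h5 := le_rr t _ (rr_mono L.le (S.mem_F_of_notMem B hs ht hsF htF))
          have h6 := Subgroup.mul_mem _ h5 (Subgroup.inv_mem _ (self_mem_rr t (rr x U)))
          rwa [mul_inv_cancel_right] at h6
      · refine sup_le (sup_le hUle (by rw [Subgroup.zpowers_le]; exact hTle S.xT)) ?_
        rw [Subgroup.zpowers_le]; exact hTle ht
    have htn : ∀ u ∈ rr x U, t * u * t⁻¹ ∈ rr x U := by
      intro u hu
      rcases (L.mem_rr B).1 hu with h5 | h5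
      · exact le_rr x U (tU t ht u h5)
      · apply (L.mem_rr B).2
        right
        have h6 : x * (t * u * t⁻¹) = t * (x * u) * t⁻¹ := by
          have := S.cx t ht
          calc x * (t * u * t⁻¹) = (x * t) * u * t⁻¹ := by group
            _ = (t * x) * u * t⁻¹ := by rw [this]
            _ = t * (x * u) * t⁻¹ := by group
        rw [h6]; exact tU t ht _ h5
    have htnot : t ∉ rr x U := by
      intro hc
      exact hne (by rw [← L.E_comm B he0 hc, mul_inv_cancel_right])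
    rw [hsup, Cfsg.Agent.GH.E.card_rr ht2 htn htnot, L.card_rr B]
    obtain ⟨K, hK, hKc⟩ := L.exists_K B X
    have h6 : K = E := by
      ext e
      constructor
      · intro he
        have h7 := (hK e).1 he
        rw [pow_one, pow_two] at h7
        exact L.omega e h7.1 h7.2
      · intro he
        exact (hK e).2 ⟨L.le he, by rw [pow_one, pow_two]; exact B.sq e he⟩
    rw [h6, B.card] at hKc
    omega

end

end Cfsg.Agent.GH.N2
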