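import Cfsg.Agent.GH.N2.HolEight

/-!
# GH-L2, `|Q| = 2`, `|D| = 4`, `T = 2 × D8`, `E⟨x⟩` moved by `N(T)`

Step (2) of bb GH #6798: no element `s` of `N_G(T)` with `x^s = xz` moves `E⟨x⟩`.
-/

set_option autoImplicit false

namespace Cfsg.Agent.GH.N2.Swap

open Cfsg.Agent.GH.E (rr self_mem_rr le_rr exists_pow_eq_inv cj)
open Cfsg.Agent.GH.N2.HolEight

variable {G : Type*} [Group G] {x h : G} {E T : Subgroup G}

theorem pow_norm {H : Subgroup G} {u : G} (hu : ∀ t ∈ H, u * t * u⁻¹ ∈ H) (k : ℕ) :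
    ∀ t ∈ H, u ^ k * t * (u ^ k)⁻¹ ∈ H := by
  induction k with
  | zero => intro t ht; simpa using ht
  | succ k ih =>
    intro t ht
    have h1 : u ^ (k + 1) * t * (u ^ (k + 1))⁻¹ = u * (u ^ k * t * (u ^ k)⁻¹) * u⁻¹ := by
      rw [pow_succ']; group
    rw [h1]
    exact hu _ (ih t ht)

/-- the data -/
structure Dat (x z a t0 : G) (E T : Subgroup G) : Prop where
  base : Base x E
  syl : Syl x E T
  t0T : t0 ∈ T
  aE : a ∈ E
  zE : z ∈ E
  a1 : a ≠ 1
  z1 : z ≠ 1
  az : a ≠ z
  t0z : t0 * z * t0⁻¹ = z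
  t0a : t0 * a * t0⁻¹ = a * z

variable {z a t0 : G}

/-- from an involution of `T` not centralising `E` to the data -/
theorem exists_dat (B : Base x E) (Y : Syl x E T) (ht : t0 ∈ T) (htt : t0 * t0 = 1)
    (hc : ¬ ∀ e ∈ E, e * t0 = t0 * e) : ∃ z a : G, Dat x z a t0 E T := by
  push Not at hc
  obtain ⟨a, haE, ha⟩ := hc
  have hb := Y.nE t0 ht a haE
  have hti : t0⁻¹ = t0 := inv_eq_iff_mul_eq_one.mpr htt
  have hne : t0 * a * t0⁻¹ ≠ a := by
    intro h1
    rw [mul_inv_eq_iff_eq_mul] at h1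
    exact ha h1.symm
  have ha1 : a ≠ 1 := by
    rintro rfl
    exact ha (by group)
  have hz : t0 * (a * (t0 * a * t0⁻¹)) * t0⁻¹ = a * (t0 * a * t0⁻¹) := by
    calc t0 * (a * (t0 * a * t0⁻¹)) * t0⁻¹ = (t0 * a * t0⁻¹) * ((t0 * t0) * a * (t0 * t0)⁻¹) := by group
      _ = (t0 * a * t0⁻¹) * a := by rw [htt]; group
      _ = a * (t0 * a * t0⁻¹) := B.commE hb haE
  refine ⟨a * (t0 * a * t0⁻¹), a, B, Y, ht, haE, E.mul_mem haE hb, ha1, ?_, ?_, hz, ?_⟩
  · intro h1
    apply hne
    have h2 := B.inv_eq haE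
    rw [mul_eq_one_iff_inv_eq, h2] at h1
    exact h1.symm
  · intro h1
    have h2 : t0 * a * t0⁻¹ = 1 := (left_eq_mul.1 h1)
    apply ha1
    have h3 : a = t0⁻¹ * (t0 * a * t0⁻¹) * t0 := by group
    rw [h3, h2]; group
  · rw [← mul_assoc, B.sq a haE, one_mul]

namespace Dat

section
variable (D : Dat x z a t0 E T)

include D

theorem aa : a * a = 1 := D.base.sq a D.aE
theorem zz : z * z = 1 := D.base.sq z D.zE
theorem ai : a⁻¹ = a := inv_eq_iff_mul_eq_one.mpr D.aa
theorem zi : z⁻¹ = z := inv_eq_iff_mul_eq_one.mpr D.zz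
theorem za : z * a = a * z := D.base.commE D.zE D.aE
theorem xa : x * a = a * x := D.base.comm a D.aE
theorem xz : x * z = z * x := D.base.comm z D.zE

theorem cases {e : G} (he : e ∈ E) : e = 1 ∨ e = a ∨ e = z ∨ e = a * z :=
  D.base.mem_cases D.aE D.zE D.a1 D.z1 D.az he

theorem F_le : rr x E ≤ T := sup_le D.syl.ET (by rw [Subgroup.zpowers_le]; exact D.syl.xT)

theorem t0_notMem : t0 ∉ rr x E := by
  intro h1
  have h2 := D.base.rr_comm_E h1 D.aE
  have h3 := D.t0a
  rw [← h2, mul_inv_cancel_right] at h3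
  exact D.z1 (left_eq_mul.1 h3)

theorem card_T [Finite G] : Nat.card T = 16 := by
  have h1 := D.base.cent_card T D.syl.two D.syl.cx
  have h2 := Subgroup.card_dvd_of_le D.F_le
  rw [D.base.card_rr] at h2
  have h3 : Nat.card T ≠ 8 := by
    intro h3
    have h4 : rr x E = T := Subgroup.eq_of_le_of_card_ge D.F_le (by rw [D.base.card_rr, h3])
    exact D.t0_notMem (h4 ▸ D.t0T)
  have h4 : 0 < Nat.card T := Nat.card_pos
  omega

theorem relIndex [Finite G] : (rr x E).relIndex T = 2 := by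
  have h1 := Subgroup.relIndex_mul_relIndex ⊥ (rr x E) T bot_le D.F_le
  rw [Subgroup.relIndex_bot_left, Subgroup.relIndex_bot_left, D.base.card_rr, D.card_T] at h1
  omega

/-- index two -/
theorem mul_mem [Finite G] {p q : G} (hp : p ∈ T) (hq : q ∈ T) (hp' : p ∉ rr x E) (hq' : q ∉ rr x E) :
    p * q ∈ rr x E := by
  have h5 := (Subgroup.mul_mem_iff_of_index_two D.relIndex (a := (⟨p, hp⟩ : T)) (b := ⟨q, hq⟩)).2
    ⟨fun hc => absurd (Subgroup.mem_subgroupOf.1 hc) hp', fun hc => absurd (Subgroup.mem_subgroupOf.1 hc) hq'⟩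
  exact Subgroup.mem_subgroupOf.1 h5

theorem comm_z {t : G} [Finite G] (ht : t ∈ T) : t * z = z * t := by
  by_cases hF : t ∈ rr x E
  · exact (D.base.rr_comm_E hF D.zE).symm
  · have h1 := D.mul_mem D.t0T ht D.t0_notMem hF
    have h2 := D.base.rr_comm_E h1 D.zE
    have h3 := D.t0z
    rw [mul_inv_eq_iff_eq_mul] at h3
    apply mul_left_cancel (a := t0)
    calc t0 * (t * z) = (t0 * t) * z := by group
      _ = z * (t0 * t) := h2.symm
      _ = t0 * (z * t) := by rw [← mul_assoc, ← h3, mul_assoc]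

theorem conj_a [Finite G] {t : G} (ht : t ∈ T) (hF : t ∉ rr x E) : t * a * t⁻¹ = a * z := by
  have h1 := D.mul_mem D.t0T ht D.t0_notMem hF
  have h2 := D.base.rr_comm_E h1 D.aE
  have h3 := D.t0a
  rw [mul_inv_eq_iff_eq_mul] at h3 ⊢
  have h4 := D.comm_z D.t0T
  apply mul_left_cancel (a := t0)
  calc t0 * (t * a) = (t0 * t) * a := by group
    _ = a * (t0 * t) := h2.symm
    _ = a * (z * z) * t0 * t := by rw [D.zz]; group
    _ = (a * z) * (z * t0) * t := by group
    _ = (a * z * t0) * z * t := by rw [← h4]; group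
    _ = t0 * (a * z * t) := by rw [← h3]; group

theorem conj_F [Finite G] {t f : G} (ht : t ∈ T) (hf : f ∈ rr x E) :
    t * f * t⁻¹ = f ∨ t * f * t⁻¹ = f * z := by
  by_cases hF : t ∈ rr x E
  · left
    rw [D.base.rr_comm_rr hF hf, mul_inv_cancel_right]
  have hE : ∀ e ∈ E, t * e * t⁻¹ = e ∨ t * e * t⁻¹ = e * z := by
    intro e he
    rcases D.cases he with rfl | rfl | rfl | rfl
    · left; group
    · right; exact D.conj_a ht hF
    · left; rw [D.comm_z ht, mul_inv_cancel_right]
    · right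
      have h1 := D.conj_a ht hF
      have h2 := D.comm_z ht
      calc t * (a * z) * t⁻¹ = t * a * t⁻¹ * (t * z * t⁻¹) := by group
        _ = a * z * z := by rw [h1, h2, mul_inv_cancel_right]
  rcases D.base.mem_rr.1 hf with hf | hf
  · exact hE f hf
  · have hx := D.syl.cx t ht
    have h0 : t * f * t⁻¹ = x * (t * (x * f) * t⁻¹) := by
      calc t * f * t⁻¹ = t * ((x * x) * f) * t⁻¹ := by rw [D.base.hx, one_mul]
        _ = (t * x) * (x * f) * t⁻¹ := by group
        _ = x * (t * (x * f) * t⁻¹) := by rw [← hx]; group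
    rcases hE _ hf with h1 | h1
    · left; rw [h0, h1, D.base.xx_mul]
    · right; rw [h0, h1, mul_assoc x f z, D.base.xx_mul]

theorem commutator [Finite G] {p q : G} (hp : p ∈ T) (hq : q ∈ T) :
    p * q * p⁻¹ * q⁻¹ = 1 ∨ p * q * p⁻¹ * q⁻¹ = z := by
  by_cases hqF : q ∈ rr x E
  · rcases D.conj_F hp hqF with h1 | h1
    · left; rw [h1, mul_inv_cancel]
    · right
      rw [h1, D.comm_z (D.F_le hqF), mul_inv_cancel_right]
  by_cases hpF : p ∈ rr x E
  · have hpi := (rr x E).inv_mem hpF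
    rcases D.conj_F hq hpi with h1 | h1
    · left
      calc p * q * p⁻¹ * q⁻¹ = p * (q * p⁻¹ * q⁻¹) := by group
        _ = 1 := by rw [h1, mul_inv_cancel]
    · right
      calc p * q * p⁻¹ * q⁻¹ = p * (q * p⁻¹ * q⁻¹) := by group
        _ = z := by rw [h1, mul_inv_cancel_left]
  · have hf : p⁻¹ * q ∈ rr x E := D.mul_mem (T.inv_mem hp) hq (fun hc => hpF (by
      have := (rr x E).inv_mem hc
      rwa [inv_inv] at this)) hqF
    have h0 : p * q * p⁻¹ * q⁻¹ = p * (p * (p⁻¹ * q) * p⁻¹ * (p⁻¹ * q)⁻¹) * p⁻¹ := by group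
    rcases D.conj_F hp hf with h1 | h1
    · left; rw [h0, h1]; group
    · right
      rw [h0, h1, D.comm_z (D.F_le hf), mul_inv_cancel_right, D.comm_z hp, mul_inv_cancel_right]

end

/-- `s` normalises `T`, moves `x` to `xz` and `F` to another subgroup. -/
structure Mv (D : Dat x z a t0 E T) (s : G) : Prop where
  nT : ∀ t ∈ T, s * t * s⁻¹ ∈ T
  sx : s * x * s⁻¹ = x * z
  sa : s * a * s⁻¹ ∉ rr x E

variable {s : G}

theorem z_of_nT [Finite G] (D : Dat x z a t0 E T) (nT : ∀ t ∈ T, s * t * s⁻¹ ∈ T) : s * z * s⁻¹ = z := by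
  have hz : z = t0 * a * t0⁻¹ * a⁻¹ := by
    rw [D.t0a, ← D.za, mul_inv_cancel_right]
  have h1 : s * z * s⁻¹ = (s * t0 * s⁻¹) * (s * a * s⁻¹) * (s * t0 * s⁻¹)⁻¹ * (s * a * s⁻¹)⁻¹ := by
    rw [hz]; group
  rcases D.commutator (nT _ D.t0T) (nT _ (D.F_le (le_rr x E D.aE))) with h2 | h2
  · exfalso
    rw [h2] at h1
    apply D.z1
    have h3 : z = s⁻¹ * (s * z * s⁻¹) * s := by group
    rw [h3, h1]; group
  · rw [h1, h2]

theorem Mv.of [Finite G] (D : Dat x z a t0 E T) (nT : ∀ t ∈ T, s * t * s⁻¹ ∈ T)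
    (sx : s * x * s⁻¹ = x * z) (hF : ¬ ∀ g ∈ rr x E, s * g * s⁻¹ ∈ rr x E) : Mv D s := by
  refine ⟨nT, sx, fun ha => hF ?_⟩
  have hz := D.z_of_nT nT
  have hzF : z ∈ rr x E := le_rr x E D.zE
  have hxF : x ∈ rr x E := self_mem_rr x E
  have hE : ∀ e ∈ E, s * e * s⁻¹ ∈ rr x E := by
    intro e he
    rcases D.cases he with rfl | rfl | rfl | rfl
    · have : s * 1 * s⁻¹ = 1 := by group
      rw [this]; exact (rr x E).one_mem
    · exact ha
    · rw [hz]; exact hzF
    · have : s * (a * z) * s⁻¹ = (s * a * s⁻¹) * (s * z * s⁻¹) := by group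
      rw [this, hz]; exact (rr x E).mul_mem ha hzF
  intro g hg
  rcases D.base.mem_rr.1 hg with hg | hg
  · exact hE g hg
  · have : s * g * s⁻¹ = (s * x * s⁻¹) * (s * (x * g) * s⁻¹) := by
      calc s * g * s⁻¹ = s * (x * x * g) * s⁻¹ := by rw [D.base.hx, one_mul]
        _ = (s * x * s⁻¹) * (s * (x * g) * s⁻¹) := by group
    rw [this, sx]
    exact (rr x E).mul_mem ((rr x E).mul_mem hxF hzF) (hE _ hg)

namespace Mv

variable {D : Dat x z a t0 E T} [Finite G] (M : Mv D s)

include M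

theorem sz : s * z * s⁻¹ = z := D.z_of_nT M.nT

theorem sz' : s * z = z * s := by
  have h1 := M.sz
  rwa [mul_inv_eq_iff_eq_mul] at h1

theorem sx' : s * x = x * z * s := by
  have h1 := M.sx
  rwa [mul_inv_eq_iff_eq_mul] at h1

theorem t_mem : s * a * s⁻¹ ∈ T := M.nT _ (D.F_le (le_rr x E D.aE))

theorem tt : (s * a * s⁻¹) * (s * a * s⁻¹) = 1 := by
  calc (s * a * s⁻¹) * (s * a * s⁻¹) = s * (a * a) * s⁻¹ := by group
    _ = 1 := by rw [D.aa]; group

/-- `s² = u` commutes with `x` -/
theorem ss_x : x * (s * s) = (s * s) * x := by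
  have h1 := M.sx'
  have h2 := M.sz'
  have hxz := D.xz
  calc x * (s * s) = (x * (z * z)) * (s * s) := by rw [D.zz, mul_one]
    _ = (x * z * (z * s)) * s := by group
    _ = (x * z * (s * z)) * s := by rw [h2]
    _ = (x * z * s) * (z * s) := by group
    _ = (s * x) * (z * s) := by rw [← h1]
    _ = s * (x * z * s) := by group
    _ = (s * s) * x := by rw [← h1]; group

/-- `s²` maps `a` into `F` -/
theorem ss_a : (s * s) * a * (s * s)⁻¹ ∈ rr x E := by
  set t := s * a * s⁻¹ with ht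
  have h0 : (s * s) * a * (s * s)⁻¹ = s * t * s⁻¹ := by rw [ht]; group
  rw [h0]
  by_contra hcon
  have h1 : t * (s * t * s⁻¹) ∈ rr x E := D.mul_mem M.t_mem (M.nT _ M.t_mem) M.sa hcon
  have h2 := D.base.rr_sq h1
  -- `(a t)² = 1`
  have h3 : (a * t) * (a * t) = 1 := by
    have h4 : s * ((a * t) * (a * t)) * s⁻¹ = t * (s * t * s⁻¹) * (t * (s * t * s⁻¹)) := by
      rw [ht]; group
    rw [h2] at h4
    have h5 : (a * t) * (a * t) = s⁻¹ * (s * ((a * t) * (a * t)) * s⁻¹) * s := by group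
    rw [h5, h4]; group
  have h4 := D.conj_a M.t_mem M.sa
  rw [mul_inv_eq_iff_eq_mul] at h4
  -- t a = a z t
  have h5 : (a * t) * (a * t) = z := by
    calc (a * t) * (a * t) = a * (t * a) * t := by group
      _ = a * (a * z * t) * t := by rw [h4]
      _ = (a * a) * z * (t * t) := by group
      _ = z := by rw [D.aa, M.tt]; group
  exact D.z1 (h5.symm.trans h3)

/-- `s²` normalises `F` -/
theorem ss_F : ∀ g ∈ rr x E, (s * s) * g * (s * s)⁻¹ ∈ rr x E := by
  have hz : (s * s) * z * (s * s)⁻¹ = z := by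
    rw [mul_inv_eq_iff_eq_mul, mul_assoc, M.sz', ← mul_assoc, M.sz', mul_assoc]
  have hxx : (s * s) * x * (s * s)⁻¹ = x := by
    rw [mul_inv_eq_iff_eq_mul]; exact M.ss_x.symm
  have hE : ∀ e ∈ E, (s * s) * e * (s * s)⁻¹ ∈ rr x E := by
    intro e he
    rcases D.cases he with rfl | rfl | rfl | rfl
    · have : (s * s) * 1 * (s * s)⁻¹ = 1 := by group
      rw [this]; exact (rr x E).one_mem
    · exact M.ss_a
    · rw [hz]; exact le_rr x E D.zE
    · have : (s * s) * (a * z) * (s * s)⁻¹ = ((s * s) * a * (s * s)⁻¹) * ((s * s) * z * (s * s)⁻¹) := by group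
      rw [this, hz]; exact (rr x E).mul_mem M.ss_a (le_rr x E D.zE)
  intro g hg
  rcases D.base.mem_rr.1 hg with hg | hg
  · exact hE g hg
  · have : (s * s) * g * (s * s)⁻¹ = ((s * s) * x * (s * s)⁻¹) * ((s * s) * (x * g) * (s * s)⁻¹) := by
      calc (s * s) * g * (s * s)⁻¹ = (s * s) * (x * x * g) * (s * s)⁻¹ := by rw [D.base.hx, one_mul]
        _ = _ := by group
    rw [this, hxx]
    exact (rr x E).mul_mem (self_mem_rr x E) (hE _ hg)

/-- odd powers of `s` -/
theorem odd_pow (k : ℕ) : Mv D ((s * s) ^ k * s) := by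
  have hkT := pow_norm (H := T) (u := s * s) (fun t ht => by
    have h1 : (s * s) * t * (s * s)⁻¹ = s * (s * t * s⁻¹) * s⁻¹ := by group
    rw [h1]; exact M.nT _ (M.nT _ ht)) k
  have hkF := pow_norm (H := rr x E) (u := s * s) M.ss_F k
  have hkF' := Hol.conj_inv_mem hkF
  have hkx : x * (s * s) ^ k = (s * s) ^ k * x := ((show Commute x (s * s) from M.ss_x).pow_right k).eq
  have hkz : z * (s * s) ^ k = (s * s) ^ k * z :=
    ((show Commute z (s * s) from by
      have h1 : Commute z s := M.sz'.symm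
      exact h1.mul_right h1).pow_right k).eq
  refine ⟨fun t ht => ?_, ?_, fun hc => M.sa ?_⟩
  · have h1 : (s * s) ^ k * s * t * ((s * s) ^ k * s)⁻¹ = (s * s) ^ k * (s * t * s⁻¹) * ((s * s) ^ k)⁻¹ := by
      generalize (s * s) ^ k = u
      group
    rw [h1]
    exact hkT _ (M.nT _ ht)
  · have h1 : (s * s) ^ k * s * x * ((s * s) ^ k * s)⁻¹ = (s * s) ^ k * (s * x * s⁻¹) * ((s * s) ^ k)⁻¹ := by
      generalize (s * s) ^ k = u
      group
    rw [h1, M.sx, mul_inv_eq_iff_eq_mul, mul_assoc x z, hkz, ← mul_assoc x, hkx, mul_assoc]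
  · have h1 : s * a * s⁻¹ = ((s * s) ^ k)⁻¹ * ((s * s) ^ k * s * a * ((s * s) ^ k * s)⁻¹) * (s * s) ^ k := by
      generalize (s * s) ^ k = u
      group
    rw [h1]
    exact hkF' _ hc

/-- a 2-element with the same properties -/
theorem exists_two : ∃ s' : G, Mv D s' ∧ ∃ n : ℕ, s' ^ 2 ^ n = 1 := by
  obtain ⟨n, m, hm, hnm⟩ := Nat.exists_eq_two_pow_mul_odd (orderOf_pos s).ne'
  obtain ⟨k, rfl⟩ := hm
  refine ⟨(s * s) ^ k * s, M.odd_pow k, n, ?_⟩
  have h1 : (s * s) ^ k * s = s ^ (2 * k + 1) := by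
    rw [← pow_two, ← pow_mul, ← pow_succ]
  rw [h1, ← pow_mul, mul_comm, ← hnm, pow_orderOf_eq_one]

/-- for a 2-element, `s² ∈ T` -/
theorem ss_mem (h2 : ∃ n : ℕ, s ^ 2 ^ n = 1) : s * s ∈ T := by
  have : Fact (Nat.Prime 2) := ⟨Nat.prime_two⟩
  have hz : IsPGroup 2 (Subgroup.zpowers (s * s)) := by
    obtain ⟨n, hn⟩ := h2
    rintro ⟨y, hy⟩
    obtain ⟨m, rfl⟩ := Subgroup.mem_zpowers_iff.1 hy
    refine ⟨n, Subtype.ext ?_⟩
    show ((s * s) ^ m) ^ 2 ^ n = 1
    rw [← zpow_natCast, ← zpow_mul, mul_comm, zpow_mul, zpow_natCast, ← pow_two, ← pow_mul, mul_comm, pow_mul, hn,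
      one_pow, one_zpow]
  have hN : (s * s) ∈ Subgroup.normalizer (T : Set G) := by
    rw [Subgroup.mem_normalizer_iff]
    have hT : ∀ t ∈ T, (s * s) * t * (s * s)⁻¹ ∈ T := by
      intro t ht
      have h1 : (s * s) * t * (s * s)⁻¹ = s * (s * t * s⁻¹) * s⁻¹ := by group
      rw [h1]; exact M.nT _ (M.nT _ ht)
    intro t
    refine ⟨hT t, fun ht => ?_⟩
    have h1 := Hol.conj_inv_mem hT _ ht
    have h3 : (s * s)⁻¹ * ((s * s) * t * (s * s)⁻¹) * (s * s) = t := by group
    rwa [h3] at h1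
  have hP : IsPGroup 2 (T ⊔ Subgroup.zpowers (s * s) : Subgroup G) :=
    D.syl.two.to_sup_of_normal_left' hz (by rw [Subgroup.zpowers_le]; exact hN)
  have hc : (T ⊔ Subgroup.zpowers (s * s) : Subgroup G) ≤ Subgroup.centralizer {x} := by
    apply sup_le
    · intro t ht
      exact Subgroup.mem_centralizer_singleton_iff.2 (D.syl.cx t ht).symm
    · rw [Subgroup.zpowers_le]
      exact Subgroup.mem_centralizer_singleton_iff.2 M.ss_x.symm
  have h1 := D.syl.max _ hP (fun q hq => (Subgroup.mem_centralizer_singleton_iff.1 (hc hq)).symm) le_sup_left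
  rw [← h1]
  exact Subgroup.mem_sup_right (Subgroup.mem_zpowers _)

/-- `s t s⁻¹ ∈ {a, az}`, `t = s a s⁻¹` -/
theorem st (h2 : s * s ∈ T) : s * (s * a * s⁻¹) * s⁻¹ = a ∨ s * (s * a * s⁻¹) * s⁻¹ = a * z := by
  have h0 : s * (s * a * s⁻¹) * s⁻¹ = (s * s) * a * (s * s)⁻¹ := by group
  rw [h0]
  exact D.conj_F h2 (le_rr x E D.aE)

end Mv

/-- normalised mover -/
structure Mv2 (D : Dat x z a t0 E T) (s : G) : Prop where
  mv : Mv D s
  ss : s * s ∈ T
  st : s * (s * a * s⁻¹) * s⁻¹ = a * z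

section
variable {D : Dat x z a t0 E T} [Finite G]

theorem ta (M : Mv D s) : (s * a * s⁻¹) * a = a * z * (s * a * s⁻¹) := by
  have h4 := D.conj_a M.t_mem M.sa
  rwa [mul_inv_eq_iff_eq_mul] at h4

theorem exists_mv2 (M : Mv D s) : ∃ s' : G, Mv2 D s' := by
  obtain ⟨s, M, h2⟩ := M.exists_two
  have hss := M.ss_mem h2
  rcases M.st hss with h3 | h3
  · have haT : a ∈ T := D.F_le (le_rr x E D.aE)
    have hta := ta M
    have hsz := M.sz
    refine ⟨s * a, ⟨fun t ht => ?_, ?_, ?_⟩, ?_, ?_⟩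
    · have h1 : s * a * t * (s * a)⁻¹ = s * (a * t * a⁻¹) * s⁻¹ := by group
      rw [h1]
      exact M.nT _ (T.mul_mem (T.mul_mem haT ht) (T.inv_mem haT))
    · have h1 : s * a * x * (s * a)⁻¹ = s * (a * x * a⁻¹) * s⁻¹ := by group
      rw [h1, ← D.xa, mul_inv_cancel_right, M.sx]
    · have h1 : s * a * a * (s * a)⁻¹ = s * a * s⁻¹ := by group
      rw [h1]; exact M.sa
    · have h1 : s * a * (s * a) = (s * a * s⁻¹) * (s * s) * a := by group
      rw [h1]
      exact T.mul_mem (T.mul_mem M.t_mem hss) haT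
    · have h1 : s * a * (s * a * a * (s * a)⁻¹) * (s * a)⁻¹ = s * (a * (s * a * s⁻¹) * a⁻¹) * s⁻¹ := by group
      have h4 : a * (s * a * s⁻¹) * a⁻¹ = z * (s * a * s⁻¹) := by
        have h5 : (s * a * s⁻¹) * a⁻¹ = (s * a * s⁻¹) * a := by rw [D.ai]
        calc a * (s * a * s⁻¹) * a⁻¹ = a * ((s * a * s⁻¹) * a) := by rw [mul_assoc, h5]
          _ = (a * a) * z * (s * a * s⁻¹) := by rw [hta]; group
          _ = z * (s * a * s⁻¹) := by rw [D.aa, one_mul]
      calc s * a * (s * a * a * (s * a)⁻¹) * (s * a)⁻¹ = s * (z * (s * a * s⁻¹)) * s⁻¹ := by rw [h1, h4]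
        _ = (s * z * s⁻¹) * (s * (s * a * s⁻¹) * s⁻¹) := by group
        _ = z * a := by rw [hsz, h3]
        _ = a * z := D.za
  · exact ⟨s, M, hss, h3⟩

/-- final normalisation: `s² = t a` -/
structure Mv3 (D : Dat x z a t0 E T) (s : G) : Prop where
  mv : Mv D s
  st : s * (s * a * s⁻¹) * s⁻¹ = a * z
  ss : s * s = (s * a * s⁻¹) * a

theorem exists_mv3 (M0 : Mv D s) : ∃ s' : G, Mv3 D s' := by
  obtain ⟨s, M, hss, hst⟩ := exists_mv2 M0
  obtain ⟨t, ht⟩ : ∃ t, t = s * a * s⁻¹ := ⟨_, rfl⟩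
  have htT : t ∈ T := ht ▸ M.t_mem
  have htF : t ∉ rr x E := ht ▸ M.sa
  have htt : t * t = 1 := ht ▸ M.tt
  have hta : t * a = a * z * t := ht ▸ ta M
  rw [← ht] at hst
  have hsz := M.sz'
  have hsx := M.sx'
  have hsa : s * a = t * s := by rw [ht]; group
  have hst' : s * t = a * z * s := by rwa [mul_inv_eq_iff_eq_mul] at hst
  have htz := D.comm_z htT
  have hza := D.za
  have hxz := D.xz
  have hxa := D.xa
  have hxt := D.syl.cx t htT
  have hzz := D.zz
  have haa := D.aa
  have hxx := D.base.hx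
  have hti : t⁻¹ = t := inv_eq_iff_mul_eq_one.mpr htt
  -- `s²` is not in `F`
  have hssF : s * s ∉ rr x E := by
    intro h1
    have h2 := D.base.rr_comm_E h1 D.aE
    have h3 : (s * s) * a = a * z * (s * s) := by
      calc (s * s) * a = s * (s * a) := by group
        _ = (s * t) * s := by rw [hsa]; group
        _ = a * z * (s * s) := by rw [hst']; group
    rw [← h2] at h3
    have h4 : a * (s * s) = a * (z * (s * s)) := by rw [h3]; group
    have h5 : s * s = z * (s * s) := mul_left_cancel h4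
    exact D.z1 (right_eq_mul.1 h5)
  -- `f = t s²`
  have hf : t * (s * s) ∈ rr x E := D.mul_mem htT hss htF hssF
  obtain ⟨f, hfe⟩ : ∃ f, f = t * (s * s) := ⟨_, rfl⟩
  rw [← hfe] at hf
  have hsf : s * s = t * f := by rw [hfe, ← mul_assoc, htt, one_mul]
  -- `s f s⁻¹`: from `s (s²) s⁻¹ = s²`
  have hcf : s * f = (a * z) * t * f * s := by
    calc s * f = s * (t * (s * s)) := by rw [hfe]
      _ = (s * t) * (s * s) := by group
      _ = a * z * (s * (s * s)) := by rw [hst']; group
      _ = a * z * ((s * s) * s) := by group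
      _ = (a * z) * t * f * s := by rw [hsf]; group
  -- squares of `s`
  have key : (f = a ∨ f = a * z) := by
    have hcase : (f = 1 ∨ f = a ∨ f = z ∨ f = a * z) ∨ (f = x ∨ f = x * a ∨ f = x * z ∨ f = x * (a * z)) := by
      rcases D.base.mem_rr.1 hf with h1 | h1
      · left; exact D.cases h1
      · right
        have h2 : f = x * (x * f) := by rw [D.base.xx_mul]
        rcases D.cases h1 with h3 | h3 | h3 | h3
        · left; rw [h2, h3, mul_one]
        · right; left; rw [h2, h3]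
        · right; right; left; rw [h2, h3]
        · right; right; right; rw [h2, h3]
    have htne : ∀ c, c ∈ rr x E → t ≠ c := fun c hc h1 => htF (h1 ▸ hc)
    have haF : a ∈ rr x E := le_rr x E D.aE
    have hzF : z ∈ rr x E := le_rr x E D.zE
    have hxF : x ∈ rr x E := self_mem_rr x E
    -- in all the bad cases we get a contradiction from `hcf`
    have bad1 : ∀ c, c ∈ rr x E → s * c = c * s ∨ s * c = c * z * s → f ≠ c := by
      intro c hc h1 h2
      subst h2
      rcases h1 with h1 | h1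
      · rw [h1] at hcf
        have h3 := mul_right_cancel hcf
        -- c = a z t c
        have h4 : (1 : G) = a * z * t := by
          apply mul_right_cancel (b := f)
          rw [one_mul]; exact h3
        apply htne (a * z) ((rr x E).mul_mem haF hzF)
        have h5 : t = (a * z)⁻¹ := by
          rw [eq_inv_iff_mul_eq_one]
          have : t * (a * z) = (a * z) * ((a * z * t) * (a * z)) * 1 := by
            have h6 : (a * z) * (a * z) = 1 := by
              calc (a * z) * (a * z) = a * (z * a) * z := by group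
                _ = (a * a) * (z * z) := by rw [hza]; group
                _ = 1 := by rw [haa, hzz, one_mul]
            calc t * (a * z) = ((a * z) * (a * z)) * t * (a * z) := by rw [h6, one_mul]
              _ = (a * z) * ((a * z * t) * (a * z)) * 1 := by group
          rw [this, ← h4, one_mul]
          calc a * z * (a * z) * 1 = a * (z * a) * z := by group
            _ = (a * a) * (z * z) := by rw [hza]; group
            _ = 1 := by rw [haa, hzz, one_mul]
        rw [h5, mul_inv_rev, D.zi, D.ai, hza]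
      · rw [h1] at hcf
        have h3 := mul_right_cancel hcf
        -- c z = a z t c
        have hcz : f * z = z * f := (D.base.rr_comm_E hc D.zE).symm
        have h4 : z = a * z * t := by
          apply mul_right_cancel (b := f)
          rw [← hcz]; exact h3
        apply htne a haF
        have h5 : z * 1 = z * (a * t) := by
          rw [mul_one, ← mul_assoc, hza]; exact h4
        have h6 : (1 : G) = a * t := mul_left_cancel h5
        have h7 : a⁻¹ = t := inv_eq_iff_mul_eq_one.mpr h6.symm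
        rw [← h7, D.ai]
    have hsxz : s * (x * z) = x * s := by
      calc s * (x * z) = (s * x) * z := by group
        _ = x * z * (s * z) := by rw [hsx]; group
        _ = x * (z * z) * s := by rw [hsz]; group
        _ = x * s := by rw [hzz, mul_one]
    -- the cases `x a`, `x a z`
    have bad2 : ∀ c, c = a ∨ c = a * z → f ≠ x * c := by
      intro c hc h2
      have h3 : s * f = x * z * (s * c) := by
        rw [h2, ← mul_assoc, hsx]; group
      have h4 : s * f = x * (a * z * t * c) * s := by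
        rw [hcf, h2]
        have h5 : x * (a * z * t) = (a * z * t) * x := by
          calc x * (a * z * t) = (x * a) * z * t := by group
            _ = a * (x * z) * t := by rw [hxa]; group
            _ = a * z * (x * t) := by rw [hxz]; group
            _ = (a * z * t) * x := by rw [hxt]; group
        calc a * z * t * (x * c) * s = ((a * z * t) * x) * c * s := by group
          _ = x * (a * z * t * c) * s := by rw [← h5]; group
      have h6 : z * (s * c) = a * z * t * c * s := by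
        apply mul_left_cancel (a := x)
        rw [← mul_assoc, ← h3, h4]; group
      have h7 : s * c = t * s ∨ (s * c = t * z * s ∧ c = a * z) := by
        rcases hc with rfl | rfl
        · left; exact hsa
        · right
          refine ⟨?_, rfl⟩
          calc s * (a * z) = (s * a) * z := by group
            _ = t * (s * z) := by rw [hsa]; group
            _ = t * z * s := by rw [hsz]; group
      rcases hc with rfl | rfl
      · rw [hsa] at h6
        -- z t = a z t a
        have h8 : z * t = c * z * t * c := by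
          apply mul_right_cancel (b := s)
          rw [← h6]; group
        have h9 : c * z * t * c = t := by
          calc c * z * t * c = c * z * (t * c) := by group
            _ = c * z * (c * z * t) := by rw [hta]
            _ = c * (z * c) * z * t := by group
            _ = (c * c) * (z * z) * t := by rw [hza]; group
            _ = t := by rw [haa, hzz, one_mul, one_mul]
        rw [h9] at h8
        exact D.z1 (mul_eq_right.1 h8)
      · have h10 : s * (a * z) = t * z * s := by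
          calc s * (a * z) = (s * a) * z := by group
            _ = t * (s * z) := by rw [hsa]; group
            _ = t * z * s := by rw [hsz]; group
        rw [h10] at h6
        have h8 : z * (t * z) = a * z * t * (a * z) := by
          apply mul_right_cancel (b := s)
          rw [← h6]; group
        have h9 : a * z * t * (a * z) = t * z := by
          calc a * z * t * (a * z) = a * z * (t * a) * z := by group
            _ = a * (z * a) * z * t * z := by rw [hta]; group
            _ = (a * a) * (z * z) * t * z := by rw [hza]; group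
            _ = t * z := by rw [haa, hzz, one_mul, one_mul]
        rw [h9] at h8
        exact D.z1 (mul_eq_right.1 h8)
    rcases hcase with (h1 | h1 | h1 | h1) | (h1 | h1 | h1 | h1)
    · exact absurd h1 (bad1 1 ((rr x E).one_mem) (Or.inl (by rw [mul_one, one_mul])))
    · exact Or.inl h1
    · exact absurd h1 (bad1 z hzF (Or.inl hsz))
    · exact Or.inr h1
    · exact absurd h1 (bad1 x hxF (Or.inr hsx))
    · exact absurd h1 (bad2 a (Or.inl rfl))
    · exact absurd h1 (bad1 (x * z) ((rr x E).mul_mem hxF hzF) (Or.inr (by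
        rw [hsxz, mul_assoc x z z, hzz, mul_one])))
    · exact absurd h1 (bad2 (a * z) (Or.inr rfl))
  rcases key with h1 | h1
  · exact ⟨s, M, by rw [← ht]; exact hst, by rw [← ht, hsf, h1]⟩
  · -- replace `s` by `s x`
    have hsx2 : s * x * a * (s * x)⁻¹ = t := by
      rw [ht]
      calc s * x * a * (s * x)⁻¹ = s * (x * a) * x⁻¹ * s⁻¹ := by group
        _ = s * a * s⁻¹ := by rw [hxa]; group
    refine ⟨s * x, ⟨fun u hu => ?_, ?_, ?_⟩, ?_, ?_⟩
    · have h2 : s * x * u * (s * x)⁻¹ = s * (x * u * x⁻¹) * s⁻¹ := by group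
      rw [h2]
      exact M.nT _ (T.mul_mem (T.mul_mem D.syl.xT hu) (T.inv_mem D.syl.xT))
    · have h2 : s * x * x * (s * x)⁻¹ = s * x * s⁻¹ := by group
      rw [h2, M.sx]
    · rw [hsx2]; exact htF
    · rw [hsx2]
      calc s * x * t * (s * x)⁻¹ = s * (x * t) * x⁻¹ * s⁻¹ := by group
        _ = s * t * s⁻¹ := by rw [hxt]; group
        _ = a * z := hst
    · rw [hsx2]
      -- `(s x)² = s² z`
      have h2 : s * x * (s * x) = x * z * (s * s) * x := by
        calc s * x * (s * x) = (s * x) * s * x := by group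
          _ = x * z * (s * s) * x := by rw [hsx]; group
      calc s * x * (s * x) = x * z * (s * s) * x := h2
        _ = x * z * (t * (a * z)) * x := by rw [hsf, h1]
        _ = x * z * t * a * (z * x) := by group
        _ = x * z * t * (a * x) * z := by rw [← hxz]; group
        _ = x * z * (t * x) * a * z := by rw [← hxa]; group
        _ = x * (z * x) * t * a * z := by rw [← hxt]; group
        _ = (x * x) * z * t * (a * z) := by rw [← hxz]; group
        _ = (z * t) * (z * a) := by rw [hxx, hza]; group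
        _ = t * (z * z) * a := by rw [← htz]; group
        _ = t * a := by rw [hzz, mul_one]

/-- the relations of `Hol(Z8)` -/
theorem Mv3.hol (M : Mv3 D s) : Hol x a s ∧ s ^ 4 = z ∧ s * a * s⁻¹ = s ^ 2 * a := by
  obtain ⟨t, ht⟩ : ∃ t, t = s * a * s⁻¹ := ⟨_, rfl⟩
  have hst := M.st
  have hss := M.ss
  rw [← ht] at hst hss
  have htt : t * t = 1 := ht ▸ M.mv.tt
  have hta : t * a = a * z * t := ht ▸ ta M.mv
  have hsa : s * a = t * s := by rw [ht]; group
  have hsx := M.mv.sx'
  have hsz := M.mv.sz'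
  have hzz := D.zz
  have haa := D.aa
  have hza := D.za
  have h4 : s ^ 4 = z := by
    calc s ^ 4 = (s * s) * (s * s) := by rw [← pow_two, ← pow_two, ← pow_mul]
      _ = t * a * (t * a) := by rw [hss]
      _ = (t * a) * t * a := by group
      _ = a * z * (t * t) * a := by rw [hta]; group
      _ = (a * z) * a := by rw [htt, mul_one]
      _ = (z * a) * a := by rw [hza]
      _ = z := by rw [mul_assoc, haa, mul_one]
  have h8 : s ^ 8 = 1 := by
    calc s ^ 8 = s ^ 4 * s ^ 4 := by rw [← pow_add]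
      _ = 1 := by rw [h4, hzz]
  refine ⟨⟨D.base.hx, haa, D.xa, h8, ?_, ?_⟩, h4, ?_⟩
  · -- `a s = s⁷ a`
    have h5 : (a * s * a) * s = 1 := by
      calc (a * s * a) * s = a * (s * a) * s := by group
        _ = a * (t * s) * s := by rw [hsa]
        _ = a * t * (s * s) := by group
        _ = a * (t * t) * a := by rw [hss]; group
        _ = 1 := by rw [htt, mul_one, haa]
    have h6 : a * s * a = s ^ 7 := by
      have h7 : s ^ 7 * s = 1 := by rw [← pow_succ]; exact h8
      exact mul_right_cancel (h5.trans h7.symm)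
    calc a * s = a * s * (a * a) := by rw [haa, mul_one]
      _ = s ^ 7 * a := by rw [← mul_assoc, h6]
  · -- `x s = s⁵ x`
    have hxz := D.xz
    have h9 : s * x = z * (x * s) := by rw [hsx, hxz]; group
    calc x * s = (z * z) * (x * s) := by rw [hzz, one_mul]
      _ = z * (s * x) := by rw [h9]; group
      _ = s ^ 4 * (s * x) := by rw [h4]
      _ = s ^ 5 * x := by group
  · rw [← ht, pow_two, hss, mul_assoc, haa, mul_one]

/-- `T ≤ N` and `|N| = 32` -/
theorem Mv3.card_NN (M : Mv3 D s) (H : Hol x a s) (h4 : s ^ 4 = z) (hsa : s * a * s⁻¹ = s ^ 2 * a) :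
    T ≤ H.NN ∧ Nat.card H.NN = 32 := by
  have hzN : z ∈ H.NN := h4 ▸ H.NN.pow_mem H.s_mem 4
  have hE : E ≤ H.NN := by
    intro e he
    rcases D.cases he with rfl | rfl | rfl | rfl
    · exact H.NN.one_mem
    · exact H.a_mem
    · exact hzN
    · exact H.NN.mul_mem H.a_mem hzN
  have hF : rr x E ≤ H.NN := sup_le hE (by rw [Subgroup.zpowers_le]; exact H.x_mem)
  have htN : s * a * s⁻¹ ∈ H.NN := by
    rw [hsa]; exact H.NN.mul_mem (H.NN.pow_mem H.s_mem 2) H.a_mem
  have hT : T ≤ H.NN := by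
    intro u hu
    by_cases huF : u ∈ rr x E
    · exact hF huF
    · have h1 := hF (D.mul_mem M.mv.t_mem hu M.mv.sa huF)
      have h2 := H.NN.mul_mem (H.NN.inv_mem htN) h1
      rwa [inv_mul_cancel_left] at h2
  refine ⟨hT, ?_⟩
  have h1 := Subgroup.card_dvd_of_le hT
  rw [D.card_T] at h1
  have h2 := H.card_le
  have h3 : Nat.card H.NN ≠ 16 := by
    intro h3
    have h5 : T = H.NN := Subgroup.eq_of_le_of_card_ge hT (by rw [D.card_T, h3])
    have h6 : s ∈ T := h5 ▸ H.s_mem
    have h7 := D.syl.cx s h6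
    have h8 := M.mv.sx
    rw [← h7, mul_inv_cancel_right] at h8
    exact D.z1 (left_eq_mul.1 h8)
  have h5 : 0 < Nat.card H.NN := Nat.card_pos
  omega

/-- **Theorem.** -/
theorem main [IsSimpleGroup G] (hG : ¬ ∀ p q : G, p * q = q * p) (M0 : Mv D s) (hhx : h * x = x * h)
    (hhE : ∀ e ∈ E, h * e * h⁻¹ ∈ E) (hh3 : ∀ e ∈ E, e ≠ 1 → h * e * h⁻¹ ≠ e) : False := by
  have : Fact (Nat.Prime 2) := ⟨Nat.prime_two⟩
  obtain ⟨s, M⟩ := exists_mv3 M0
  obtain ⟨H, h4, hsa⟩ := M.hol
  obtain ⟨hT, hc⟩ := M.card_NN H h4 hsa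
  have hN2 : IsPGroup 2 H.NN := IsPGroup.of_card (n := 5) (by rw [hc]; norm_num)
  obtain ⟨S, hS⟩ := hN2.exists_le_sylow
  have hCT : ∀ g ∈ (S : Subgroup G), g * x = x * g → g ∈ T := by
    intro g hg hgx
    have h1 : ((S : Subgroup G) ⊓ Subgroup.centralizer {x} : Subgroup G) = T := by
      apply D.syl.max
      · exact S.isPGroup'.to_le inf_le_left
      · intro q hq
        exact (Subgroup.mem_centralizer_singleton_iff.1 hq.2).symm
      · intro t ht
        exact ⟨hS (hT ht), Subgroup.mem_centralizer_singleton_iff.2 (D.syl.cx t ht).symm⟩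
    rw [← h1]
    exact ⟨hg, Subgroup.mem_centralizer_singleton_iff.2 hgx⟩
  have hzc : ∀ q ∈ H.NN, z * q = q * z := by
    rintro _ ⟨i, j, k, rfl⟩
    have h1 : Commute z s := M.mv.sz'.symm
    have h2 : Commute z a := D.za
    have h3 : Commute z x := D.xz.symm
    exact ((h1.pow_right i).mul_right (h2.pow_right j)).mul_right (h3.pow_right k)
  have hxz : ∀ g : G, g * x * g⁻¹ ≠ z := fun g =>
    D.base.not_conj_of_card hN2 (by rw [hc]; norm_num) hzc g
  have L : Level x E E h := D.base.level hhx hhE hh3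
  have hxa : ∀ g : G, g * x * g⁻¹ ≠ a := by
    intro g hg
    obtain ⟨n, hn⟩ := L.trans D.base D.aE D.zE D.a1 D.z1
    apply hxz (h ^ n * g)
    rw [← hn, ← hg]
    show _ = h ^ n * (g * x * g⁻¹) * (h ^ n)⁻¹
    group
  exact H.false_of hG hc S hS (fun g hg hgx => hT (hCT g hg hgx)) hxa (fun g => by rw [h4]; exact hxz g)

end

end Dat

/-- **[SWAP]** (step (2) of bb GH #6798): `T = 2 × D8`, `s ∈ N(T)` moves `x` to `xz` and does not normalise
`E⟨x⟩`: impossible.  (The 2-group hypothesis on `Aut_{C(x)}(E₂)` is not needed.) -/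
theorem false_of_swap [Finite G] [IsSimpleGroup G] (hG : ¬ ∀ p q : G, p * q = q * p) (B : Base x E)
    (Y : Syl x E T) {t0 s z : G} (ht : t0 ∈ T) (htt : t0 * t0 = 1) (hc : ¬ ∀ e ∈ E, e * t0 = t0 * e)
    (hhx : h * x = x * h) (hhE : ∀ e ∈ E, h * e * h⁻¹ ∈ E) (hh3 : ∀ e ∈ E, e ≠ 1 → h * e * h⁻¹ ≠ e)
    (sT : ∀ t ∈ T, s * t * s⁻¹ ∈ T) (sx : s * x * s⁻¹ = x * z) (zE : z ∈ E) (z1 : z ≠ 1)
    (zt : t0 * z = z * t0) (sF : ¬ ∀ g ∈ rr x E, s * g * s⁻¹ ∈ rr x E) : False := by
  obtain ⟨z', a, D⟩ := exists_dat B Y ht htt hc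
  have hz : z = z' := by
    rcases D.cases zE with h1 | h1 | h1 | h1
    · exact absurd h1 z1
    · exfalso
      have h2 := D.t0a
      rw [← h1, zt, mul_inv_cancel_right] at h2
      exact D.z1 (left_eq_mul.1 h2)
    · exact h1
    · exfalso
      have h2 : t0 * (a * z') * t0⁻¹ = a := by
        calc t0 * (a * z') * t0⁻¹ = (t0 * a * t0⁻¹) * (t0 * z' * t0⁻¹) := by group
          _ = a * (z' * z') := by rw [D.t0a, D.t0z]; group
          _ = a := by rw [D.zz, mul_one]
      rw [← h1, zt, mul_inv_cancel_right, h1] at h2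
      exact D.z1 (mul_eq_left.1 h2)
  subst hz
  exact (Dat.Mv.of D sT sx sF : Dat.Mv D s) |> fun M => Dat.main hG M hhx hhE hh3

end Cfsg.Agent.GH.N2.Swap
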