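import Cfsg.Agent.GH.N2.FourMain
import Cfsg.Agent.GH.N2.Swap

/-!
# GH-L2, `|Q| = 2`: [FOUR] (step (4)(ii) of bb GH #6798): a Sylow 2-subgroup containing `P = V⟨x, t₀⟩`,
`V` elementary abelian of order 16, is `P` (helper344)
-/

set_option autoImplicit false

namespace Cfsg.Agent.GH.N2.Four

open Cfsg.Agent.GH.E (rr self_mem_rr le_rr mem_rr rr_mono)

variable {G : Type*} [Group G] {x : G} {E T : Subgroup G}

theorem sylow_eq [Finite G] (hG : ∀ K : Subgroup G, K.index ≠ 2) (B : Base x E) (Y : Syl x E T) {t0 : G}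
    (ht : t0 ∈ T) (htt : t0 * t0 = 1) (hc : ¬ ∀ e ∈ E, e * t0 = t0 * e) {V : Subgroup G}
    (hcard : Nat.card V = 16) (hsq : ∀ u ∈ V, u * u = 1) (hEV : E ≤ V)
    (xV : ∀ u ∈ V, x * u * x⁻¹ ∈ V) (tV : ∀ u ∈ V, t0 * u * t0⁻¹ ∈ V)
    (hcx : ∀ u ∈ V, x * u = u * x → u ∈ E) (S : Sylow 2 G) (hVS : V ≤ (S : Subgroup G))
    (hxS : x ∈ (S : Subgroup G)) (htS : t0 ∈ (S : Subgroup G)) :
    rr t0 (rr x V) = (S : Subgroup G) := by
  obtain ⟨z, a, D⟩ := Swap.exists_dat B Y ht htt hc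
  have t0z : t0 * z = z * t0 := by
    have h := D.t0z
    rwa [mul_inv_eq_iff_eq_mul] at h
  have W : VV x t0 z V := by
    refine ⟨hsq, hcard, B.hx, htt, Y.cx t0 ht, xV, tV, hEV D.zE, D.z1, B.comm z D.zE, t0z, ?_⟩
    intro u hu h1 h2
    rcases D.cases (hcx u hu h1) with h | h | h | h
    · exact Or.inl h
    · exfalso
      have h3 := D.t0a
      rw [← h, h2, mul_inv_cancel_right] at h3
      exact D.z1 (left_eq_mul.1 h3)
    · exact Or.inr h
    · exfalso
      have h3 : t0 * (a * z) * t0⁻¹ = a := by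
        calc t0 * (a * z) * t0⁻¹ = (t0 * a * t0⁻¹) * (t0 * z * t0⁻¹) := by group
          _ = a * (z * z) := by rw [D.t0a, D.t0z]; group
          _ = a := by rw [D.zz, mul_one]
      rw [← h, h2, mul_inv_cancel_right, h] at h3
      exact D.z1 (mul_eq_left.1 h3)
  have hPdef : VV.P x t0 V = rr t0 (rr x V) := rfl
  have hPS : VV.P x t0 V ≤ (S : Subgroup G) := by
    rw [hPdef]
    refine sup_le (sup_le hVS ?_) ?_
    · rw [Subgroup.zpowers_le]; exact hxS
    · rw [Subgroup.zpowers_le]; exact htS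
  have hF : rr x E ≤ VV.P x t0 V := (rr_mono hEV).trans (le_rr t0 _)
  have hTP : T ≤ VV.P x t0 V := by
    intro g hg
    by_cases h : g ∈ rr x E
    · exact hF h
    · have h1 := hF (D.mul_mem D.t0T hg D.t0_notMem h)
      have h2 := (VV.P x t0 V).mul_mem ((VV.P x t0 V).inv_mem W.t_mem_P) h1
      have h3 : t0⁻¹ * (t0 * g) = g := by group
      rwa [h3] at h2
  have A : Amb x t0 V (S : Subgroup G) := by
    refine ⟨S.isPGroup', hPS, ?_, ?_⟩
    · intro g hg hxg
      have h1 : ((S : Subgroup G) ⊓ Subgroup.centralizer ({x} : Set G) : Subgroup G) = T := by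
        apply Y.max
        · exact S.isPGroup'.to_le inf_le_left
        · intro q hq
          exact (Subgroup.mem_centralizer_singleton_iff.1 hq.2).symm
        · exact le_inf (hTP.trans hPS) (fun t ht =>
            Subgroup.mem_centralizer_singleton_iff.2 (Y.cx t ht).symm)
      apply hTP
      rw [← h1]
      exact ⟨hg, Subgroup.mem_centralizer_singleton_iff.2 hxg.symm⟩
    · intro A hAS hA h8 a ha g
      exact B.not_conj_of_abel (S.isPGroup'.to_le hAS) hA h8 (fun q hq => hA a ha q hq) g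
  by_contra hne
  exact W.false A hG ⟨S, rfl⟩ hne

/-- **[FOUR]** -/
theorem false_of_four [Finite G] [IsSimpleGroup G] (hG : ¬ ∀ p q : G, p * q = q * p) (B : Base x E)
    (Y : Syl x E T) {t0 : G}
    (ht : t0 ∈ T) (htt : t0 * t0 = 1) (hc : ¬ ∀ e ∈ E, e * t0 = t0 * e) {V : Subgroup G}
    (hcard : Nat.card V = 16) (hsq : ∀ u ∈ V, u * u = 1) (hEV : E ≤ V)
    (xV : ∀ u ∈ V, x * u * x⁻¹ ∈ V) (tV : ∀ u ∈ V, t0 * u * t0⁻¹ ∈ V)
    (hcx : ∀ u ∈ V, x * u = u * x → u ∈ E) (S : Sylow 2 G)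
    (hPS : rr t0 (rr x V) < (S : Subgroup G)) : False := by
  refine hPS.ne (sylow_eq ?_ B Y ht htt hc hcard hsq hEV xV tV hcx S ?_ ?_ ?_)
  · intro K hK
    exact HolEight.Hol.comm_of_index_two hG K (Subgroup.normal_of_index_eq_two hK) hK
  · exact ((le_rr x V).trans (le_rr t0 _)).trans hPS.le
  · exact hPS.le (le_rr t0 _ (self_mem_rr x V))
  · exact hPS.le (self_mem_rr t0 _)

end Cfsg.Agent.GH.N2.Four
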