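import Cfsg.Agent.GH.N2.Step

/-!
# GH-L2, `|Q| = 2`: tools for an elementary abelian group of order 16 (helper344)

`Fr V c`: `c` is an involution normalising the elementary abelian group `V` of order 16, `|C_V(c)| ≤ 4`.
`co V g h`: `V g = V h`.
-/

set_option autoImplicit false

namespace Cfsg.Agent.GH.N2.Four

variable {G : Type*} [Group G]

/-- `V g = V h` -/
def co (V : Subgroup G) (g h : G) : Prop := g * h⁻¹ ∈ V

section co

variable {V : Subgroup G}

theorem co.refl (g : G) : co V g g := by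
  show g * g⁻¹ ∈ V
  rw [mul_inv_cancel]; exact V.one_mem

theorem co.symm {g h : G} (H : co V g h) : co V h g := by
  have h1 := V.inv_mem H
  show h * g⁻¹ ∈ V
  have h2 : (g * h⁻¹)⁻¹ = h * g⁻¹ := by group
  rwa [h2] at h1

theorem co.trans {g h k : G} (H : co V g h) (H' : co V h k) : co V g k := by
  have h1 := V.mul_mem H H'
  show g * k⁻¹ ∈ V
  have h2 : g * h⁻¹ * (h * k⁻¹) = g * k⁻¹ := by group
  rwa [h2] at h1

instance : Trans (co V) (co V) (co V) := ⟨co.trans⟩

theorem co.right {g h : G} (H : co V g h) (k : G) : co V (g * k) (h * k) := by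
  show g * k * (h * k)⁻¹ ∈ V
  have h2 : g * k * (h * k)⁻¹ = g * h⁻¹ := by group
  rw [h2]; exact H

theorem co.left {g h : G} (H : co V g h) {k : G} (hk : ∀ u ∈ V, k * u * k⁻¹ ∈ V) :
    co V (k * g) (k * h) := by
  have h1 := hk _ H
  show k * g * (k * h)⁻¹ ∈ V
  have h2 : k * (g * h⁻¹) * k⁻¹ = k * g * (k * h)⁻¹ := by group
  rwa [h2] at h1

theorem co.mul {g h g' h' : G} (H : co V g h) (H' : co V g' h') (hh : ∀ u ∈ V, h * u * h⁻¹ ∈ V) :
    co V (g * g') (h * h') := (H.right g').trans (H'.left hh)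

theorem co.conj {g h : G} (H : co V g h) {k : G} (hk : ∀ u ∈ V, k * u * k⁻¹ ∈ V) :
    co V (k * g * k⁻¹) (k * h * k⁻¹) := (H.left hk).right _

theorem co_one {g : G} : co V g 1 ↔ g ∈ V := by
  show g * 1⁻¹ ∈ V ↔ g ∈ V
  rw [inv_one, mul_one]

theorem co.mem {g h : G} (H : co V g h) : g ∈ V ↔ h ∈ V := by
  constructor
  · intro hg; exact co_one.1 (H.symm.trans (co_one.2 hg))
  · intro hh; exact co_one.1 (H.trans (co_one.2 hh))

theorem co.of_eq {g h : G} (H : g = h) : co V g h := H ▸ co.refl g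

theorem co.exists {g h : G} (H : co V g h) : ∃ v ∈ V, g = v * h := ⟨g * h⁻¹, H, by group⟩

theorem co_mul_left {v g : G} (hv : v ∈ V) : co V (v * g) g := by
  show v * g * g⁻¹ ∈ V
  rw [mul_inv_cancel_right]; exact hv

/-- elements congruent to a normalising element normalise -/
theorem co.norm {g h : G} (H : co V g h) (hh : ∀ u ∈ V, h * u * h⁻¹ ∈ V) :
    ∀ u ∈ V, g * u * g⁻¹ ∈ V := by
  intro u hu
  obtain ⟨v, hv, rfl⟩ := H.exists
  have h1 : v * h * u * (v * h)⁻¹ = v * (h * u * h⁻¹) * v⁻¹ := by group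
  rw [h1]
  exact V.mul_mem (V.mul_mem hv (hh u hu)) (V.inv_mem hv)

end co

theorem comm_of_sq {V : Subgroup G} (hV : ∀ u ∈ V, u * u = 1) {a b : G} (ha : a ∈ V) (hb : b ∈ V) :
    a * b = b * a := by
  have h1 := inv_eq_of_mul_eq_one_right (hV _ (V.mul_mem ha hb))
  rw [mul_inv_rev, inv_eq_of_mul_eq_one_right (hV a ha), inv_eq_of_mul_eq_one_right (hV b hb)] at h1
  exact h1.symm

theorem norm_inv [Finite G] {V : Subgroup G} {k : G} (hk : ∀ u ∈ V, k * u * k⁻¹ ∈ V) :
    ∀ u ∈ V, k⁻¹ * u * k ∈ V := by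
  intro u hu
  have h2 : Function.Injective (fun r : V => (⟨k * r * k⁻¹, hk r r.2⟩ : V)) := by
    intro p q hpq
    have := congrArg Subtype.val hpq
    simp only at this
    exact Subtype.ext (mul_left_cancel (mul_right_cancel this))
  obtain ⟨⟨r, hr⟩, hr1⟩ := (Finite.injective_iff_surjective.1 h2) ⟨u, hu⟩
  have h3 := congrArg Subtype.val hr1
  simp only at h3
  rw [← h3]
  have h4 : k⁻¹ * (k * r * k⁻¹) * k = r := by group
  rw [h4]; exact hr

/-- `a ↦ a · a^g` -/
def dl {A : Subgroup G} (hA : ∀ a ∈ A, a * a = 1) (g : G) (hg : ∀ a ∈ A, g * a * g⁻¹ ∈ A) :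
    A →* A where
  toFun a := ⟨a * (g * a * g⁻¹), A.mul_mem a.2 (hg a a.2)⟩
  map_one' := by
    apply Subtype.ext
    show (1 : G) * (g * 1 * g⁻¹) = 1
    group
  map_mul' a b := by
    apply Subtype.ext
    show (a : G) * b * (g * (a * b) * g⁻¹) = (a * (g * a * g⁻¹)) * (b * (g * b * g⁻¹))
    have h := comm_of_sq hA b.2 (hg a a.2)
    calc (a : G) * b * (g * (a * b) * g⁻¹) = a * (b * (g * a * g⁻¹)) * (g * b * g⁻¹) := by group
      _ = a * ((g * a * g⁻¹) * b) * (g * b * g⁻¹) := by rw [h]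
      _ = (a * (g * a * g⁻¹)) * (b * (g * b * g⁻¹)) := by group

theorem card_dl [Finite G] {A : Subgroup G} (hA : ∀ a ∈ A, a * a = 1) {g : G}
    (hg : ∀ a ∈ A, g * a * g⁻¹ ∈ A) (hg2 : ∀ a ∈ A, g * (g * a * g⁻¹) * g⁻¹ = a) :
    (dl hA g hg).ker = (Subgroup.centralizer ({g} : Set G)).subgroupOf A ∧
      (dl hA g hg).range ≤ (Subgroup.centralizer ({g} : Set G)).subgroupOf A := by
  constructor
  · ext ⟨a, ha⟩
    rw [MonoidHom.mem_ker, Subgroup.mem_subgroupOf, Subgroup.mem_centralizer_singleton_iff]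
    constructor
    · intro h1
      have h2 : a * (g * a * g⁻¹) = 1 := congrArg Subtype.val h1
      have h3 : g * a * g⁻¹ = a := by
        rw [← inv_eq_of_mul_eq_one_right h2, inv_eq_of_mul_eq_one_right (hA a ha)]
      show a * g = g * a
      rw [mul_inv_eq_iff_eq_mul] at h3
      exact h3.symm
    · intro h1
      apply Subtype.ext
      show a * (g * a * g⁻¹) = 1
      have h2 : a * g = g * a := h1
      rw [← h2, mul_inv_cancel_right]
      exact hA a ha
  · rintro _ ⟨⟨a, ha⟩, rfl⟩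
    rw [Subgroup.mem_subgroupOf, Subgroup.mem_centralizer_singleton_iff]
    show a * (g * a * g⁻¹) * g = g * (a * (g * a * g⁻¹))
    have h1 := hg2 a ha
    have h2 := comm_of_sq hA ha (hg a ha)
    calc a * (g * a * g⁻¹) * g = (g * a * g⁻¹) * a * g := by rw [h2]
      _ = (g * a * g⁻¹) * (g * (g * a * g⁻¹) * g⁻¹) * g := by rw [h1]
      _ = g * (a * (g * a * g⁻¹)) := by group

theorem card_sub (K A : Subgroup G) :
    Nat.card (K.subgroupOf A) = Nat.card (A ⊓ K : Subgroup G) := by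
  rw [inf_comm, ← Subgroup.subgroupOf_map_subtype]
  exact Nat.card_congr ((K.subgroupOf A).equivMapOfInjective _ A.subtype_injective).toEquiv

/-- `|A| = |C_A(g)| · |[A, g]|` -/
theorem card_mul [Finite G] {A : Subgroup G} (hA : ∀ a ∈ A, a * a = 1) {g : G}
    (hg : ∀ a ∈ A, g * a * g⁻¹ ∈ A) (hg2 : ∀ a ∈ A, g * (g * a * g⁻¹) * g⁻¹ = a) :
    Nat.card A = Nat.card (A ⊓ Subgroup.centralizer ({g} : Set G) : Subgroup G) *
      Nat.card (dl hA g hg).range := by
  have h1 := Subgroup.card_eq_card_quotient_mul_card_subgroup (dl hA g hg).ker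
  have h2 : Nat.card (A ⧸ (dl hA g hg).ker) = Nat.card (dl hA g hg).range :=
    Nat.card_congr (QuotientGroup.quotientKerEquivRange (dl hA g hg)).toEquiv
  have h3 : Nat.card (dl hA g hg).ker = Nat.card (A ⊓ Subgroup.centralizer ({g} : Set G) : Subgroup G) := by
    rw [(card_dl hA hg hg2).1, card_sub]
  rw [h2, h3] at h1
  rw [h1, mul_comm]

theorem card_range_le [Finite G] {A : Subgroup G} (hA : ∀ a ∈ A, a * a = 1) {g : G}
    (hg : ∀ a ∈ A, g * a * g⁻¹ ∈ A) (hg2 : ∀ a ∈ A, g * (g * a * g⁻¹) * g⁻¹ = a) :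
    Nat.card (dl hA g hg).range ≤
      Nat.card (A ⊓ Subgroup.centralizer ({g} : Set G) : Subgroup G) := by
  have h1 := Subgroup.card_le_of_le (card_dl hA hg hg2).2
  exact h1.trans (le_of_eq (card_sub _ _))

/-- `|A| ≤ |C_A(g)|²` -/
theorem card_le_sq [Finite G] {A : Subgroup G} (hA : ∀ a ∈ A, a * a = 1) {g : G}
    (hg : ∀ a ∈ A, g * a * g⁻¹ ∈ A) (hg2 : ∀ a ∈ A, g * (g * a * g⁻¹) * g⁻¹ = a) :
    Nat.card A ≤ Nat.card (A ⊓ Subgroup.centralizer ({g} : Set G) : Subgroup G) *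
      Nat.card (A ⊓ Subgroup.centralizer ({g} : Set G) : Subgroup G) := by
  rw [card_mul hA hg hg2]
  exact Nat.mul_le_mul_left _ (card_range_le hA hg hg2)

/-- `c` is an involution normalising the elementary abelian group `V` of order 16 and `|C_V(c)| ≤ 4` -/
structure Fr (V : Subgroup G) (c : G) : Prop where
  sq : ∀ u ∈ V, u * u = 1
  card : Nat.card V = 16
  cc : c * c = 1
  cV : ∀ u ∈ V, c * u * c⁻¹ ∈ V
  le : Nat.card (V ⊓ Subgroup.centralizer ({c} : Set G) : Subgroup G) ≤ 4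

namespace Fr

variable {V : Subgroup G} {c : G}

theorem inv (F : Fr V c) : c⁻¹ = c := inv_eq_of_mul_eq_one_right F.cc

theorem twice (F : Fr V c) : ∀ a ∈ V, c * (c * a * c⁻¹) * c⁻¹ = a := by
  intro a _
  rw [F.inv]
  calc c * (c * a * c) * c = (c * c) * a * (c * c) := by group
    _ = a := by rw [F.cc]; group

theorem card_eq [Finite G] (F : Fr V c) :
    Nat.card (V ⊓ Subgroup.centralizer ({c} : Set G) : Subgroup G) = 4 := by
  have h1 := card_le_sq F.sq F.cV F.twice
  have h2 := F.le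
  rw [F.card] at h1
  by_contra hne
  have h3 : Nat.card (V ⊓ Subgroup.centralizer ({c} : Set G) : Subgroup G) ≤ 3 := by omega
  have h4 := Nat.mul_le_mul h3 h3
  omega

theorem notMem [Finite G] (F : Fr V c) : c ∉ V := by
  intro hc
  have h1 : (V ⊓ Subgroup.centralizer ({c} : Set G) : Subgroup G) = V := by
    rw [inf_eq_left]
    intro v hv
    exact Subgroup.mem_centralizer_singleton_iff.2 (comm_of_sq F.sq hv hc)
  have h2 := F.le
  rw [h1, F.card] at h2
  omega

theorem dl [Finite G] (F : Fr V c) {v : G} (hv : v ∈ V) (hc : c * v = v * c) :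
    ∃ w ∈ V, v = w * (c * w * c⁻¹) := by
  have h1 := card_mul F.sq F.cV F.twice
  rw [F.card, F.card_eq] at h1
  have h2 : (Four.dl F.sq c F.cV).range = (Subgroup.centralizer ({c} : Set G)).subgroupOf V := by
    apply Subgroup.eq_of_le_of_card_ge (card_dl F.sq F.cV F.twice).2
    rw [card_sub, F.card_eq]
    omega
  have h3 : (⟨v, hv⟩ : V) ∈ (Four.dl F.sq c F.cV).range := by
    rw [h2, Subgroup.mem_subgroupOf]
    exact Subgroup.mem_centralizer_singleton_iff.2 hc.symm
  obtain ⟨⟨w, hw⟩, h4⟩ := h3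
  exact ⟨w, hw, (congrArg Subtype.val h4).symm⟩

/-- the involutions of `V c` are conjugate to `c` under `V` -/
theorem conj [Finite G] (F : Fr V c) {u : G} (hu : co V u c) (h2 : u * u = 1) :
    ∃ w ∈ V, u = w * c * w⁻¹ := by
  obtain ⟨v, hv, rfl⟩ := hu.exists
  have h3 : v * (c * v * c) = 1 := by
    calc v * (c * v * c) = v * c * (v * c) := by group
      _ = 1 := h2
  have h4 : c * v = v * c := by
    have h5 := inv_eq_of_mul_eq_one_right h3
    rw [inv_eq_of_mul_eq_one_right (F.sq v hv)] at h5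
    calc c * v = c * (c * v * c) := by rw [← h5]
      _ = (c * c) * v * c := by group
      _ = v * c := by rw [F.cc, one_mul]
  obtain ⟨w, hw, hw2⟩ := F.dl hv h4
  refine ⟨w, hw, ?_⟩
  have h5 : w⁻¹ = w := inv_eq_of_mul_eq_one_right (F.sq w hw)
  rw [hw2, F.inv, h5]
  calc w * (c * w * c) * c = w * c * w * (c * c) := by group
    _ = w * c * w := by rw [F.cc, mul_one]

end Fr

end Cfsg.Agent.GH.N2.Four
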