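import Cfsg.Agent.GH.N2.FourNN

/-!
# GH-L2, `|Q| = 2`: the Sylow subgroup is not bigger than `V⟨x, t⟩` (helper344)
-/

set_option autoImplicit false

namespace Cfsg.Agent.GH.N2.Four

open Cfsg.Agent.GH.E (rr self_mem_rr le_rr mem_rr relIndex_rr)

variable {G : Type*} [Group G]

/-- the ambient 2-group `S`: `C_S(x) ≤ P`, abelian subgroups of order `> 8` contain no conjugate of `x` -/
structure Amb (x t : G) (V S : Subgroup G) : Prop where
  two : IsPGroup 2 S
  PS : VV.P x t V ≤ S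
  cS : ∀ g ∈ S, x * g = g * x → g ∈ VV.P x t V
  abel : ∀ A : Subgroup G, A ≤ S → (∀ p ∈ A, ∀ q ∈ A, p * q = q * p) → 8 < Nat.card A →
    ∀ a ∈ A, ∀ g : G, g * x * g⁻¹ ≠ a

/-- `K ∪ K n` -/
def ex (n : G) (K : Subgroup G) (h2 : n * n ∈ K) (hn : ∀ k ∈ K, n * k * n⁻¹ ∈ K) : Subgroup G where
  carrier := {g | g ∈ K ∨ g * n⁻¹ ∈ K}
  mul_mem' := by
    rintro a b (ha | ha) (hb | hb)
    · exact Or.inl (K.mul_mem ha hb)
    · right
      show a * b * n⁻¹ ∈ K
      rw [mul_assoc]; exact K.mul_mem ha hb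
    · right
      show a * b * n⁻¹ ∈ K
      have h : a * b * n⁻¹ = (a * n⁻¹) * (n * b * n⁻¹) := by group
      rw [h]; exact K.mul_mem ha (hn b hb)
    · left
      show a * b ∈ K
      have h : a * b = (a * n⁻¹) * (n * (b * n⁻¹) * n⁻¹) * (n * n) := by group
      rw [h]; exact K.mul_mem (K.mul_mem ha (hn _ hb)) h2
  one_mem' := Or.inl K.one_mem
  inv_mem' := by
    rintro a (ha | ha)
    · exact Or.inl (K.inv_mem ha)
    · right
      show a⁻¹ * n⁻¹ ∈ K
      have h : a⁻¹ * n⁻¹ = ((n * (a * n⁻¹) * n⁻¹) * (n * n))⁻¹ := by group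
      rw [h]; exact K.inv_mem (K.mul_mem (hn _ ha) h2)

theorem mem_ex {n : G} {K : Subgroup G} {h2 : n * n ∈ K} {hn : ∀ k ∈ K, n * k * n⁻¹ ∈ K} {g : G} :
    g ∈ ex n K h2 hn ↔ g ∈ K ∨ g * n⁻¹ ∈ K := Iff.rfl

theorem eight_lt [Finite G] {F K1 K2 : Subgroup G} (hF : 4 ≤ Nat.card F) {a b : G} (h1 : F ≤ K1) (h2 : F ≤ K2)
    (ha1 : a ∉ K1) (ha2 : a ∈ K2) (hb : b ∉ K2) :
    8 < Nat.card (Subgroup.closure ((F : Set G) ∪ {a, b})) := by
  have l1 : F < Subgroup.closure ((F : Set G) ∪ {a}) := by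
    refine lt_of_le_of_ne (fun f hf => Subgroup.subset_closure (Or.inl hf)) (fun h => ha1 (h1 ?_))
    rw [h]
    exact Subgroup.subset_closure (Or.inr rfl)
  have l2 : Subgroup.closure ((F : Set G) ∪ {a}) < Subgroup.closure ((F : Set G) ∪ {a, b}) := by
    refine lt_of_le_of_ne (Subgroup.closure_mono ?_) (fun h => hb ?_)
    · rintro g (hg | hg)
      · exact Or.inl hg
      · rw [Set.mem_singleton_iff] at hg
        exact Or.inr (Or.inl hg)
    · have h3 : b ∈ Subgroup.closure ((F : Set G) ∪ {a}) := by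
        rw [h]
        exact Subgroup.subset_closure (Or.inr (Or.inr rfl))
      have h4 : Subgroup.closure ((F : Set G) ∪ {a}) ≤ K2 := by
        rw [Subgroup.closure_le]
        rintro g (hg | hg)
        · exact h2 hg
        · rw [Set.mem_singleton_iff] at hg
          rw [hg]; exact ha2
      exact h4 h3
  have := two_mul_card_le l1
  have := two_mul_card_le l2
  omega

namespace VV

variable {x t z : G} {V S : Subgroup G}

theorem card_F [Finite G] (W : VV x t z V) :
    Nat.card (V ⊓ Subgroup.centralizer ({t} : Set G) : Subgroup G) = 4 := W.frt.card_eq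

theorem mem_of_conj [Finite G] (W : VV x t z V) (A : Amb x t V S) {d : G} (hd : d ∈ S)
    (h : co V (d * x * d⁻¹) x) : d ∈ VV.P x t V := by
  obtain ⟨w, hw, h1⟩ := W.frx.conj h (by
    calc d * x * d⁻¹ * (d * x * d⁻¹) = d * (x * x) * d⁻¹ := by group
      _ = 1 := by rw [W.xx]; group)
  have hwP := W.V_le_P hw
  have h2 : x * (w⁻¹ * d) = (w⁻¹ * d) * x := by
    calc x * (w⁻¹ * d) = w⁻¹ * (w * x * w⁻¹) * d := by group
      _ = w⁻¹ * (d * x * d⁻¹) * d := by rw [h1]
      _ = (w⁻¹ * d) * x := by group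
  have h3 := A.cS _ (S.mul_mem (S.inv_mem (A.PS hwP)) hd) h2
  have h4 : d = w * (w⁻¹ * d) := by group
  rw [h4]
  exact (VV.P x t V).mul_mem hwP h3

end VV

namespace NN

variable {x t z n : G} {V S : Subgroup G}

theorem notMem_P [Finite G] (N : NN x t z n V) : n ∉ VV.P x t V := by
  intro h
  have W := N.toVV
  have key : ∀ c : G, co V n c → (∀ u ∈ V, c * u * c⁻¹ ∈ V) → c * x * c⁻¹ = x → False := by
    intro c hc hcV hcx
    -- `n x n⁻¹ ≈ x`
    obtain ⟨v, hv, h1⟩ := hc.exists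
    have h2 : co V (n * x * n⁻¹) x := by
      have h3 : n * x * n⁻¹ = v * (x * v⁻¹ * x⁻¹) * x := by
        calc n * x * n⁻¹ = v * (c * x * c⁻¹) * v⁻¹ := by rw [h1]; group
          _ = v * x * v⁻¹ := by rw [hcx]
          _ = _ := by group
      rw [h3]
      exact co_mul_left (V.mul_mem hv (W.xV _ (V.inv_mem hv)))
    exact W.not_co_x_xt (h2.symm.trans N.nx)
  rcases W.mem_P.1 h with h | h | h | h
  · exact key 1 h (fun u hu => by simpa using hu) (by group)
  · exact key x h W.xV (by group)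
  · exact key t h W.tV (by rw [← W.xt]; group)
  · exact key (x * t) h W.xtV (by
      calc x * t * x * (x * t)⁻¹ = x * (t * x) * t⁻¹ * x⁻¹ := by group
        _ = x * (x * t) * t⁻¹ * x⁻¹ := by rw [W.xt]
        _ = x := by group)

/-- `V` normalises modulo -/
theorem conj_co {V : Subgroup G} {v g c : G} (hv : v ∈ V)
    (hc : ∀ u ∈ V, c * u * c⁻¹ ∈ V) (h : co V g c) : co V (v * g * v⁻¹) c := by
  have h1 : v * g * v⁻¹ = v * (g * v⁻¹ * g⁻¹) * g := by group
  rw [h1]
  exact (co_mul_left (V.mul_mem hv (h.norm hc _ (V.inv_mem hv)))).trans h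

/-- replacing `n` by an element of `V n` -/
theorem replace (N : NN x t z n V) {u : G} (hu : co V u n) : NN x t z u V := by
  have W := N.toVV
  obtain ⟨v, hv, h1⟩ := hu.exists
  refine ⟨W, hu.norm N.nV, ?_, ?_, ?_⟩
  · have h2 : u * x * u⁻¹ = v * (n * x * n⁻¹) * v⁻¹ := by rw [h1]; group
    rw [h2]
    exact conj_co hv W.xtV N.nx
  · have h2 : u * t * u⁻¹ = v * (n * t * n⁻¹) * v⁻¹ := by rw [h1]; group
    rw [h2]
    exact conj_co hv W.tV N.nt
  · exact (hu.mul hu N.nV).trans N.nn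

/-- `t n` is as good as `n` -/
theorem mul_t (N : NN x t z n V) : NN x t z (t * n) V := by
  have W := N.toVV
  refine ⟨W, ?_, ?_, ?_, ?_⟩
  · intro u hu
    have h1 : t * n * u * (t * n)⁻¹ = t * (n * u * n⁻¹) * t⁻¹ := by group
    rw [h1]; exact W.tV _ (N.nV u hu)
  · have h1 : t * n * x * (t * n)⁻¹ = t * (n * x * n⁻¹) * t⁻¹ := by group
    rw [h1]
    refine (N.nx.conj W.tV).trans (co.of_eq ?_)
    calc t * (x * t) * t⁻¹ = t * x := by group
      _ = x * t := W.xt.symm
  · have h1 : t * n * t * (t * n)⁻¹ = t * (n * t * n⁻¹) * t⁻¹ := by group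
    rw [h1]
    refine (N.nt.conj W.tV).trans (co.of_eq ?_)
    group
  · calc co V (t * n * (t * n)) (t * (n * t * n⁻¹) * (n * n)) := co.of_eq (by group)
      co V _ (t * t * (n * n)) := (N.nt.left W.tV).right _
      co V _ (n * n) := co.of_eq (by rw [W.tt, one_mul])
      co V _ 1 := N.nn

/-- `t n t⁻¹ ≈ n` -/
theorem tn (N : NN x t z n V) : co V (t * n * t⁻¹) n := by
  have W := N.toVV
  have h1 : t * n * t⁻¹ = t * (n * t * n⁻¹)⁻¹ * n := by group
  have h2 := (N.nt).symm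
  -- `t (n t n⁻¹)⁻¹ ∈ V`
  have h3 : t * (n * t * n⁻¹)⁻¹ ∈ V := h2
  rw [h1]
  exact co_mul_left h3

/-- `x n x⁻¹ ≈ t n` -/
theorem xn (N : NN x t z n V) : co V (x * n * x⁻¹) (t * n) := by
  have W := N.toVV
  have h1 : x * n * x⁻¹ = (x * (n * x * n⁻¹)⁻¹ * t⁻¹) * (t * n) := by group
  have h2 : (x * t) * (n * x * n⁻¹)⁻¹ ∈ V := N.nx.symm
  have h3 := W.tV _ h2
  have h4 : t * (x * t * (n * x * n⁻¹)⁻¹) * t⁻¹ = x * (n * x * n⁻¹)⁻¹ * t⁻¹ := by
    calc t * (x * t * (n * x * n⁻¹)⁻¹) * t⁻¹ = (t * x) * t * (n * x * n⁻¹)⁻¹ * t⁻¹ := by group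
      _ = (x * t) * t * (n * x * n⁻¹)⁻¹ * t⁻¹ := by rw [W.xt]
      _ = x * (t * t) * (n * x * n⁻¹)⁻¹ * t⁻¹ := by group
      _ = _ := by rw [W.tt, mul_one]
  rw [h4] at h3
  rw [h1]
  exact co_mul_left h3

/-- `t` is not conjugate to `x` -/
theorem t_not [Finite G] (N : NN x t z n V) (A : Amb x t V S) (hn : n ∈ S) (g : G) : g * x * g⁻¹ ≠ t := by
  have W := N.toVV
  have hVS : V ≤ S := W.V_le_P.trans A.PS
  have htS : t ∈ S := A.PS W.t_mem_P
  obtain ⟨w, hw, h1⟩ := W.frt.conj N.nt (by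
    calc n * t * n⁻¹ * (n * t * n⁻¹) = n * (t * t) * n⁻¹ := by group
      _ = 1 := by rw [W.tt]; group)
  have hk : t * (w⁻¹ * n) = (w⁻¹ * n) * t := by
    calc t * (w⁻¹ * n) = w⁻¹ * (w * t * w⁻¹) * n := by group
      _ = w⁻¹ * (n * t * n⁻¹) * n := by rw [h1]
      _ = (w⁻¹ * n) * t := by group
  have hkn : co V (w⁻¹ * n) n := co_mul_left (V.inv_mem hw)
  have hkP : w⁻¹ * n ∉ VV.P x t V := (N.replace hkn).notMem_P
  have hkF : ∀ f ∈ V, t * f = f * t → (w⁻¹ * n) * f = f * (w⁻¹ * n) := fun f hf hft =>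
    (N.replace hkn).comm_F hf hft
  refine A.abel (Subgroup.closure (((V ⊓ Subgroup.centralizer ({t} : Set G) : Subgroup G) : Set G) ∪
    {t, w⁻¹ * n})) ?_ ?_ ?_ _ (Subgroup.subset_closure (Or.inr (Or.inl rfl))) g
  · rw [Subgroup.closure_le]
    rintro g (hg | hg | hg)
    · exact hVS hg.1
    · rw [hg]; exact htS
    · rw [Set.mem_singleton_iff] at hg
      rw [hg]; exact S.mul_mem (S.inv_mem (hVS hw)) hn
  · apply abel_closure
    rintro a (ha | ha | ha) b (hb | hb | hb)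
    · exact W.comm ha.1 hb.1
    · rw [hb]; exact Subgroup.mem_centralizer_singleton_iff.1 ha.2
    · rw [Set.mem_singleton_iff] at hb
      rw [hb]; exact (hkF a ha.1 (Subgroup.mem_centralizer_singleton_iff.1 ha.2).symm).symm
    · rw [ha]; exact (Subgroup.mem_centralizer_singleton_iff.1 hb.2).symm
    · rw [ha, hb]
    · rw [Set.mem_singleton_iff] at hb
      rw [ha, hb]; exact hk
    · rw [Set.mem_singleton_iff] at ha
      rw [ha]; exact (hkF b hb.1 (Subgroup.mem_centralizer_singleton_iff.1 hb.2).symm)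
    · rw [Set.mem_singleton_iff] at ha
      rw [ha, hb]; exact hk.symm
    · rw [Set.mem_singleton_iff] at ha hb
      rw [ha, hb]
  · exact eight_lt (K1 := V) (K2 := VV.P x t V) W.card_F.ge inf_le_left (inf_le_left.trans W.V_le_P)
      W.t_notMem W.t_mem_P hkP

/-- `n` is not conjugate to `x` -/
theorem n_not [Finite G] (N : NN x t z n V) (A : Amb x t V S) (hn : n ∈ S) (hn2 : n * n = 1) (g : G) :
    g * x * g⁻¹ ≠ n := by
  have W := N.toVV
  have hVS : V ≤ S := W.V_le_P.trans A.PS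
  have htS : t ∈ S := A.PS W.t_mem_P
  by_cases h4 : Nat.card (V ⊓ Subgroup.centralizer ({n} : Set G) : Subgroup G) ≤ 4
  · have Fn : Fr V n := ⟨W.sq, W.card, hn2, N.nV, h4⟩
    obtain ⟨w, hw, h1⟩ := Fn.conj N.tn (by
      calc t * n * t⁻¹ * (t * n * t⁻¹) = t * (n * n) * t⁻¹ := by group
        _ = 1 := by rw [hn2]; group)
    have hk : n * (w⁻¹ * t) = (w⁻¹ * t) * n := by
      calc n * (w⁻¹ * t) = w⁻¹ * (w * n * w⁻¹) * t := by group
        _ = w⁻¹ * (t * n * t⁻¹) * t := by rw [h1]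
        _ = (w⁻¹ * t) * n := by group
    have hkt : co V (w⁻¹ * t) t := co_mul_left (V.inv_mem hw)
    have hkV : w⁻¹ * t ∉ V := fun h => W.t_notMem (hkt.mem.1 h)
    have hkF : ∀ f ∈ V, t * f = f * t → (w⁻¹ * t) * f = f * (w⁻¹ * t) := fun f hf hft =>
      (comm_iff_of_co W.sq hkt hf).2 hft
    have hnF : ∀ f ∈ V, t * f = f * t → n * f = f * n := fun f hf hft => N.comm_F hf hft
    refine A.abel (Subgroup.closure (((V ⊓ Subgroup.centralizer ({t} : Set G) : Subgroup G) : Set G) ∪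
      {w⁻¹ * t, n})) ?_ ?_ ?_ _ (Subgroup.subset_closure (Or.inr (Or.inr rfl))) g
    · rw [Subgroup.closure_le]
      rintro g (hg | hg | hg)
      · exact hVS hg.1
      · rw [hg]; exact S.mul_mem (S.inv_mem (hVS hw)) htS
      · rw [Set.mem_singleton_iff] at hg
        rw [hg]; exact hn
    · apply abel_closure
      rintro a (ha | ha | ha) b (hb | hb | hb)
      · exact W.comm ha.1 hb.1
      · rw [hb]; exact (hkF a ha.1 (Subgroup.mem_centralizer_singleton_iff.1 ha.2).symm).symm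
      · rw [Set.mem_singleton_iff] at hb
        rw [hb]; exact (hnF a ha.1 (Subgroup.mem_centralizer_singleton_iff.1 ha.2).symm).symm
      · rw [ha]; exact (hkF b hb.1 (Subgroup.mem_centralizer_singleton_iff.1 hb.2).symm)
      · rw [ha, hb]
      · rw [Set.mem_singleton_iff] at hb
        rw [ha, hb]; exact hk.symm
      · rw [Set.mem_singleton_iff] at ha
        rw [ha]; exact (hnF b hb.1 (Subgroup.mem_centralizer_singleton_iff.1 hb.2).symm)
      · rw [Set.mem_singleton_iff] at ha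
        rw [ha, hb]; exact hk
      · rw [Set.mem_singleton_iff] at ha hb
        rw [ha, hb]
    · refine eight_lt (K1 := V) (K2 := VV.P x t V) W.card_F.ge inf_le_left (inf_le_left.trans W.V_le_P)
        hkV ?_ N.notMem_P
      exact (VV.P x t V).mul_mem ((VV.P x t V).inv_mem (W.V_le_P hw)) W.t_mem_P
  · push Not at h4
    refine A.abel (Subgroup.closure (((V ⊓ Subgroup.centralizer ({n} : Set G) : Subgroup G) : Set G) ∪
      {n})) ?_ ?_ ?_ _ (Subgroup.subset_closure (Or.inr rfl)) g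
    · rw [Subgroup.closure_le]
      rintro g (hg | hg)
      · exact hVS hg.1
      · rw [Set.mem_singleton_iff] at hg
        rw [hg]; exact hn
    · apply abel_closure
      rintro a (ha | ha) b (hb | hb)
      · exact W.comm ha.1 hb.1
      · rw [Set.mem_singleton_iff] at hb
        rw [hb]; exact Subgroup.mem_centralizer_singleton_iff.1 ha.2
      · rw [Set.mem_singleton_iff] at ha
        rw [ha]; exact (Subgroup.mem_centralizer_singleton_iff.1 hb.2).symm
      · rw [Set.mem_singleton_iff] at ha hb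
        rw [ha, hb]
    · have l1 : (V ⊓ Subgroup.centralizer ({n} : Set G) : Subgroup G) <
          Subgroup.closure (((V ⊓ Subgroup.centralizer ({n} : Set G) : Subgroup G) : Set G) ∪ {n}) := by
        refine lt_of_le_of_ne (fun f hf => Subgroup.subset_closure (Or.inl hf)) (fun h => N.notMem_P
          (W.V_le_P ?_))
        have h5 : n ∈ (V ⊓ Subgroup.centralizer ({n} : Set G) : Subgroup G) := by
          rw [h]
          exact Subgroup.subset_closure (Or.inr rfl)
        exact h5.1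
      have := two_mul_card_le l1
      omega

/-- `J = V⟨t, n⟩` -/
def J (N : NN x t z n V) : Subgroup G :=
  ex n (rr t V) (le_rr t V (co_one.1 N.nn)) (fun k hk => by
    have W := N.toVV
    rcases (mem_rr W.tt W.tV).1 hk with h | h
    · exact le_rr t V (N.nV k h)
    · have h1 : co V k t := W.symm.co_x.2 h
      have h2 : co V (n * k * n⁻¹) t := (h1.conj N.nV).trans N.nt
      exact (mem_rr W.tt W.tV).2 (Or.inr (W.symm.co_x.1 h2)))

theorem mem_J (N : NN x t z n V) {g : G} :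
    g ∈ N.J ↔ co V g 1 ∨ co V g t ∨ co V g n ∨ co V g (t * n) := by
  have W := N.toVV
  have h1 : ∀ k : G, k ∈ rr t V ↔ co V k 1 ∨ co V k t := by
    intro k
    rw [mem_rr W.tt W.tV, co_one, W.symm.co_x]
  have h2 : g ∈ N.J ↔ g ∈ rr t V ∨ g * n⁻¹ ∈ rr t V := mem_ex
  rw [h2, h1, h1]
  have h3 : co V (g * n⁻¹) 1 ↔ co V g n := co_one
  have h4 : co V (g * n⁻¹) t ↔ co V g (t * n) := by
    show g * n⁻¹ * t⁻¹ ∈ V ↔ g * (t * n)⁻¹ ∈ V
    have : g * n⁻¹ * t⁻¹ = g * (t * n)⁻¹ := by group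
    rw [this]
  rw [h3, h4]
  tauto

/-- no conjugate of `x` lies in `J` -/
theorem not_J [Finite G] (N : NN x t z n V) (A : Amb x t V S) (hn : n ∈ S) (g : G) : g * x * g⁻¹ ∉ N.J := by
  have W := N.toVV
  have hVS : V ≤ S := W.V_le_P.trans A.PS
  have htS : t ∈ S := A.PS W.t_mem_P
  have hu2 : g * x * g⁻¹ * (g * x * g⁻¹) = 1 := by
    calc g * x * g⁻¹ * (g * x * g⁻¹) = g * (x * x) * g⁻¹ := by group
      _ = 1 := by rw [W.xx]; group
  have key : ∀ (m : G) (_ : NN x t z m V) (_ : m ∈ S), ¬ co V (g * x * g⁻¹) m := by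
    intro m M hm h
    obtain ⟨v, hv, h1⟩ := h.exists
    refine (M.replace h).n_not A ?_ hu2 g rfl
    rw [h1]; exact S.mul_mem (hVS hv) hm
  intro h
  rcases N.mem_J.1 h with h | h | h | h
  · exact A.abel V hVS (fun p hp q hq => W.comm hp hq) (by rw [W.card]; norm_num) _ (co_one.1 h) g rfl
  · obtain ⟨w, _, h1⟩ := W.frt.conj h hu2
    apply N.t_not A hn (w⁻¹ * g)
    have h2 : w⁻¹ * g * x * (w⁻¹ * g)⁻¹ = w⁻¹ * (g * x * g⁻¹) * w := by group
    rw [h2, h1]; group
  · exact key n N hn h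
  · exact key _ N.mul_t (S.mul_mem htS hn) h

theorem x_notMem_J [Finite G] (N : NN x t z n V) (A : Amb x t V S) (hn : n ∈ S) : x ∉ N.J := by
  have := N.not_J A hn 1
  simpa using this

theorem J_norm (N : NN x t z n V) : ∀ u ∈ N.J, x * u * x⁻¹ ∈ N.J := by
  have W := N.toVV
  intro u hu
  rw [N.mem_J] at hu ⊢
  rcases hu with h | h | h | h
  · left
    exact (h.conj W.xV).trans (co.of_eq (by group))
  · right; left
    exact (h.conj W.xV).trans (co.of_eq (by rw [W.xt]; group))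
  · right; right; right
    exact (h.conj W.xV).trans N.xn
  · right; right; left
    refine (h.conj W.xV).trans ?_
    have h1 : x * (t * n) * x⁻¹ = t * (x * n * x⁻¹) := by
      calc x * (t * n) * x⁻¹ = (x * t) * n * x⁻¹ := by group
        _ = (t * x) * n * x⁻¹ := by rw [W.xt]
        _ = _ := by group
    rw [h1]
    refine (N.xn.left W.tV).trans (co.of_eq ?_)
    rw [← mul_assoc, W.tt, one_mul]

theorem mem_D (N : NN x t z n V) {g : G} : g ∈ rr x N.J ↔ g ∈ N.J ∨ x * g ∈ N.J :=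
  mem_rr N.toVV.xx N.J_norm

theorem P_le_D (N : NN x t z n V) : VV.P x t V ≤ rr x N.J := by
  have W := N.toVV
  intro g hg
  rw [N.mem_D, N.mem_J, N.mem_J]
  rcases W.mem_P.1 hg with h | h | h | h
  · exact Or.inl (Or.inl h)
  · right; left
    exact co_one.2 (W.co_x.1 h)
  · exact Or.inl (Or.inr (Or.inl h))
  · right; right; left
    refine (h.left W.xV).trans (co.of_eq ?_)
    rw [← mul_assoc, W.xx, one_mul]

theorem n_mem_J (N : NN x t z n V) : n ∈ N.J := N.mem_J.2 (Or.inr (Or.inr (Or.inl (co.refl n))))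

theorem D_le (N : NN x t z n V) (A : Amb x t V S) (hn : n ∈ S) : rr x N.J ≤ S := by
  have W := N.toVV
  have hVS : V ≤ S := W.V_le_P.trans A.PS
  have hJ : N.J ≤ S := by
    intro g hg
    have key : ∀ m ∈ S, co V g m → g ∈ S := by
      intro m hm h
      obtain ⟨v, hv, h1⟩ := h.exists
      rw [h1]; exact S.mul_mem (hVS hv) hm
    rcases N.mem_J.1 hg with h | h | h | h
    · exact key _ S.one_mem h
    · exact key _ (A.PS W.t_mem_P) h
    · exact key _ hn h
    · exact key _ (S.mul_mem (A.PS W.t_mem_P) hn) h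
  intro g hg
  rcases N.mem_D.1 hg with h | h
  · exact hJ h
  · have h1 := S.mul_mem (S.inv_mem (A.PS W.x_mem_P)) (hJ h)
    have h2 : x⁻¹ * (x * g) = g := by group
    rwa [h2] at h1

/-- an element of `S` carrying `x` into `D = J⟨x⟩` lies in `D` -/
theorem mem_D_of_conj [Finite G] (N : NN x t z n V) (A : Amb x t V S) (hn : n ∈ S) {g : G} (hg : g ∈ S)
    (h : g * x * g⁻¹ ∈ rr x N.J) : g ∈ rr x N.J := by
  have W := N.toVV
  have hu2 : g * x * g⁻¹ * (g * x * g⁻¹) = 1 := by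
    calc g * x * g⁻¹ * (g * x * g⁻¹) = g * (x * x) * g⁻¹ := by group
      _ = 1 := by rw [W.xx]; group
  have key : ∀ m : G, NN x t z m V → co V (x * (g * x * g⁻¹)) m → False := by
    intro m M h1
    have h2 : co V (g * x * g⁻¹) (x * m) := by
      have := h1.left W.xV
      refine (co.of_eq ?_).trans this
      rw [← mul_assoc x x, W.xx, one_mul]
    have h3 := h2.mul h2 (by
      intro u hu
      have h1 : x * m * u * (x * m)⁻¹ = x * (m * u * m⁻¹) * x⁻¹ := by group
      rw [h1]; exact W.xV _ (M.nV u hu))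
    rw [hu2] at h3
    exact W.t_notMem ((h3.trans M.xn_sq).symm.mem.2 V.one_mem)
  rcases N.mem_D.1 h with h | h
  · exact absurd h (N.not_J A hn g)
  · rcases N.mem_J.1 h with h | h | h | h
    · exact N.P_le_D (W.mem_of_conj A hg (W.co_x.2 (co_one.1 h)))
    · -- `g x g⁻¹ ≈ x t`
      have h1 : co V (g * x * g⁻¹) (x * t) := by
        have := h.left W.xV
        refine (co.of_eq ?_).trans this
        rw [← mul_assoc x x, W.xx, one_mul]
      have h2 : co V (n⁻¹ * (g * x * g⁻¹) * n) x := by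
        have h3 := (h1.trans N.nx.symm)
        have h4 := h3.conj (k := n⁻¹) (fun u hu => by rw [inv_inv]; exact N.nV' u hu)
        rw [inv_inv] at h4
        exact h4.trans (co.of_eq (by group))
      have h3 : n⁻¹ * g ∈ VV.P x t V := by
        apply W.mem_of_conj A (S.mul_mem (S.inv_mem hn) hg)
        have h4 : n⁻¹ * g * x * (n⁻¹ * g)⁻¹ = n⁻¹ * (g * x * g⁻¹) * n := by group
        rw [h4]; exact h2
      have h4 := (rr x N.J).mul_mem (le_rr x N.J N.n_mem_J) (N.P_le_D h3)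
      have h5 : n * (n⁻¹ * g) = g := by group
      rwa [h5] at h4
    · exact (key n N h).elim
    · exact (key _ N.mul_t h).elim

theorem false [Finite G] (N : NN x t z n V) (A : Amb x t V S) (hn : n ∈ S)
    (hG : ∀ K : Subgroup G, K.index ≠ 2) (hS : ∃ Y : Sylow 2 G, (Y : Subgroup G) = S) : False := by
  have W := N.toVV
  have hD : rr x N.J = S := by
    by_contra hne
    have hlt : rr x N.J < S := lt_of_le_of_ne (N.D_le A hn) hne
    have h1 := GH.E.lt_inf_normalizer A.two hlt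
    obtain ⟨g, hg, hgD⟩ := SetLike.exists_of_lt h1
    apply hgD
    apply N.mem_D_of_conj A hn hg.1
    exact (Subgroup.mem_normalizer_iff.1 hg.2 x).1 (self_mem_rr x N.J)
  refine GH.E.false_of_transfer (x := x) hG hS (K := N.J) ?_ ?_ W.xx (N.not_J A hn)
  · rw [← hD]; exact le_rr x N.J
  · rw [← hD]; exact relIndex_rr W.xx N.J_norm (N.x_notMem_J A hn)

end NN

namespace VV

variable {x t z : G} {V S : Subgroup G}

theorem false_of_mul [Finite G] (W : VV x t z V) (A : Amb x t V S)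
    (hG : ∀ K : Subgroup G, K.index ≠ 2) (hS : ∃ Y : Sylow 2 G, (Y : Subgroup G) = S)
    {n : G} (hn : n ∈ S) (hnP : n ∉ VV.P x t V) (nV : ∀ u ∈ V, n * u * n⁻¹ ∈ V)
    (hN : ∀ p ∈ VV.P x t V, n * p * n⁻¹ ∈ VV.P x t V) (nx : co V (n * x * n⁻¹) (x * t)) : False := by
  have nV' := norm_inv nV
  have back : ∀ {g : G}, co V (n * g * n⁻¹) 1 → g ∈ V := by
    intro g h
    have h1 := nV' _ (co_one.1 h)
    have h2 : n⁻¹ * (n * g * n⁻¹) * n = g := by group
    rwa [h2] at h1
  have nxt : ∀ {c : G}, co V (n * t * n⁻¹) c → co V (n * (x * t) * n⁻¹) (x * t * c) := by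
    intro c hc
    refine (co.of_eq ?_).trans (nx.mul hc W.xtV)
    group
  have nt : co V (n * t * n⁻¹) t := by
    rcases W.mem_P.1 (hN t W.t_mem_P) with h | h | h | h
    · exact absurd (back h) W.t_notMem
    · -- the 3-cycle
      exfalso
      have h1 : co V (n * (x * t) * n⁻¹) t := (nxt h).trans (co.of_eq (by
        calc x * t * x = x * (t * x) := by group
          _ = x * (x * t) := by rw [W.xt]
          _ = t := by rw [← mul_assoc, W.xx, one_mul]))
      have h2 : co V (n * (n * x * n⁻¹) * n⁻¹) t := (nx.conj nV).trans h1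
      have h3 : co V (n * (n * (n * x * n⁻¹) * n⁻¹) * n⁻¹) x := (h2.conj nV).trans h
      have h4 : n ^ 3 ∈ VV.P x t V := by
        apply W.mem_of_conj A (S.pow_mem hn 3)
        have h5 : n ^ 3 * x * (n ^ 3)⁻¹ = n * (n * (n * x * n⁻¹) * n⁻¹) * n⁻¹ := by
          rw [show (3 : ℕ) = 2 + 1 by norm_num, pow_succ, pow_two]; group
        rw [h5]; exact h3
      obtain ⟨k, hk⟩ := A.two ⟨n, hn⟩
      have hk' : n ^ 2 ^ k = 1 := congrArg Subtype.val hk
      have h5 : Nat.Coprime 3 (orderOf n) := by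
        have h6 : orderOf n ∣ 2 ^ k := orderOf_dvd_of_pow_eq_one hk'
        exact Nat.Coprime.coprime_dvd_right h6 (Nat.Coprime.pow_right k (by norm_num))
      obtain ⟨m, hm⟩ := exists_pow_eq_self_of_coprime h5
      apply hnP
      rw [← hm]
      exact (VV.P x t V).pow_mem h4 m
    · exact h
    · exfalso
      have h1 : co V (n * (x * t) * n⁻¹) 1 := (nxt h).trans (co.of_eq W.mul.tt)
      exact W.xt_notMem (back h1)
  have nxt' : co V (n * (x * t) * n⁻¹) x := (nxt nt).trans (co.of_eq (by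
    rw [mul_assoc, W.tt, mul_one]))
  have hnn : n * n ∈ VV.P x t V := by
    apply W.mem_of_conj A (S.mul_mem hn hn)
    have h5 : n * n * x * (n * n)⁻¹ = n * (n * x * n⁻¹) * n⁻¹ := by group
    rw [h5]
    exact (nx.conj nV).trans nxt'
  have hself : ∀ {c : G}, co V (n * n) c → co V (n * n) (n * c * n⁻¹) := by
    intro c hc
    refine (co.of_eq ?_).trans (hc.conj nV)
    group
  rcases W.mem_P.1 hnn with h | h | h | h
  · exact NN.false ⟨W, nV, nx, nt, h⟩ A hn hG hS
  · -- `n² ≈ x`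
    have h1 := (hself h).trans nx
    exact W.not_co_x_xt (h.symm.trans h1)
  · -- `n² ≈ t`: replace `n` by `x n`
    have h1 : co V (x * n * (x * n)) 1 := by
      calc co V (x * n * (x * n)) (x * (n * x * n⁻¹) * (n * n)) := co.of_eq (by group)
        co V _ (x * (x * t) * (n * n)) := (nx.left W.xV).right _
        co V _ (t * (n * n)) := co.of_eq (by rw [← mul_assoc x x, W.xx, one_mul])
        co V _ (t * t) := h.left W.tV
        co V _ 1 := co.of_eq W.tt
    refine NN.false (n := x * n) ⟨W, ?_, ?_, ?_, h1⟩ A (S.mul_mem (A.PS W.x_mem_P) hn) hG hS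
    · intro u hu
      have h1 : x * n * u * (x * n)⁻¹ = x * (n * u * n⁻¹) * x⁻¹ := by group
      rw [h1]; exact W.xV _ (nV u hu)
    · have h2 : x * n * x * (x * n)⁻¹ = x * (n * x * n⁻¹) * x⁻¹ := by group
      rw [h2]
      refine (nx.conj W.xV).trans (co.of_eq ?_)
      calc x * (x * t) * x⁻¹ = x * (x * t * x⁻¹) := by group
        _ = x * (t * x * x⁻¹) := by rw [W.xt]
        _ = x * t := by group
    · have h2 : x * n * t * (x * n)⁻¹ = x * (n * t * n⁻¹) * x⁻¹ := by group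
      rw [h2]
      refine (nt.conj W.xV).trans (co.of_eq ?_)
      rw [W.xt]; group
  · -- `n² ≈ x t`
    have h1 := (hself h).trans nxt'
    exact W.not_co_x_xt (h1.symm.trans h)

theorem false [Finite G] (W : VV x t z V) (A : Amb x t V S)
    (hG : ∀ K : Subgroup G, K.index ≠ 2) (hS : ∃ Y : Sylow 2 G, (Y : Subgroup G) = S)
    (hne : VV.P x t V ≠ S) : False := by
  have h1 := GH.E.lt_inf_normalizer A.two (lt_of_le_of_ne A.PS hne)
  obtain ⟨n, hn, hnP⟩ := SetLike.exists_of_lt h1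
  have hN : ∀ p ∈ VV.P x t V, n * p * n⁻¹ ∈ VV.P x t V := fun p hp => (Subgroup.mem_normalizer_iff.1 hn.2 p).1 hp
  have nV := W.norm_of_norm_P hN
  rcases W.mem_P.1 (hN x W.x_mem_P) with h | h | h | h
  · have h1 := norm_inv nV _ (co_one.1 h)
    have h2 : n⁻¹ * (n * x * n⁻¹) * n = x := by group
    rw [h2] at h1
    exact W.x_notMem h1
  · exact hnP (W.mem_of_conj A hn.1 h)
  · have W' := W.mul
    have hP := W.P_mul
    refine W'.false_of_mul (n := n) (S := S) ⟨A.two, ?_, ?_, A.abel⟩ hG hS hn.1 ?_ nV ?_ ?_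
    · rw [hP]; exact A.PS
    · rw [hP]; exact A.cS
    · rw [hP]; exact hnP
    · rw [hP]; exact hN
    · refine h.trans (co.of_eq ?_)
      rw [← mul_assoc, W.xx, one_mul]
  · exact W.false_of_mul A hG hS hn.1 hnP nV hN h

end VV

end Cfsg.Agent.GH.N2.Four
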