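import Cfsg.Agent.GH.N2.FourVV

/-!
# GH-L2, `|Q| = 2`: an element `n` normalising `V⟨x, t⟩`, `x^n ∈ Vxt` (helper344)
-/

set_option autoImplicit false

namespace Cfsg.Agent.GH.N2.Four

open Cfsg.Agent.GH.E (rr self_mem_rr le_rr mem_rr)

variable {G : Type*} [Group G]

/-- `n` normalises `V`, `n : x ↦ x t, t ↦ t` modulo `V`, `n² ∈ V` -/
structure NN (x t z n : G) (V : Subgroup G) : Prop extends VV x t z V where
  nV : ∀ u ∈ V, n * u * n⁻¹ ∈ V
  nx : co V (n * x * n⁻¹) (x * t)
  nt : co V (n * t * n⁻¹) t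
  nn : co V (n * n) 1

namespace VV

variable {x t z : G} {V : Subgroup G}

/-- `F = C_V(t)`: two elements outside `⟨z⟩` differ by `z` -/
theorem x_F (W : VV x t z V) {f : G} (hf : f ∈ V) (hft : t * f = f * t) (h1 : f ≠ 1) (hz : f ≠ z) :
    x * f * x⁻¹ = z * f := by
  have hm := W.xV f hf
  have hcomm := W.comm hf hm
  have h2 : x * (x * f * x⁻¹ * f) = (x * f * x⁻¹ * f) * x := by
    rw [W.xi]
    rw [W.xi] at hcomm
    calc x * (x * f * x * f) = (x * x) * (f * x * f) := by group
      _ = f * x * f := by rw [W.xx, one_mul]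
      _ = f * (x * f * x) * x := by
          calc f * x * f = f * x * f * (x * x) := by rw [W.xx, mul_one]
            _ = f * (x * f * x) * x := by group
      _ = (x * f * x) * f * x := by rw [hcomm]
  have h3 : t * (x * f * x⁻¹) = (x * f * x⁻¹) * t := by
    rw [W.xi]
    calc t * (x * f * x) = (t * x) * f * x := by group
      _ = (x * t) * f * x := by rw [W.xt]
      _ = x * (t * f) * x := by group
      _ = x * (f * t) * x := by rw [hft]
      _ = x * f * (t * x) := by group
      _ = x * f * (x * t) := by rw [W.xt]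
      _ = (x * f * x) * t := by group
  have h4 : t * (x * f * x⁻¹ * f) = (x * f * x⁻¹ * f) * t := by
    calc t * (x * f * x⁻¹ * f) = t * (x * f * x⁻¹) * f := by group
      _ = (x * f * x⁻¹) * t * f := by rw [h3]
      _ = (x * f * x⁻¹) * (t * f) := by group
      _ = (x * f * x⁻¹) * (f * t) := by rw [hft]
      _ = _ := by group
  rcases W.cen _ (V.mul_mem hm hf) h2 h4 with h | h
  · exfalso
    have h5 : x * f * x⁻¹ = f := by
      rw [mul_eq_one_iff_eq_inv] at h
      rw [h, inv_eq_of_mul_eq_one_right (W.sq f hf)]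
    rw [mul_inv_eq_iff_eq_mul] at h5
    rcases W.cen f hf h5 hft with h6 | h6
    · exact h1 h6
    · exact hz h6
  · rw [← h, mul_assoc (x * f * x⁻¹), W.sq f hf, mul_one]

theorem F_cases (W : VV x t z V) {f g : G} (hf : f ∈ V) (hft : t * f = f * t) (h1 : f ≠ 1) (hz : f ≠ z)
    (hg : g ∈ V) (hgt : t * g = g * t) (g1 : g ≠ 1) (gz : g ≠ z) : f * g = 1 ∨ f * g = z := by
  apply W.cen _ (V.mul_mem hf hg)
  · have h2 := W.x_F hf hft h1 hz
    have h3 := W.x_F hg hgt g1 gz
    have h4 : x * (f * g) * x⁻¹ = f * g := by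
      calc x * (f * g) * x⁻¹ = (x * f * x⁻¹) * (x * g * x⁻¹) := by group
        _ = (z * f) * (z * g) := by rw [h2, h3]
        _ = (f * z) * (z * g) := by rw [W.comm W.zV hf]
        _ = f * (z * z) * g := by group
        _ = f * g := by rw [W.sq z W.zV, mul_one]
    rwa [mul_inv_eq_iff_eq_mul] at h4
  · calc t * (f * g) = (t * f) * g := by group
      _ = f * (t * g) := by rw [hft]; group
      _ = f * g * t := by rw [hgt]; group

end VV

/-- if `w ≈ c` and `w` commutes with `u ∈ V` then so does `c`; and conversely -/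
theorem comm_iff_of_co {V : Subgroup G} (hV : ∀ u ∈ V, u * u = 1) {c w u : G} (hw : co V w c) (hu : u ∈ V) :
    w * u = u * w ↔ c * u = u * c := by
  obtain ⟨v, hv, rfl⟩ := hw.exists
  have h1 := comm_of_sq hV hv hu
  constructor
  · intro h
    have h2 : v * (c * u) = v * (u * c) := by
      calc v * (c * u) = v * c * u := by group
        _ = u * (v * c) := h
        _ = (u * v) * c := by group
        _ = (v * u) * c := by rw [h1]
        _ = v * (u * c) := by group
    exact mul_left_cancel h2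
  · intro h
    calc v * c * u = v * (c * u) := by group
      _ = v * (u * c) := by rw [h]
      _ = (v * u) * c := by group
      _ = (u * v) * c := by rw [h1]
      _ = u * (v * c) := by group

/-- conjugation is compatible with `≈` on `V` -/
theorem conj_eq_of_co {V : Subgroup G} (hV : ∀ u ∈ V, u * u = 1) {c w u : G} (hw : co V w c) (hu : u ∈ V)
    (hc : ∀ u ∈ V, c * u * c⁻¹ ∈ V) : w * u * w⁻¹ = c * u * c⁻¹ := by
  obtain ⟨v, hv, rfl⟩ := hw.exists
  have h1 := comm_of_sq hV hv (hc u hu)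
  calc v * c * u * (v * c)⁻¹ = (v * (c * u * c⁻¹)) * v⁻¹ := by group
    _ = (c * u * c⁻¹) * v * v⁻¹ := by rw [h1]
    _ = c * u * c⁻¹ := by group

namespace NN

variable {x t z n : G} {V : Subgroup G}

theorem nV' [Finite G] (N : NN x t z n V) : ∀ u ∈ V, n⁻¹ * u * n ∈ V := norm_inv N.nV

/-- `n⁻¹ ≈ n` -/
theorem ni [Finite G] (N : NN x t z n V) : co V n⁻¹ n := by
  have h : n * n ∈ V := co_one.1 N.nn
  show n⁻¹ * n⁻¹ ∈ V
  have h2 : n⁻¹ * n⁻¹ = (n * n)⁻¹ := by group
  rw [h2]; exact V.inv_mem h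

theorem comm_z (N : NN x t z n V) : n * z = z * n := by
  have W := N.toVV
  -- conjugate of the relations
  have hm : n * z * n⁻¹ ∈ V := N.nV z W.zV
  have h1 : (n * x * n⁻¹) * (n * z * n⁻¹) = (n * z * n⁻¹) * (n * x * n⁻¹) := by
    calc (n * x * n⁻¹) * (n * z * n⁻¹) = n * (x * z) * n⁻¹ := by group
      _ = n * (z * x) * n⁻¹ := by rw [W.xz]
      _ = _ := by group
  have h2 : (n * t * n⁻¹) * (n * z * n⁻¹) = (n * z * n⁻¹) * (n * t * n⁻¹) := by
    calc (n * t * n⁻¹) * (n * z * n⁻¹) = n * (t * z) * n⁻¹ := by group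
      _ = n * (z * t) * n⁻¹ := by rw [W.tz]
      _ = _ := by group
  have h3 := (comm_iff_of_co W.sq N.nx hm).1 h1
  have h4 := (comm_iff_of_co W.sq N.nt hm).1 h2
  have h5 : x * (n * z * n⁻¹) = (n * z * n⁻¹) * x := by
    have h6 : x * t * (n * z * n⁻¹) * t⁻¹ = x * (n * z * n⁻¹) := by
      calc x * t * (n * z * n⁻¹) * t⁻¹ = x * (t * (n * z * n⁻¹)) * t⁻¹ := by group
        _ = x * ((n * z * n⁻¹) * t) * t⁻¹ := by rw [h4]
        _ = _ := by group
    rw [← h6, h3]; group
  rcases W.cen _ hm h5 h4 with h | h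
  · exfalso
    apply W.z1
    have : z = n⁻¹ * (n * z * n⁻¹) * n := by group
    rw [this, h]; group
  · rwa [mul_inv_eq_iff_eq_mul] at h

/-- `(xn)² ≈ t` -/
theorem xn_sq (N : NN x t z n V) : co V (x * n * (x * n)) t := by
  have W := N.toVV
  calc co V (x * n * (x * n)) (x * (n * x * n⁻¹) * (n * n)) := co.of_eq (by group)
    co V _ (x * (x * t) * (n * n)) := (N.nx.left W.xV).right _
    co V _ (t * (n * n)) := co.of_eq (by rw [← mul_assoc x x, W.xx, one_mul])
    co V _ (t * 1) := N.nn.left W.tV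
    co V _ t := co.of_eq (mul_one t)

/-- `n` centralises `F = C_V(t)` -/
theorem comm_F [Finite G] (N : NN x t z n V) {f : G} (hf : f ∈ V) (hft : t * f = f * t) : n * f = f * n := by
  have W := N.toVV
  by_contra hne
  have hz := N.comm_z
  have f1 : f ≠ 1 := by rintro rfl; exact hne (by group)
  have fz : f ≠ z := by rintro rfl; exact hne hz
  -- the conjugate
  have key : ∀ g ∈ V, t * g = g * t → g ≠ 1 → g ≠ z → n * g * n⁻¹ = g ∨ n * g * n⁻¹ = z * g := by
    intro g hg hgt g1 gz
    have hm := N.nV g hg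
    have h2 : (n * t * n⁻¹) * (n * g * n⁻¹) = (n * g * n⁻¹) * (n * t * n⁻¹) := by
      calc (n * t * n⁻¹) * (n * g * n⁻¹) = n * (t * g) * n⁻¹ := by group
        _ = n * (g * t) * n⁻¹ := by rw [hgt]
        _ = _ := by group
    have h4 := (comm_iff_of_co W.sq N.nt hm).1 h2
    have h5 : n * g * n⁻¹ ≠ 1 := by
      intro h
      apply g1
      have : g = n⁻¹ * (n * g * n⁻¹) * n := by group
      rw [this, h]; group
    have h6 : n * g * n⁻¹ ≠ z := by
      intro h
      apply gz
      have : g = n⁻¹ * (n * g * n⁻¹) * n := by group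
      rw [this, h, mul_assoc, ← hz]; group
    rcases W.F_cases hm h4 h5 h6 hg hgt g1 gz with h | h
    · left
      rw [mul_eq_one_iff_eq_inv] at h
      rw [h, inv_eq_of_mul_eq_one_right (W.sq g hg)]
    · right
      rw [← h, mul_assoc (n * g * n⁻¹), W.sq g hg, mul_one]
  have hnf : n * f * n⁻¹ = z * f := by
    rcases key f hf hft f1 fz with h | h
    · exfalso; apply hne; rwa [mul_inv_eq_iff_eq_mul] at h
    · exact h
  -- `d = x n` centralises `F`
  have hd : ∀ g ∈ V, t * g = g * t → (x * n) * g * (x * n)⁻¹ = g := by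
    intro g hg hgt
    by_cases g1 : g = 1
    · rw [g1]; group
    by_cases gz : g = z
    · rw [gz]
      calc x * n * z * (x * n)⁻¹ = x * (n * z) * n⁻¹ * x⁻¹ := by group
        _ = x * (z * n) * n⁻¹ * x⁻¹ := by rw [hz]
        _ = (x * z) * x⁻¹ := by group
        _ = z := by rw [W.xz]; group
    · have hng : n * g * n⁻¹ = z * g := by
        rcases key g hg hgt g1 gz with h | h
        · exfalso
          -- g = f or z f
          rcases W.F_cases hf hft f1 fz hg hgt g1 gz with h2 | h2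
          · have h3 : f = g := by
              rw [mul_eq_one_iff_eq_inv] at h2
              rw [h2, inv_eq_of_mul_eq_one_right (W.sq g hg)]
            rw [← h3, hnf] at h
            exact W.z1 (mul_eq_right.1 h)
          · have h3 : f = z * g := by
              rw [← h2, mul_assoc, W.sq g hg, mul_one]
            have h4 : n * f * n⁻¹ = f := by
              rw [h3]
              calc n * (z * g) * n⁻¹ = (n * z) * g * n⁻¹ := by group
                _ = (z * n) * g * n⁻¹ := by rw [hz]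
                _ = z * (n * g * n⁻¹) := by group
                _ = z * g := by rw [h]
            rw [hnf] at h4
            exact W.z1 (mul_eq_right.1 h4)
        · exact h
      have hxg := W.x_F hg hgt g1 gz
      calc x * n * g * (x * n)⁻¹ = x * (n * g * n⁻¹) * x⁻¹ := by group
        _ = x * (z * g) * x⁻¹ := by rw [hng]
        _ = (x * z) * g * x⁻¹ := by group
        _ = (z * x) * g * x⁻¹ := by rw [W.xz]
        _ = z * (x * g * x⁻¹) := by group
        _ = z * (z * g) := by rw [hxg]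
        _ = (z * z) * g := by group
        _ = g := by rw [W.sq z W.zV, one_mul]
  have hdV : ∀ u ∈ V, (x * n) * u * (x * n)⁻¹ ∈ V := by
    intro u hu
    have h1 : (x * n) * u * (x * n)⁻¹ = x * (n * u * n⁻¹) * x⁻¹ := by group
    rw [h1]; exact W.xV _ (N.nV u hu)
  -- `φ(u) = u · u^d`
  have hφV : ∀ u ∈ V, u * ((x * n) * u * (x * n)⁻¹) ∈ V := fun u hu => V.mul_mem hu (hdV u hu)
  have hφφ : ∀ u ∈ V, (u * ((x * n) * u * (x * n)⁻¹)) *
      ((x * n) * (u * ((x * n) * u * (x * n)⁻¹)) * (x * n)⁻¹) = u * (t * u * t⁻¹) := by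
    intro u hu
    have h1 := W.sq _ (hdV u hu)
    have h2 : (x * n) * ((x * n) * u * (x * n)⁻¹) * (x * n)⁻¹ = t * u * t⁻¹ := by
      have := conj_eq_of_co W.sq N.xn_sq hu W.tV
      rw [← this]; group
    calc (u * ((x * n) * u * (x * n)⁻¹)) * ((x * n) * (u * ((x * n) * u * (x * n)⁻¹)) * (x * n)⁻¹)
        = u * ((((x * n) * u * (x * n)⁻¹)) * ((x * n) * u * (x * n)⁻¹)) *
          ((x * n) * ((x * n) * u * (x * n)⁻¹) * (x * n)⁻¹) := by group
      _ = u * (t * u * t⁻¹) := by rw [h1, h2, mul_one]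
  -- `t` commutes with `u · u^t`
  have htt : ∀ u ∈ V, t * (u * (t * u * t⁻¹)) = (u * (t * u * t⁻¹)) * t := by
    intro u hu
    have h1 := W.comm hu (W.tV u hu)
    rw [W.ti] at h1 ⊢
    calc t * (u * (t * u * t)) = (t * u * t) * u * t := by group
      _ = (u * (t * u * t)) * t := by rw [h1]
  -- everything in `V` commutes with `t`
  have hall : ∀ u ∈ V, t * u = u * t := by
    intro u hu
    -- `φ(u)` commutes with `t`
    have h1 := hφφ _ (hφV u hu)
    have h2 : ∀ f ∈ V, t * f = f * t → f * ((x * n) * f * (x * n)⁻¹) = 1 := by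
      intro f hf hft
      rw [hd f hf hft, W.sq f hf]
    have h3 := htt u hu
    have h4 : (u * ((x * n) * u * (x * n)⁻¹)) * (t * (u * ((x * n) * u * (x * n)⁻¹)) * t⁻¹) = 1 := by
      rw [← h1, hφφ u hu]
      -- φ φ φ u = φ (ψ u)
      exact h2 _ (V.mul_mem hu (W.tV u hu)) h3
    -- so t commutes with φ u
    have h5 : t * (u * ((x * n) * u * (x * n)⁻¹)) = (u * ((x * n) * u * (x * n)⁻¹)) * t := by
      have h6 := mul_eq_one_iff_eq_inv.1 h4
      rw [inv_eq_of_mul_eq_one_right (W.sq _ (W.tV _ (hφV u hu)))] at h6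
      have h7 : t * (u * ((x * n) * u * (x * n)⁻¹)) * t⁻¹ = (u * ((x * n) * u * (x * n)⁻¹)) := h6.symm
      rwa [mul_inv_eq_iff_eq_mul] at h7
    have h6 := h2 _ (hφV u hu) h5
    rw [hφφ u hu] at h6
    have h7 := mul_eq_one_iff_eq_inv.1 h6
    rw [inv_eq_of_mul_eq_one_right (W.sq _ (W.tV u hu))] at h7
    have h8 : t * u * t⁻¹ = u := h7.symm
    rwa [mul_inv_eq_iff_eq_mul] at h8
  have h1 : (V ⊓ Subgroup.centralizer ({t} : Set G) : Subgroup G) = V := by
    rw [inf_eq_left]
    intro v hv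
    exact Subgroup.mem_centralizer_singleton_iff.2 (hall v hv).symm
  have h2 := W.frt.le
  rw [h1, W.card] at h2
  omega

end NN

end Cfsg.Agent.GH.N2.Four
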