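import Cfsg.Agent.GH.N2.FourBase

/-!
# GH-L2, `|Q| = 2`: `V = E₁₆` with a four-group `⟨x, t⟩` acting freely (helper344)
-/

set_option autoImplicit false

namespace Cfsg.Agent.GH.N2.Four

open Cfsg.Agent.GH.E (rr self_mem_rr le_rr mem_rr)

variable {G : Type*} [Group G]

/-- `⟨x, t⟩` is a four-group (modulo coincidences) normalising the elementary abelian group `V` of order 16 and
`C_V(⟨x, t⟩) = ⟨z⟩`. -/
structure VV (x t z : G) (V : Subgroup G) : Prop where
  sq : ∀ u ∈ V, u * u = 1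
  card : Nat.card V = 16
  xx : x * x = 1
  tt : t * t = 1
  xt : x * t = t * x
  xV : ∀ u ∈ V, x * u * x⁻¹ ∈ V
  tV : ∀ u ∈ V, t * u * t⁻¹ ∈ V
  zV : z ∈ V
  z1 : z ≠ 1
  xz : x * z = z * x
  tz : t * z = z * t
  cen : ∀ u ∈ V, x * u = u * x → t * u = u * t → u = 1 ∨ u = z

theorem card_le_two {A : Subgroup G} {z : G} (h : ∀ u ∈ A, u = 1 ∨ u = z) : Nat.card A ≤ 2 := by
  classical
  have h1 : (A : Set G) ⊆ ({1, z} : Finset G) := by
    intro u hu
    rcases h u hu with h | h <;> simp [h]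
  have h2 : (A : Set G).ncard ≤ 2 := (Set.ncard_le_ncard h1 (Finset.finite_toSet _)).trans (by
    rw [Set.ncard_coe_finset]; exact Finset.card_le_two)
  exact h2

theorem card_le_two_mul [Finite G] {A B : Subgroup G}
    (h : ∀ a ∈ A, ∀ b ∈ A, a ∉ B → b ∉ B → a⁻¹ * b ∈ B) :
    Nat.card A ≤ 2 * Nat.card (A ⊓ B : Subgroup G) := by
  by_cases hAB : A ≤ B
  · rw [inf_eq_left.2 hAB]; omega
  · obtain ⟨a, ha, haB⟩ := SetLike.not_le_iff_exists.1 hAB
    have h1 : (B.subgroupOf A).index = 2 := by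
      rw [Subgroup.index_eq_two_iff]
      refine ⟨(⟨a, ha⟩ : A)⁻¹, ?_⟩
      rintro ⟨b, hb⟩
      by_cases hbB : b ∈ B
      · right
        refine ⟨Subgroup.mem_subgroupOf.2 hbB, fun hc => haB ?_⟩
        have h2 : b * a⁻¹ ∈ B := Subgroup.mem_subgroupOf.1 hc
        have h3 := B.mul_mem (B.inv_mem h2) hbB
        have h4 : (b * a⁻¹)⁻¹ * b = a := by group
        rwa [h4] at h3
      · left
        refine ⟨?_, fun hc => hbB (Subgroup.mem_subgroupOf.1 hc)⟩
        rw [Subgroup.mem_subgroupOf]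
        show b * a⁻¹ ∈ B
        have h2 := h b⁻¹ (A.inv_mem hb) a⁻¹ (A.inv_mem ha) (fun hc => hbB ((Subgroup.inv_mem_iff B).1 hc))
          (fun hc => haB ((Subgroup.inv_mem_iff B).1 hc))
        rwa [inv_inv] at h2
    have h2 := Subgroup.card_mul_index (B.subgroupOf A)
    rw [h1, card_sub] at h2
    omega

theorem two_mul_card_le [Finite G] {A B : Subgroup G} (h : A < B) : 2 * Nat.card A ≤ Nat.card B := by
  obtain ⟨k, hk⟩ := Subgroup.card_dvd_of_le h.le
  have h1 : k ≠ 0 := by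
    rintro rfl
    rw [mul_zero] at hk
    exact Nat.card_pos.ne' hk
  have h2 : k ≠ 1 := by
    rintro rfl
    rw [mul_one] at hk
    exact h.ne (Subgroup.eq_of_le_of_card_ge h.le hk.le)
  have h3 : 2 ≤ k := by omega
  calc 2 * Nat.card A = Nat.card A * 2 := mul_comm _ _
    _ ≤ Nat.card A * k := Nat.mul_le_mul_left _ h3
    _ = Nat.card B := hk.symm

/-- the group generated by commuting elements is abelian -/
theorem abel_closure {s : Set G} (h : ∀ a ∈ s, ∀ b ∈ s, a * b = b * a) :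
    ∀ p ∈ Subgroup.closure s, ∀ q ∈ Subgroup.closure s, p * q = q * p := by
  have h1 : ∀ p ∈ Subgroup.closure s, ∀ b ∈ s, p * b = b * p := by
    intro p hp b hb
    have h2 : Subgroup.closure s ≤ Subgroup.centralizer ({b} : Set G) := by
      rw [Subgroup.closure_le]
      intro a ha
      exact Subgroup.mem_centralizer_singleton_iff.2 (h a ha b hb)
    exact Subgroup.mem_centralizer_singleton_iff.1 (h2 hp)
  intro p hp q hq
  have h2 : Subgroup.closure s ≤ Subgroup.centralizer ({p} : Set G) := by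
    rw [Subgroup.closure_le]
    intro a ha
    exact Subgroup.mem_centralizer_singleton_iff.2 (h1 p hp a ha).symm
  exact (Subgroup.mem_centralizer_singleton_iff.1 (h2 hq)).symm

namespace VV

variable {x t z : G} {V : Subgroup G}

theorem xi (W : VV x t z V) : x⁻¹ = x := inv_eq_of_mul_eq_one_right W.xx
theorem ti (W : VV x t z V) : t⁻¹ = t := inv_eq_of_mul_eq_one_right W.tt

theorem comm (W : VV x t z V) {a b : G} (ha : a ∈ V) (hb : b ∈ V) : a * b = b * a :=
  comm_of_sq W.sq ha hb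

theorem symm (W : VV x t z V) : VV t x z V :=
  ⟨W.sq, W.card, W.tt, W.xx, W.xt.symm, W.tV, W.xV, W.zV, W.z1, W.tz, W.xz,
    fun u hu h1 h2 => W.cen u hu h2 h1⟩

theorem mul (W : VV x t z V) : VV x (x * t) z V where
  sq := W.sq
  card := W.card
  xx := W.xx
  tt := by
    calc x * t * (x * t) = x * (t * x) * t := by group
      _ = x * (x * t) * t := by rw [W.xt]
      _ = (x * x) * (t * t) := by group
      _ = 1 := by rw [W.xx, W.tt, one_mul]
  xt := by
    calc x * (x * t) = x * (t * x) := by rw [W.xt]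
      _ = x * t * x := by group
  xV := W.xV
  tV := fun u hu => by
    have h1 : x * t * u * (x * t)⁻¹ = x * (t * u * t⁻¹) * x⁻¹ := by group
    rw [h1]; exact W.xV _ (W.tV u hu)
  zV := W.zV
  z1 := W.z1
  xz := W.xz
  tz := by rw [mul_assoc, W.tz, ← mul_assoc, W.xz, mul_assoc]
  cen := fun u hu h1 h2 => W.cen u hu h1 (by
    have h3 : x * (t * u) = x * (u * t) := by
      calc x * (t * u) = x * t * u := by group
        _ = u * (x * t) := h2
        _ = (u * x) * t := by group
        _ = (x * u) * t := by rw [h1]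
        _ = x * (u * t) := by group
    exact mul_left_cancel h3)

theorem card_x [Finite G] (W : VV x t z V) :
    Nat.card (V ⊓ Subgroup.centralizer ({x} : Set G) : Subgroup G) ≤ 4 := by
  have hA : ∀ a ∈ (V ⊓ Subgroup.centralizer ({x} : Set G) : Subgroup G), a * a = 1 := fun a ha => W.sq a ha.1
  have hg : ∀ a ∈ (V ⊓ Subgroup.centralizer ({x} : Set G) : Subgroup G),
      t * a * t⁻¹ ∈ (V ⊓ Subgroup.centralizer ({x} : Set G) : Subgroup G) := by
    intro a ha
    refine ⟨W.tV a ha.1, Subgroup.mem_centralizer_singleton_iff.2 ?_⟩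
    have h1 : a * x = x * a := Subgroup.mem_centralizer_singleton_iff.1 ha.2
    rw [W.ti]
    calc t * a * t * x = t * a * (t * x) := by group
      _ = t * a * (x * t) := by rw [W.xt]
      _ = t * (a * x) * t := by group
      _ = t * (x * a) * t := by rw [h1]
      _ = (t * x) * a * t := by group
      _ = (x * t) * a * t := by rw [W.xt]
      _ = x * (t * a * t) := by group
  have hg2 : ∀ a ∈ (V ⊓ Subgroup.centralizer ({x} : Set G) : Subgroup G), t * (t * a * t⁻¹) * t⁻¹ = a := by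
    intro a _
    rw [W.ti]
    calc t * (t * a * t) * t = (t * t) * a * (t * t) := by group
      _ = a := by rw [W.tt]; group
  have h1 := card_le_sq hA hg hg2
  have h2 : Nat.card ((V ⊓ Subgroup.centralizer ({x} : Set G)) ⊓ Subgroup.centralizer ({t} : Set G) :
      Subgroup G) ≤ 2 := by
    apply card_le_two (z := z)
    rintro u ⟨⟨hu, hx⟩, ht⟩
    exact W.cen u hu (Subgroup.mem_centralizer_singleton_iff.1 hx).symm
      (Subgroup.mem_centralizer_singleton_iff.1 ht).symm
  exact h1.trans ((Nat.mul_le_mul h2 h2).trans (by norm_num))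

theorem frx [Finite G] (W : VV x t z V) : Fr V x := ⟨W.sq, W.card, W.xx, W.xV, W.card_x⟩
theorem frt [Finite G] (W : VV x t z V) : Fr V t := W.symm.frx
theorem frxt [Finite G] (W : VV x t z V) : Fr V (x * t) := W.mul.frt

/-- `P = V⟨x, t⟩` -/
def P (x t : G) (V : Subgroup G) : Subgroup G := rr t (rr x V)

theorem tr (W : VV x t z V) : ∀ u ∈ rr x V, t * u * t⁻¹ ∈ rr x V := by
  intro u hu
  rcases (mem_rr W.xx W.xV).1 hu with h | h
  · exact le_rr x V (W.tV u h)
  · refine (mem_rr W.xx W.xV).2 (Or.inr ?_)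
    have h1 : x * (t * u * t⁻¹) = t * (x * u) * t⁻¹ := by
      calc x * (t * u * t⁻¹) = (x * t) * u * t⁻¹ := by group
        _ = (t * x) * u * t⁻¹ := by rw [W.xt]
        _ = t * (x * u) * t⁻¹ := by group
    rw [h1]; exact W.tV _ h

theorem co_x (W : VV x t z V) {g : G} : co V g x ↔ x * g ∈ V := by
  constructor
  · intro h
    have h1 := W.xV _ h
    have h2 : x * (g * x⁻¹) * x⁻¹ = x * g := by
      calc x * (g * x⁻¹) * x⁻¹ = x * g * (x * x)⁻¹ := by group
        _ = x * g := by rw [W.xx]; group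
    rwa [h2] at h1
  · intro h
    have h1 := W.xV _ h
    have h2 : x * (x * g) * x⁻¹ = g * x⁻¹ := by rw [← mul_assoc x x, W.xx, one_mul]
    rwa [h2] at h1

theorem mem_P (W : VV x t z V) {g : G} :
    g ∈ P x t V ↔ (co V g 1 ∨ co V g x ∨ co V g t ∨ co V g (x * t)) := by
  have h0 : co V g 1 ↔ g ∈ V := co_one
  have h1 := W.co_x (g := g)
  have h2 := W.symm.co_x (g := g)
  have h3 : co V g (x * t) ↔ x * (t * g) ∈ V := by
    have := W.mul.symm.co_x (g := g)
    rw [this, mul_assoc]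
  rw [P, mem_rr W.tt W.tr, mem_rr W.xx W.xV, mem_rr W.xx W.xV, h0, h1, h2, h3]
  tauto

theorem V_le_P (W : VV x t z V) : V ≤ P x t V := fun u hu => W.mem_P.2 (Or.inl (co_one.2 hu))
theorem x_mem_P (W : VV x t z V) : x ∈ P x t V := W.mem_P.2 (Or.inr (Or.inl (co.refl _)))
theorem t_mem_P (W : VV x t z V) : t ∈ P x t V := W.mem_P.2 (Or.inr (Or.inr (Or.inl (co.refl _))))

theorem P_symm (W : VV x t z V) : P t x V = P x t V := by
  ext g
  rw [W.symm.mem_P, W.mem_P, W.xt]
  tauto

theorem P_mul (W : VV x t z V) : P x (x * t) V = P x t V := by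
  ext g
  have h : x * (x * t) = t := by rw [← mul_assoc, W.xx, one_mul]
  rw [W.mul.mem_P, W.mem_P, h]
  tauto

theorem xtV (W : VV x t z V) : ∀ u ∈ V, (x * t) * u * (x * t)⁻¹ ∈ V := W.mul.tV

/-- elements of `P` normalise `V` -/
theorem P_norm (W : VV x t z V) {p : G} (hp : p ∈ P x t V) : ∀ u ∈ V, p * u * p⁻¹ ∈ V := by
  rcases W.mem_P.1 hp with h | h | h | h
  · exact h.norm (fun u hu => by simpa using hu)
  · exact h.norm W.xV
  · exact h.norm W.tV
  · exact h.norm W.xtV

theorem x_notMem [Finite G] (W : VV x t z V) : x ∉ V := W.frx.notMem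
theorem t_notMem [Finite G] (W : VV x t z V) : t ∉ V := W.frt.notMem
theorem xt_notMem [Finite G] (W : VV x t z V) : x * t ∉ V := W.frxt.notMem

theorem not_co_x_t [Finite G] (W : VV x t z V) : ¬ co V x t := by
  intro h
  have h1 : x * t⁻¹ ∈ V := h
  rw [W.ti] at h1
  exact W.xt_notMem h1

theorem not_co_x_xt [Finite G] (W : VV x t z V) : ¬ co V x (x * t) := by
  intro h
  have h1 := h.symm
  have h2 : co V (x * t) x ↔ x * (x * t) ∈ V := W.co_x
  rw [h2, ← mul_assoc, W.xx, one_mul] at h1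
  exact W.t_notMem h1

theorem not_co_t_xt [Finite G] (W : VV x t z V) : ¬ co V t (x * t) := by
  intro h
  rw [W.xt] at h
  exact W.symm.not_co_x_xt h

/-- an abelian group normalising.. : `W ∩ V` centralises `c` if `W` meets `V c` -/
theorem cen_of_co (W : VV x t z V) {c w u : G} (hw : co V w c) (hu : u ∈ V) (h : w * u = u * w) :
    c * u = u * c := by
  obtain ⟨v, hv, rfl⟩ := hw.exists
  have h1 := W.comm hv hu
  have h2 : v * (c * u) = v * (u * c) := by
    calc v * (c * u) = v * c * u := by group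
      _ = u * (v * c) := h
      _ = (u * v) * c := by group
      _ = (v * u) * c := by rw [h1]
      _ = v * (u * c) := by group
  exact mul_left_cancel h2

/-- an elementary abelian subgroup of order 16 of `P` not contained in `V` meets `V x` -/
theorem meets [Finite G] (W : VV x t z V) {A : Subgroup G} (hA : A ≤ P x t V)
    (hA1 : ∀ a ∈ A, ∀ b ∈ A, a * b = b * a) (hc : Nat.card A = 16) (hAV : ¬ A ≤ V) :
    ∃ a ∈ A, co V a x := by
  by_contra hno
  push Not at hno
  obtain ⟨w, hw, hwV⟩ := SetLike.not_le_iff_exists.1 hAV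
  have h1 : Nat.card A ≤ 2 * Nat.card (A ⊓ V : Subgroup G) := by
    apply card_le_two_mul
    intro a ha b hb haV hbV
    have h2 : ∀ c ∈ A, c ∉ V → co V c t ∨ co V c (x * t) := by
      intro c hc hcV
      rcases W.mem_P.1 (hA hc) with h | h | h | h
      · exact absurd (co_one.1 h) hcV
      · exact absurd h (hno c hc)
      · exact Or.inl h
      · exact Or.inr h
    -- `a⁻¹ b` is congruent to `1` or `x`
    have h3 : a⁻¹ * b ∈ A := A.mul_mem (A.inv_mem ha) hb
    by_contra h4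
    have h5 : ¬ co V (a⁻¹ * b) x := hno _ h3
    have h6 := h2 _ h3 h4
    -- `t * a`, `t * b` lie in `rr x V`
    have h7 : ∀ c, co V c t ∨ co V c (x * t) → t * c ∈ rr x V := by
      intro c hc
      rw [mem_rr W.xx W.xV]
      rcases hc with h | h
      · left
        exact W.symm.co_x.1 h
      · right
        have h8 := W.mul.symm.co_x.1 h
        rwa [mul_assoc] at h8
    have h8 := (rr x V).mul_mem ((rr x V).inv_mem (h7 a (h2 a ha haV))) (h7 b (h2 b hb hbV))
    have h9 : (t * a)⁻¹ * (t * b) = a⁻¹ * b := by group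
    rw [h9, mem_rr W.xx W.xV] at h8
    rcases h8 with h8 | h8
    · exact h4 h8
    · exact h5 (W.co_x.2 h8)
  have h2 : ∀ c, co V w c → Nat.card (V ⊓ Subgroup.centralizer ({c} : Set G) : Subgroup G) ≤ 4 →
      Nat.card (A ⊓ V : Subgroup G) ≤ 4 := by
    intro c hc h4
    refine le_trans (Subgroup.card_le_of_le ?_) h4
    rintro u ⟨hu, huV⟩
    exact ⟨huV, Subgroup.mem_centralizer_singleton_iff.2 (W.cen_of_co hc huV (hA1 w hw u hu)).symm⟩
  rcases W.mem_P.1 (hA hw) with h | h | h | h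
  · exact hwV (co_one.1 h)
  · have := h2 _ h W.frx.le; omega
  · have := h2 _ h W.frt.le; omega
  · have := h2 _ h W.frxt.le; omega

/-- `V` is the only elementary abelian subgroup of order 16 of `P` -/
theorem le_V [Finite G] (W : VV x t z V) {A : Subgroup G} (hA : A ≤ P x t V)
    (hA1 : ∀ a ∈ A, ∀ b ∈ A, a * b = b * a) (hc : Nat.card A = 16) : A ≤ V := by
  by_contra hAV
  obtain ⟨a, ha, hax⟩ := W.meets hA hA1 hc hAV
  obtain ⟨b, hb, hbt⟩ := W.symm.meets (by rw [W.P_symm]; exact hA) hA1 hc hAV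
  have h1 : Nat.card (A ⊓ V : Subgroup G) ≤ 2 := by
    apply card_le_two (z := z)
    rintro u ⟨hu, huV⟩
    exact W.cen u huV (W.cen_of_co hax huV (hA1 a ha u hu)) (W.cen_of_co hbt huV (hA1 b hb u hu))
  have h2 : Nat.card A ≤ 2 * Nat.card (A ⊓ rr x V : Subgroup G) := by
    apply card_le_two_mul
    intro a ha b hb ha' hb'
    have h7 : ∀ c ∈ A, c ∉ rr x V → t * c ∈ rr x V := by
      intro c hc hc'
      rcases (mem_rr W.tt W.tr).1 (hA hc) with h | h
      · exact absurd h hc'
      · exact h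
    have h8 := (rr x V).mul_mem ((rr x V).inv_mem (h7 a ha ha')) (h7 b hb hb')
    have h9 : (t * a)⁻¹ * (t * b) = a⁻¹ * b := by group
    rwa [h9] at h8
  have h3 : Nat.card (A ⊓ rr x V : Subgroup G) ≤
      2 * Nat.card ((A ⊓ rr x V) ⊓ V : Subgroup G) := by
    apply card_le_two_mul
    rintro a ⟨_, ha⟩ b ⟨_, hb⟩ ha' hb'
    have h7 : ∀ c ∈ rr x V, c ∉ V → x * c ∈ V := by
      intro c hc hc'
      rcases (mem_rr W.xx W.xV).1 hc with h | h
      · exact absurd h hc'
      · exact h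
    have h8 := V.mul_mem (V.inv_mem (h7 a ha ha')) (h7 b hb hb')
    have h9 : (x * a)⁻¹ * (x * b) = a⁻¹ * b := by group
    rwa [h9] at h8
  have h4 : Nat.card ((A ⊓ rr x V) ⊓ V : Subgroup G) ≤ Nat.card (A ⊓ V : Subgroup G) :=
    Subgroup.card_le_of_le (le_inf (inf_le_left.trans inf_le_left) inf_le_right)
  omega

/-- `N(P) ≤ N(V)` -/
theorem norm_of_norm_P [Finite G] (W : VV x t z V) {n : G} (hn : ∀ p ∈ P x t V, n * p * n⁻¹ ∈ P x t V) :
    ∀ u ∈ V, n * u * n⁻¹ ∈ V := by
  intro u hu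
  have h1 : V.map (MulAut.conj n).toMonoidHom ≤ V := by
    apply W.le_V
    · rintro _ ⟨p, hp, rfl⟩
      exact hn p (W.V_le_P hp)
    · rintro _ ⟨p, hp, rfl⟩ _ ⟨q, hq, rfl⟩
      rw [← map_mul, ← map_mul, W.comm hp hq]
    · rw [← W.card]
      exact Nat.card_congr (V.equivMapOfInjective _ (MulAut.conj n).injective).symm.toEquiv
  exact h1 ⟨u, hu, rfl⟩

end VV

end Cfsg.Agent.GH.N2.Four
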