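import Cfsg.Agent.GH.N2.Step
import Cfsg.Agent.Transfer.ThompsonTransfer

/-!
# GH-L2, `|Q| = 2`: the holomorph of `Z8`

`Hol x a s`: `⟨s⟩` cyclic of order dividing 8, `a` inverts `s`, `x` acts as the fifth power.  If a group of
this type with `|⟨s, a, x⟩| = 32` is a 2-subgroup of a simple group `G` in which `x` is not conjugate to `a`
nor to `s⁴` and `C_S(x)` is contained in it, we get a contradiction.
-/

set_option autoImplicit false

namespace Cfsg.Agent.GH.N2.HolEight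

open Cfsg.Agent.GH.E (exists_pow_eq_inv)

variable {G : Type*} [Group G]

/-- relations of `Hol(Z8)` -/
structure Hol (x a s : G) : Prop where
  xx : x * x = 1
  aa : a * a = 1
  xa : x * a = a * x
  s8 : s ^ 8 = 1
  as : a * s = s ^ 7 * a
  xs : x * s = s ^ 5 * x

namespace Hol

variable {x a s : G} (H : Hol x a s)

include H

theorem a_pow (i : ℕ) : a * s ^ i = s ^ (7 * i) * a := by
  induction i with
  | zero => simp
  | succ i ih =>
    calc a * s ^ (i + 1) = (a * s ^ i) * s := by rw [pow_succ, mul_assoc]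
      _ = s ^ (7 * i) * (a * s) := by rw [ih, mul_assoc]
      _ = s ^ (7 * (i + 1)) * a := by rw [H.as, ← mul_assoc, ← pow_add]; ring_nf

theorem x_pow (i : ℕ) : x * s ^ i = s ^ (5 * i) * x := by
  induction i with
  | zero => simp
  | succ i ih =>
    calc x * s ^ (i + 1) = (x * s ^ i) * s := by rw [pow_succ, mul_assoc]
      _ = s ^ (5 * i) * (x * s) := by rw [ih, mul_assoc]
      _ = s ^ (5 * (i + 1)) * x := by rw [H.xs, ← mul_assoc, ← pow_add]; ring_nf

theorem aj_pow (j i : ℕ) : a ^ j * s ^ i = s ^ (7 ^ j * i) * a ^ j := by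
  induction j with
  | zero => simp
  | succ j ih =>
    calc a ^ (j + 1) * s ^ i = a * (a ^ j * s ^ i) := by rw [pow_succ', mul_assoc]
      _ = (a * s ^ (7 ^ j * i)) * a ^ j := by rw [ih, mul_assoc]
      _ = s ^ (7 ^ (j + 1) * i) * a ^ (j + 1) := by
          rw [H.a_pow, mul_assoc, ← pow_succ']
          congr 2
          ring

theorem xk_pow (k i : ℕ) : x ^ k * s ^ i = s ^ (5 ^ k * i) * x ^ k := by
  induction k with
  | zero => simp
  | succ k ih =>
    calc x ^ (k + 1) * s ^ i = x * (x ^ k * s ^ i) := by rw [pow_succ', mul_assoc]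
      _ = (x * s ^ (5 ^ k * i)) * x ^ k := by rw [ih, mul_assoc]
      _ = s ^ (5 ^ (k + 1) * i) * x ^ (k + 1) := by
          rw [H.x_pow, mul_assoc, ← pow_succ']
          congr 2
          ring

theorem mul_form (i j k i' j' k' : ℕ) : (s ^ i * a ^ j * x ^ k) * (s ^ i' * a ^ j' * x ^ k') =
    s ^ (i + 7 ^ j * (5 ^ k * i')) * a ^ (j + j') * x ^ (k + k') := by
  have h1 : x ^ k * a ^ j' = a ^ j' * x ^ k := ((show Commute x a from H.xa).pow_pow k j').eq
  calc (s ^ i * a ^ j * x ^ k) * (s ^ i' * a ^ j' * x ^ k')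
      = s ^ i * a ^ j * (x ^ k * s ^ i') * a ^ j' * x ^ k' := by group
    _ = s ^ i * (a ^ j * s ^ (5 ^ k * i')) * (x ^ k * a ^ j') * x ^ k' := by rw [H.xk_pow]; group
    _ = s ^ i * (s ^ (7 ^ j * (5 ^ k * i')) * a ^ j) * (a ^ j' * x ^ k) * x ^ k' := by rw [H.aj_pow, h1]
    _ = (s ^ i * s ^ (7 ^ j * (5 ^ k * i'))) * (a ^ j * a ^ j') * (x ^ k * x ^ k') := by group
    _ = _ := by rw [← pow_add, ← pow_add, ← pow_add]

theorem reduce (i j k : ℕ) : s ^ i * a ^ j * x ^ k = s ^ (i % 8) * a ^ (j % 2) * x ^ (k % 2) := by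
  have h1 : a ^ 2 = 1 := by rw [pow_two, H.aa]
  have h2 : x ^ 2 = 1 := by rw [pow_two, H.xx]
  rw [← pow_eq_pow_mod i H.s8, ← pow_eq_pow_mod j h1, ← pow_eq_pow_mod k h2]

end Hol

/-- a multiplicatively closed subset of a finite group is a subgroup -/
def ofMul [Finite G] (c : Set G) (h1 : (1 : G) ∈ c) (hm : ∀ p ∈ c, ∀ q ∈ c, p * q ∈ c) : Subgroup G where
  carrier := c
  one_mem' := h1
  mul_mem' := fun {p q} hp hq => hm p hp q hq
  inv_mem' := by
    intro g hg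
    obtain ⟨n, hn⟩ := exists_pow_eq_inv g
    show g⁻¹ ∈ c
    rw [← hn]
    induction n with
    | zero => rw [pow_zero]; exact h1
    | succ n _ =>
      have key : ∀ m : ℕ, g ^ m ∈ c := by
        intro m
        induction m with
        | zero => rw [pow_zero]; exact h1
        | succ m ih => rw [pow_succ]; exact hm _ ih _ hg
      exact key _

namespace Hol

variable {x a s : G}

/-- `⟨s, a, x⟩` -/
def NN [Finite G] (H : Hol x a s) : Subgroup G :=
  ofMul {g | ∃ i j k : ℕ, g = s ^ i * a ^ j * x ^ k} ⟨0, 0, 0, by simp⟩ (by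
    rintro _ ⟨i, j, k, rfl⟩ _ ⟨i', j', k', rfl⟩
    exact ⟨_, _, _, H.mul_form i j k i' j' k'⟩)

theorem mem_NN [Finite G] (H : Hol x a s) {g : G} : g ∈ H.NN ↔ ∃ i j k : ℕ, g = s ^ i * a ^ j * x ^ k := Iff.rfl

/-- the subgroup `⟨s², a, sx⟩` -/
def MM [Finite G] (H : Hol x a s) : Subgroup G :=
  ofMul {g | ∃ i j k : ℕ, (i + k) % 2 = 0 ∧ g = s ^ i * a ^ j * x ^ k} ⟨0, 0, 0, by simp⟩ (by
    rintro _ ⟨i, j, k, h1, rfl⟩ _ ⟨i', j', k', h2, rfl⟩
    refine ⟨_, _, _, ?_, H.mul_form i j k i' j' k'⟩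
    have h3 : (7 ^ j * (5 ^ k * i')) % 2 = i' % 2 := by
      simp [Nat.mul_mod, Nat.pow_mod]
    omega)

theorem mem_MM [Finite G] (H : Hol x a s) {g : G} :
    g ∈ H.MM ↔ ∃ i j k : ℕ, (i + k) % 2 = 0 ∧ g = s ^ i * a ^ j * x ^ k := Iff.rfl

theorem MM_le [Finite G] (H : Hol x a s) : H.MM ≤ H.NN := by
  rintro _ ⟨i, j, k, -, rfl⟩
  exact ⟨i, j, k, rfl⟩

theorem s_mem [Finite G] (H : Hol x a s) : s ∈ H.NN := ⟨1, 0, 0, by simp⟩
theorem a_mem [Finite G] (H : Hol x a s) : a ∈ H.NN := ⟨0, 1, 0, by simp⟩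
theorem x_mem [Finite G] (H : Hol x a s) : x ∈ H.NN := ⟨0, 0, 1, by simp⟩

/-- the parametrisation -/
def par [Finite G] (H : Hol x a s) (t : Fin 8 × Fin 2 × Fin 2) : H.NN :=
  ⟨s ^ (t.1 : ℕ) * a ^ (t.2.1 : ℕ) * x ^ (t.2.2 : ℕ), ⟨_, _, _, rfl⟩⟩

theorem par_surj [Finite G] (H : Hol x a s) : Function.Surjective H.par := by
  rintro ⟨_, ⟨i, j, k, rfl⟩⟩
  refine ⟨(⟨i % 8, Nat.mod_lt _ (by norm_num)⟩, ⟨j % 2, Nat.mod_lt _ (by norm_num)⟩,
    ⟨k % 2, Nat.mod_lt _ (by norm_num)⟩), Subtype.ext ?_⟩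
  exact (H.reduce i j k).symm

theorem card_le [Finite G] (H : Hol x a s) : Nat.card H.NN ≤ 32 := by
  have h1 := Nat.card_le_card_of_surjective _ H.par_surj
  simpa using h1

theorem par_inj [Finite G] (H : Hol x a s) (hc : Nat.card H.NN = 32) : Function.Injective H.par :=
  (H.par_surj.bijective_of_nat_card_le (by rw [hc]; simp)).1

theorem uniq [Finite G] (H : Hol x a s) (hc : Nat.card H.NN = 32) {i j k i' j' k' : ℕ}
    (h : s ^ i * a ^ j * x ^ k = s ^ i' * a ^ j' * x ^ k') : i % 8 = i' % 8 ∧ j % 2 = j' % 2 ∧ k % 2 = k' % 2 := by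
  rw [H.reduce i j k, H.reduce i' j' k'] at h
  have h1 := H.par_inj hc (a₁ := (⟨i % 8, Nat.mod_lt _ (by norm_num)⟩, ⟨j % 2, Nat.mod_lt _ (by norm_num)⟩,
    ⟨k % 2, Nat.mod_lt _ (by norm_num)⟩)) (a₂ := (⟨i' % 8, Nat.mod_lt _ (by norm_num)⟩,
    ⟨j' % 2, Nat.mod_lt _ (by norm_num)⟩, ⟨k' % 2, Nat.mod_lt _ (by norm_num)⟩)) (Subtype.ext h)
  simp only [Prod.mk.injEq, Fin.mk.injEq] at h1
  exact h1

theorem s_pow_eq_one [Finite G] (H : Hol x a s) (hc : Nat.card H.NN = 32) {n : ℕ} (h : s ^ n = 1) :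
    n % 8 = 0 := by
  have h1 : s ^ n * a ^ 0 * x ^ 0 = s ^ 0 * a ^ 0 * x ^ 0 := by simpa using h
  simpa using (H.uniq hc h1).1

theorem x_notMem [Finite G] (H : Hol x a s) (hc : Nat.card H.NN = 32) : x ∉ H.MM := by
  rintro ⟨i, j, k, h1, h2⟩
  have h3 : s ^ 0 * a ^ 0 * x ^ 1 = s ^ i * a ^ j * x ^ k := by simpa using h2
  obtain ⟨h4, -, h5⟩ := H.uniq hc h3
  omega

theorem relIndex_eq [Finite G] (H : Hol x a s) (hc : Nat.card H.NN = 32) : H.MM.relIndex H.NN = 2 := by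
  rw [Subgroup.relIndex, Subgroup.index_eq_two_iff]
  refine ⟨⟨x, H.x_mem⟩, ?_⟩
  rintro ⟨_, ⟨i, j, k, rfl⟩⟩
  have hx := H.x_notMem hc
  simp only [Subgroup.mem_subgroupOf, Subgroup.coe_mul]
  have h0 : s ^ i * a ^ j * x ^ k * x = s ^ i * a ^ j * x ^ (k + 1) := by rw [pow_succ]; group
  by_cases hp : (i + k) % 2 = 0
  · right
    refine ⟨⟨i, j, k, hp, rfl⟩, fun h1 => hx ?_⟩
    have h2 := H.MM.mul_mem (H.MM.inv_mem (show s ^ i * a ^ j * x ^ k ∈ H.MM from ⟨i, j, k, hp, rfl⟩)) h1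
    rwa [inv_mul_cancel_left] at h2
  · left
    have h1 : s ^ i * a ^ j * x ^ k * x ∈ H.MM := ⟨i, j, k + 1, by omega, h0⟩
    refine ⟨h1, fun h2 => hx ?_⟩
    have h3 := H.MM.mul_mem (H.MM.inv_mem h2) h1
    rwa [inv_mul_cancel_left] at h3

/-- squares -/
theorem sq_form [Finite G] (H : Hol x a s) (hc : Nat.card H.NN = 32) {i j k : ℕ}
    (h : (s ^ i * a ^ j * x ^ k) * (s ^ i * a ^ j * x ^ k) = 1) : (i + 7 ^ j * (5 ^ k * i)) % 8 = 0 := by
  rw [H.mul_form] at h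
  have h1 : s ^ (i + 7 ^ j * (5 ^ k * i)) * a ^ (j + j) * x ^ (k + k) = s ^ 0 * a ^ 0 * x ^ 0 := by
    simpa using h
  simpa using (H.uniq hc h1).1

theorem conj_a (H : Hol x a s) (m : ℕ) : s ^ m * a * (s ^ m)⁻¹ = s ^ (2 * m) * a := by
  rw [mul_inv_eq_iff_eq_mul]
  have h1 := H.a_pow m
  calc s ^ m * a = s ^ m * (s ^ 8) ^ m * a := by rw [H.s8, one_pow, mul_one]
    _ = s ^ (2 * m) * (s ^ (7 * m) * a) := by
        rw [← mul_assoc, ← pow_mul, ← pow_add, ← pow_add]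
        congr 2
        ring
    _ = s ^ (2 * m) * a * s ^ m := by rw [← h1, mul_assoc]

/-- The involutions of `M`. -/
theorem invol_MM [Finite G] (H : Hol x a s) (hc : Nat.card H.NN = 32) {g : G} (hg : g ∈ H.MM)
    (h2 : g * g = 1) : g = 1 ∨ g = s ^ 4 ∨ ∃ m : ℕ, g = s ^ m * a * (s ^ m)⁻¹ := by
  obtain ⟨i, j, k, h1, rfl⟩ := hg
  rw [H.reduce] at h2 ⊢
  have h3 := H.sq_form hc h2
  have hi : i % 8 < 8 := Nat.mod_lt _ (by norm_num)
  have hj : j % 2 < 2 := Nat.mod_lt _ (by norm_num)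
  have hk : k % 2 < 2 := Nat.mod_lt _ (by norm_num)
  have h1' : (i % 8 + k % 2) % 2 = 0 := by omega
  generalize i % 8 = i' at *
  generalize j % 2 = j' at *
  generalize k % 2 = k' at *
  have key : (j' = 0 ∧ k' = 0 ∧ (i' = 0 ∨ i' = 4)) ∨ (j' = 1 ∧ k' = 0 ∧ i' = 2 * (i' / 2)) := by
    have hj' : j' = 0 ∨ j' = 1 := by omega
    have hk' : k' = 0 ∨ k' = 1 := by omega
    rcases hj' with rfl | rfl <;> rcases hk' with rfl | rfl <;> norm_num at h3 ⊢ <;> omega
  rcases key with ⟨rfl, rfl, rfl | rfl⟩ | ⟨rfl, rfl, h4⟩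
  · left; simp
  · right; left; simp
  · right; right
    refine ⟨i' / 2, ?_⟩
    rw [H.conj_a, ← h4]; simp

/-- the conjugates of `x` in `N` -/
theorem conj_x [Finite G] (H : Hol x a s) {n : G} (hn : n ∈ H.NN) :
    n * x * n⁻¹ = x ∨ n * x * n⁻¹ = s ^ 4 * x := by
  obtain ⟨i, j, k, rfl⟩ := hn
  have h0 : s ^ i * a ^ j * x ^ k * x = s ^ i * x * (a ^ j * x ^ k) := by
    have h1 : a ^ j * x = x * a ^ j := ((show Commute x a from H.xa).symm.pow_left j).eq
    calc s ^ i * a ^ j * x ^ k * x = s ^ i * a ^ j * (x ^ k * x) := by group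
      _ = s ^ i * (a ^ j * x) * x ^ k := by rw [← pow_succ, pow_succ']; group
      _ = s ^ i * x * (a ^ j * x ^ k) := by rw [h1]; group
  rw [mul_inv_eq_iff_eq_mul, mul_inv_eq_iff_eq_mul, h0]
  have h2 : s ^ i * x = x * s ^ (5 * i) := by
    rw [H.x_pow]
    congr 1
    rw [show 5 * (5 * i) = i + 8 * (3 * i) by ring, pow_add, pow_mul s 8, H.s8, one_pow, mul_one]
  have h3 : x * s ^ 4 = s ^ 4 * x := by
    rw [H.x_pow]
    congr 1
    rw [show 5 * 4 = 4 + 8 * 2 by norm_num, pow_add, pow_mul s 8, H.s8, one_pow, mul_one]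
  rcases Nat.even_or_odd' i with ⟨m, rfl | rfl⟩
  · left
    rw [h2]
    have h4 : s ^ (5 * (2 * m)) = s ^ (2 * m) := by
      rw [show 5 * (2 * m) = 2 * m + 8 * m by ring, pow_add, pow_mul s 8, H.s8, one_pow, mul_one]
    rw [h4]; group
  · right
    rw [h2]
    have h4 : s ^ (5 * (2 * m + 1)) = s ^ 4 * s ^ (2 * m + 1) := by
      rw [← pow_add, show 5 * (2 * m + 1) = 4 + (2 * m + 1) + 8 * m by ring, pow_add _ _ (8 * m),
        pow_mul s 8, H.s8, one_pow, mul_one]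
    rw [h4, ← mul_assoc x, h3]; group

theorem s_conj_x (H : Hol x a s) : s * x * s⁻¹ = s ^ 4 * x := by
  rw [mul_inv_eq_iff_eq_mul, mul_assoc, H.xs, ← mul_assoc, ← pow_add]
  rw [show 4 + 5 = 8 + 1 by norm_num, pow_add, H.s8, one_mul, pow_one]

theorem exists_mem_normalizer [Finite G] {T P : Subgroup G} (hP : IsPGroup 2 P) (hle : T ≤ P)
    (hne : T ≠ P) : ∃ y ∈ P, y ∉ T ∧ ∀ g ∈ T, y * g * y⁻¹ ∈ T := by
  have : Fact (Nat.Prime 2) := ⟨Nat.prime_two⟩
  have hnil : Group.IsNilpotent P := hP.isNilpotent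
  have hlt : T.subgroupOf P < ⊤ := by
    rw [lt_top_iff_ne_top]
    intro h
    exact hne (le_antisymm hle (Subgroup.subgroupOf_eq_top.1 h))
  have h1 := Group.normalizerCondition_of_isNilpotent (T.subgroupOf P) hlt
  obtain ⟨y, hy, hyT⟩ := Set.exists_of_ssubset h1
  refine ⟨y, y.2, fun h => hyT h, fun g hg => ?_⟩
  exact (Subgroup.mem_normalizer_iff.1 hy ⟨g, hle hg⟩).1 hg

theorem conj_inv_mem [Finite G] {T : Subgroup G} {g : G} (hg : ∀ t ∈ T, g * t * g⁻¹ ∈ T) :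
    ∀ t ∈ T, g⁻¹ * t * g ∈ T := by
  obtain ⟨n, hn⟩ := exists_pow_eq_inv g
  have key : ∀ m : ℕ, ∀ t ∈ T, g ^ m * t * (g ^ m)⁻¹ ∈ T := by
    intro m
    induction m with
    | zero => intro t ht; simpa using ht
    | succ m ih =>
      intro t ht
      have h1 : g ^ (m + 1) * t * (g ^ (m + 1))⁻¹ = g * (g ^ m * t * (g ^ m)⁻¹) * g⁻¹ := by
        rw [pow_succ']; group
      rw [h1]
      exact hg _ (ih t ht)
  intro t ht
  have h1 := key n t ht
  rwa [hn, inv_inv] at h1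

theorem comm_of_index_two [IsSimpleGroup G] [Finite G] (hG : ¬ ∀ p q : G, p * q = q * p) (M : Subgroup G)
    (hM : M.Normal) (h2 : M.index = 2) : False := by
  rcases hM.eq_bot_or_eq_top with rfl | rfl
  · rw [Subgroup.index_bot] at h2
    apply hG
    have : Fact (Nat.Prime 2) := ⟨Nat.prime_two⟩
    have h3 : IsCyclic G := isCyclic_of_prime_card h2
    intro p q
    exact (IsCyclic.commGroup (α := G)).mul_comm p q
  · rw [Subgroup.index_top] at h2
    omega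

/-- Main theorem on `Hol(Z8)`. -/
theorem false_of [Finite G] [IsSimpleGroup G] (hG : ¬ ∀ p q : G, p * q = q * p) (H : Hol x a s)
    (hc : Nat.card H.NN = 32) (S : Sylow 2 G) (hNS : H.NN ≤ (S : Subgroup G))
    (hC : ∀ g ∈ (S : Subgroup G), g * x = x * g → g ∈ H.NN) (hxa : ∀ g : G, g * x * g⁻¹ ≠ a)
    (hxz : ∀ g : G, g * x * g⁻¹ ≠ s ^ 4) : False := by
  have hx1 : x ≠ 1 := fun h1 => H.x_notMem hc (by
    have h2 := H.MM.one_mem
    exact h1 ▸ h2)
  have hs4 : ∀ n : ℕ, s ^ n = 1 → n % 8 = 0 := fun n => H.s_pow_eq_one hc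
  -- `N = S`
  have hNS' : H.NN = (S : Subgroup G) := by
    by_contra hne
    obtain ⟨g, hg, hgN, hgn⟩ := exists_mem_normalizer S.isPGroup' hNS hne
    have hgi := conj_inv_mem hgn
    obtain ⟨y, hy⟩ : ∃ y, y = g * x * g⁻¹ := ⟨_, rfl⟩
    have hyN : y ∈ H.NN := by rw [hy]; exact hgn x H.x_mem
    have hyy : y * y = 1 := by
      rw [hy]
      calc g * x * g⁻¹ * (g * x * g⁻¹) = g * (x * x) * g⁻¹ := by group
        _ = 1 := by rw [H.xx]; group
    have hcl : ∀ n ∈ H.NN, n * y * n⁻¹ = y ∨ n * y * n⁻¹ = g * s ^ 4 * g⁻¹ * y := by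
      intro n hn
      have h0 : n * y * n⁻¹ = g * ((g⁻¹ * n * g) * x * (g⁻¹ * n * g)⁻¹) * g⁻¹ := by rw [hy]; group
      rcases H.conj_x (hgi n hn) with h1 | h1
      · left; rw [h0, h1, hy]
      · right; rw [h0, h1, hy]; group
    have hy1 : y ≠ 1 := by
      intro h1
      apply hx1
      have h2 : x = g⁻¹ * y * g := by rw [hy]; group
      rw [h2, h1]; group
    obtain ⟨i, j, k, hyf⟩ := hyN
    rw [H.reduce] at hyf
    have h3 : (i % 8 + 7 ^ (j % 2) * (5 ^ (k % 2) * (i % 8))) % 8 = 0 := by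
      apply H.sq_form hc
      rw [← hyf]; exact hyy
    have hi : i % 8 < 8 := Nat.mod_lt _ (by norm_num)
    have hj : j % 2 = 0 ∨ j % 2 = 1 := Nat.mod_two_eq_zero_or_one j
    have hk : k % 2 = 0 ∨ k % 2 = 1 := Nat.mod_two_eq_zero_or_one k
    generalize i % 8 = i' at *
    rcases hj with hj | hj
    · rw [hj] at h3 hyf
      rcases hk with hk | hk
      · rw [hk] at h3 hyf
        norm_num at h3
        have h4 : i' = 0 ∨ i' = 4 := by omega
        rcases h4 with rfl | rfl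
        · exact hy1 (by rw [hyf]; simp)
        · exact hxz g (by rw [← hy, hyf]; simp)
      · rw [hk] at h3 hyf
        norm_num at h3
        have h4 : i' = 0 ∨ i' = 4 := by omega
        rcases h4 with rfl | rfl
        · apply hgN
          apply hC g hg
          have h5 : g * x * g⁻¹ = x := by rw [← hy, hyf]; simp
          rwa [mul_inv_eq_iff_eq_mul] at h5
        · apply hgN
          have h5 : g * x * g⁻¹ = s ^ 4 * x := by rw [← hy, hyf]; simp
          have h6 : (s⁻¹ * g) * x * (s⁻¹ * g)⁻¹ = x := by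
            calc (s⁻¹ * g) * x * (s⁻¹ * g)⁻¹ = s⁻¹ * (g * x * g⁻¹) * s := by group
              _ = s⁻¹ * (s * x * s⁻¹) * s := by rw [h5, H.s_conj_x]
              _ = x := by group
          rw [mul_inv_eq_iff_eq_mul] at h6
          have h7 := hC (s⁻¹ * g) ((S : Subgroup G).mul_mem ((S : Subgroup G).inv_mem (hNS H.s_mem)) hg) h6
          have h8 := H.NN.mul_mem H.s_mem h7
          rwa [mul_inv_cancel_left] at h8
    · rw [hj] at hyf
      have hys : y * s ^ 2 = s ^ 6 * y := by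
        have h5 : y * s ^ 2 = s ^ (i' + 7 ^ 1 * (5 ^ (k % 2) * 2)) * a ^ (1 + 0) * x ^ (k % 2 + 0) := by
          rw [← H.mul_form, ← hyf]; simp
        have h6 : s ^ (i' + 7 ^ 1 * (5 ^ (k % 2) * 2)) = s ^ 6 * s ^ i' := by
          rw [← pow_add]
          rcases hk with hk | hk
          · rw [hk, show i' + 7 ^ 1 * (5 ^ 0 * 2) = 6 + i' + 8 * 1 by ring, pow_add _ _ (8 * 1), pow_mul s 8,
              H.s8, one_pow, mul_one]
          · rw [hk, show i' + 7 ^ 1 * (5 ^ 1 * 2) = 6 + i' + 8 * 8 by ring, pow_add _ _ (8 * 8), pow_mul s 8,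
              H.s8, one_pow, mul_one]
        rw [h5, h6, hyf]
        simp only [add_zero]
        group
      have hcomm : s ^ 2 * y ≠ y * s ^ 2 := by
        intro h5
        rw [hys] at h5
        have h6 : s ^ 2 = s ^ 6 := mul_right_cancel h5
        have h7 : s ^ 4 = 1 := by
          have h8 : s ^ 2 * s ^ 4 = s ^ 2 * 1 := by rw [← pow_add, mul_one]; exact h6.symm
          exact mul_left_cancel h8
        have := hs4 4 h7
        omega
      have hc1 : s * y * s⁻¹ ≠ y := by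
        intro h5
        rw [mul_inv_eq_iff_eq_mul] at h5
        apply hcomm
        calc s ^ 2 * y = s * (s * y) := by rw [pow_two, mul_assoc]
          _ = y * s ^ 2 := by rw [h5, ← mul_assoc, h5, mul_assoc, pow_two]
      have hc2 : s ^ 2 * y * (s ^ 2)⁻¹ ≠ y := by
        intro h5
        rw [mul_inv_eq_iff_eq_mul] at h5
        exact hcomm h5
      rcases hcl s H.s_mem with h5 | h5
      · exact hc1 h5
      rcases hcl (s ^ 2) (H.NN.pow_mem H.s_mem 2) with h6 | h6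
      · exact hc2 h6
      · apply hc1
        rw [← h5] at h6
        have h7 : s * (s * y * s⁻¹) * s⁻¹ = s * y * s⁻¹ := by
          calc s * (s * y * s⁻¹) * s⁻¹ = s ^ 2 * y * (s ^ 2)⁻¹ := by rw [pow_two]; group
            _ = s * y * s⁻¹ := h6
        exact mul_left_cancel (mul_right_cancel h7)
  -- transfer
  rcases Cfsg.Agent.Transfer.ThompsonTransfer.thompson_transfer S H.MM (H.MM_le.trans hNS) (by
      rw [← hNS']; exact H.relIndex_eq hc) x (by rw [pow_two]; exact H.xx) with ⟨L, hLn, hL, -⟩ | ⟨g, hg⟩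
  · exact comm_of_index_two hG L hLn hL
  · have hyy : g * x * g⁻¹ * (g * x * g⁻¹) = 1 := by
      calc g * x * g⁻¹ * (g * x * g⁻¹) = g * (x * x) * g⁻¹ := by group
        _ = 1 := by rw [H.xx]; group
    rcases H.invol_MM hc hg hyy with h1 | h1 | ⟨m, h1⟩
    · apply hx1
      have h2 : x = g⁻¹ * (g * x * g⁻¹) * g := by group
      rw [h2, h1]; group
    · exact hxz g h1
    · apply hxa ((s ^ m)⁻¹ * g)
      calc (s ^ m)⁻¹ * g * x * ((s ^ m)⁻¹ * g)⁻¹ = (s ^ m)⁻¹ * (g * x * g⁻¹) * s ^ m := by group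
        _ = a := by rw [h1]; group

end Hol

end Cfsg.Agent.GH.N2.HolEight
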