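import Cfsg.Agent.GH.PcTypes
import Cfsg.Agent.GH.QB.ModelG2

/-!
# GH-L2, `|Q| = 2`: recognition of the Sylow 2-subgroup of `G₂(3)`
-/

set_option autoImplicit false

open Subgroup

namespace Cfsg.Agent.GH.N2.MG2

open Cfsg.Agent.GH Cfsg.Agent.GH.Pc Cfsg.Agent.GH.PcTypes Cfsg.Agent.ClassificationK.GTwoModel

/-! ### the model -/

theorem tg2 : SylowG2.Coord.TG2 (⊤ : Subgroup (T (2 ^ 2))) 2 (fun i j => ⟨i, j, false, false⟩)
    ⟨0, 0, false, true⟩ ⟨0, 0, true, false⟩ where
  hm := le_rfl
  v_mem _ _ := mem_top _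
  r_mem := mem_top _
  s_mem := mem_top _
  v_zero := rfl
  v_mul i j k l := by
    rw [T.mul_mk]
    simp
  v_inj i j h := by
    rw [T.one_def, T.mk.injEq] at h
    exact ⟨h.1, h.2.1⟩
  r_v i j := by
    rw [T.mul_mk, T.mul_mk]
    simp
  s_v i j := by
    rw [T.mul_mk, T.mul_mk]
    simp
  r_r := by
    rw [T.mul_mk]
    simp [T.one_def]
  s_s := by
    rw [T.mul_mk]
    simp [T.one_def]
  r_s := by
    rw [T.mul_mk, T.mul_mk]
    simp
  cases := by
    rintro ⟨i, j, e, d⟩ -
    refine ⟨i, j, ?_⟩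
    cases e <;> cases d
    · exact Or.inl rfl
    · refine Or.inr (Or.inl ?_)
      rw [T.mul_mk]
      simp
    · refine Or.inr (Or.inr (Or.inl ?_))
      rw [T.mul_mk]
      simp
    · refine Or.inr (Or.inr (Or.inr ?_))
      rw [T.mul_mk, T.mul_mk]
      simp

theorem typeG2_T : Defs.TypeG2 (T (2 ^ 2)) := (QB.typeG2_of_TG2 tg2).congr topEquiv

/-- The generators of the model. -/
def y : Fin 6 → T (2 ^ 2) :=
  ![⟨0, 0, false, true⟩, ⟨0, 0, true, false⟩, ⟨1, 0, false, false⟩, ⟨0, 1, false, false⟩,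
    ⟨2, 0, false, false⟩, ⟨0, 2, false, false⟩]

theorem sat_y : Sat G23 y where
  sq i := by fin_cases i <;> rfl
  cj i j hij := by
    fin_cases i <;> fin_cases j <;> first | exact absurd hij (by decide) | rfl

theorem closure_y : closure (Set.range y) = (⊤ : Subgroup (T (2 ^ 2))) := by
  rw [eq_top_iff]
  have h2 : (⟨1, 0, false, false⟩ : T (2 ^ 2)) ∈ closure (Set.range y) := subset_closure ⟨2, rfl⟩
  have h3 : (⟨0, 1, false, false⟩ : T (2 ^ 2)) ∈ closure (Set.range y) := subset_closure ⟨3, rfl⟩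
  have h0 : (⟨0, 0, false, true⟩ : T (2 ^ 2)) ∈ closure (Set.range y) := subset_closure ⟨0, rfl⟩
  have h1 : (⟨0, 0, true, false⟩ : T (2 ^ 2)) ∈ closure (Set.range y) := subset_closure ⟨1, rfl⟩
  have hi : ∀ n : ℕ, (⟨(n : ZMod (2 ^ 2)), 0, false, false⟩ : T (2 ^ 2)) ∈ closure (Set.range y) := by
    intro n
    induction n with
    | zero => rw [Nat.cast_zero]; exact one_mem _
    | succ n ih =>
      have := mul_mem ih h2
      rw [T.mul_mk] at this
      simpa using this
  have hj : ∀ n : ℕ, (⟨0, (n : ZMod (2 ^ 2)), false, false⟩ : T (2 ^ 2)) ∈ closure (Set.range y) := by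
    intro n
    induction n with
    | zero => rw [Nat.cast_zero]; exact one_mem _
    | succ n ih =>
      have := mul_mem ih h3
      rw [T.mul_mk] at this
      simpa using this
  have hij : ∀ i j : ZMod (2 ^ 2), (⟨i, j, false, false⟩ : T (2 ^ 2)) ∈ closure (Set.range y) := by
    intro i j
    have := mul_mem (hi i.val) (hj j.val)
    rw [T.mul_mk, ZMod.natCast_zmod_val, ZMod.natCast_zmod_val] at this
    simpa using this
  rintro ⟨i, j, e, d⟩ -
  obtain ⟨i', j', h | h | h | h⟩ := tg2.cases ⟨i, j, e, d⟩ (mem_top _)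
  · rw [h]; exact hij _ _
  · rw [h]; exact mul_mem (hij _ _) h0
  · rw [h]; exact mul_mem (hij _ _) h1
  · rw [h]; exact mul_mem (hij _ _) (mul_mem h0 h1)

theorem isType_T : IsType G23 (T (2 ^ 2)) := ⟨by rw [T.card_T]; norm_num, y, sat_y, closure_y⟩

/-- `G23` is of type `G₂(3)`. -/
theorem typeG2 {S : Type*} [Group S] (h : IsType G23 S) : Defs.TypeG2 S := by
  obtain ⟨e⟩ := isType_T.nonempty_equiv G23_ok h
  exact typeG2_T.congr e

section

variable {S : Type*} [Group S] {a b x t : S}

theorem sat (hab : a * b = b * a) (ha : a ^ 4 = 1) (hb : b ^ 4 = 1) (hx : x * x = 1) (ht : t * t = 1)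
    (hxt : x * t = t * x) (hxa : x * a * x⁻¹ = a⁻¹) (hxb : x * b * x⁻¹ = b⁻¹)
    (hta : t * a * t⁻¹ = b) : Sat G23 ![t, x, a, b, a * a, b * b] := by
  have ha' : a * a * (a * a) = 1 := by rw [← ha]; simp only [pow_succ, pow_zero, one_mul, mul_assoc]
  have hb' : b * b * (b * b) = 1 := by rw [← hb]; simp only [pow_succ, pow_zero, one_mul, mul_assoc]
  have hai : a⁻¹ = a * (a * a) := inv_eq_of_mul_eq_one_left (by rw [← ha']; group)
  have hbi : b⁻¹ = b * (b * b) := inv_eq_of_mul_eq_one_left (by rw [← hb']; group)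
  have hxa1 : x * a = a * (a * a) * x := by rw [← hai, ← hxa]; group
  have hxb1 : x * b = b * (b * b) * x := by rw [← hbi, ← hxb]; group
  have hta1 : t * a = b * t := by rw [← hta]; group
  have htb1 : t * b = a * t := by
    calc t * b = t * (b * t) * t⁻¹ := by group
      _ = t * (t * a) * t⁻¹ := by rw [hta1]
      _ = t * t * (a * t⁻¹) := by group
      _ = a * t := by rw [ht, one_mul, inv_eq_of_mul_eq_one_left ht]
  have cab : Commute a b := hab
  constructor
  · intro i
    fin_cases i
    · exact ht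
    · exact hx
    · simp [word, G23]
    · simp [word, G23]
    · simpa [word, G23] using ha'
    · simpa [word, G23] using hb'
  · intro i j hij
    fin_cases i <;> fin_cases j <;> first | exact absurd hij (by decide) | skip
    · simpa [word, G23, cjOf] using hxt.symm
    · simpa [word, G23, cjOf] using hta1
    · simpa [word, G23, cjOf] using htb1
    · have : t * (a * a) = b * b * t := by rw [← mul_assoc, hta1, mul_assoc, hta1, mul_assoc]
      simpa [word, G23, cjOf] using this
    · have : t * (b * b) = a * a * t := by rw [← mul_assoc, htb1, mul_assoc, htb1, mul_assoc]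
      simpa [word, G23, cjOf] using this
    · simpa [word, G23, cjOf] using hxa1
    · simpa [word, G23, cjOf] using hxb1
    · have : x * (a * a) = a * a * x := by
        rw [← mul_assoc, hxa1, mul_assoc, hxa1]
        calc a * (a * a) * (a * (a * a) * x) = a * a * (a * a) * (a * a * x) := by group
          _ = _ := by rw [ha', one_mul]
      simpa [word, G23, cjOf] using this
    · have : x * (b * b) = b * b * x := by
        rw [← mul_assoc, hxb1, mul_assoc, hxb1]
        calc b * (b * b) * (b * (b * b) * x) = b * b * (b * b) * (b * b * x) := by group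
          _ = _ := by rw [hb', one_mul]
      simpa [word, G23, cjOf] using this
    · simpa [word, G23, cjOf] using hab
    · simp [word, G23, cjOf, mul_assoc]
    · simpa [word, G23, cjOf] using (cab.mul_right cab).eq
    · simpa [word, G23, cjOf] using (cab.symm.mul_right cab.symm).eq
    · simp [word, G23, cjOf, mul_assoc]
    · simpa [word, G23, cjOf] using ((cab.mul_right cab).mul_left (cab.mul_right cab)).eq

theorem typeG2_of (hc : Nat.card S = 64) (hcl : closure {a, b, x, t} = (⊤ : Subgroup S))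
    (hab : a * b = b * a) (ha : a ^ 4 = 1) (hb : b ^ 4 = 1) (hx : x * x = 1) (ht : t * t = 1)
    (hxt : x * t = t * x) (hxa : x * a * x⁻¹ = a⁻¹) (hxb : x * b * x⁻¹ = b⁻¹)
    (hta : t * a * t⁻¹ = b) : Defs.TypeG2 S := by
  refine typeG2 ⟨by rw [hc]; norm_num, _, sat hab ha hb hx ht hxt hxa hxb hta, ?_⟩
  rw [eq_top_iff, ← hcl, closure_le]
  rintro g (rfl | rfl | rfl | rfl)
  · exact subset_closure ⟨2, rfl⟩
  · exact subset_closure ⟨3, rfl⟩
  · exact subset_closure ⟨1, rfl⟩
  · exact subset_closure ⟨0, rfl⟩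

end

end Cfsg.Agent.GH.N2.MG2
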