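import Cfsg.Agent.GH.Models.PSp43

/-!
# GH-L2, `|Q| = 2`: recognition of the regular wreath product `2 wr V₄` (type `PSp₄(3)`)
-/

set_option autoImplicit false

open Subgroup

namespace Cfsg.Agent.GH.N2.MSp4

open Cfsg.Agent.GH Cfsg.Agent.GH.Pc Cfsg.Agent.GH.PcTypes

variable {S : Type*} [Group S] {b x t : S}

/-- The six generators. -/
def gens (b x t : S) : Fin 6 → S :=
  ![x, t, b, x * b * x⁻¹, t * b * t⁻¹, x * t * b * (x * t)⁻¹]

theorem sat (hb : b * b = 1) (hx : x * x = 1) (ht : t * t = 1) (hxt : x * t = t * x)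
    (h1 : b * (x * b * x⁻¹) = x * b * x⁻¹ * b) (h2 : b * (t * b * t⁻¹) = t * b * t⁻¹ * b)
    (h3 : b * (x * t * b * (x * t)⁻¹) = x * t * b * (x * t)⁻¹ * b) : Sat W24 (gens b x t) := by
  have hxi : x⁻¹ = x := inv_eq_of_mul_eq_one_left hx
  have hti : t⁻¹ = t := inv_eq_of_mul_eq_one_left ht
  have hxxc : ∀ g : S, x * (x * g) = g := fun g => by rw [← mul_assoc, hx, one_mul]
  have httc : ∀ g : S, t * (t * g) = g := fun g => by rw [← mul_assoc, ht, one_mul]
  have hbbc : ∀ g : S, b * (b * g) = g := fun g => by rw [← mul_assoc, hb, one_mul]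
  have hxtc : ∀ g : S, t * (x * g) = x * (t * g) := fun g => by
    rw [← mul_assoc, ← hxt, mul_assoc]
  rw [hxi] at h1
  rw [hti] at h2
  rw [mul_inv_rev, hxi, hti] at h3
  simp only [mul_assoc] at h1 h2 h3
  have h1c : ∀ g : S, b * (x * (b * (x * g))) = x * (b * (x * (b * g))) := fun g => by
    have := congrArg (· * g) h1
    simpa only [mul_assoc] using this
  have h2c : ∀ g : S, b * (t * (b * (t * g))) = t * (b * (t * (b * g))) := fun g => by
    have := congrArg (· * g) h2
    simpa only [mul_assoc] using this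
  have h3c : ∀ g : S, b * (x * (t * (b * (t * (x * g))))) = x * (t * (b * (t * (x * (b * g))))) :=
    fun g => by
      have := congrArg (· * g) h3
      simpa only [mul_assoc] using this
  constructor
  · intro i
    fin_cases i <;> simp [gens, W24, word, mul_assoc, hx, ht, hb, hxi, hti, hxxc, httc, hbbc]
  · intro i j hij
    fin_cases i <;> fin_cases j <;> first | exact absurd hij (by decide) | skip
    all_goals simp [gens, W24, cjOf, word, mul_assoc, hxi, hti, hxxc, httc]
    · exact hxt
    · exact hx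
    · exact hx
    · exact ht
    · simp only [hxtc, ht, mul_one]
    · simp only [hxtc, httc, ← hxt]
    · exact h1
    · exact h2
    · exact h3
    · have := congrArg (fun g => x * (g * x)) h3
      simpa only [mul_assoc, hxxc, hx, mul_one] using this
    · exact h2c x
    · have := congrArg (fun g => t * (g * t)) h1
      simp only [mul_assoc, hxtc, httc, ← hxt] at this ⊢
      exact this

theorem typeSp4_of (hc : Nat.card S = 64) (hcl : closure {b, x, t} = (⊤ : Subgroup S))
    (hb : b * b = 1) (hx : x * x = 1) (ht : t * t = 1) (hxt : x * t = t * x)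
    (h1 : b * (x * b * x⁻¹) = x * b * x⁻¹ * b) (h2 : b * (t * b * t⁻¹) = t * b * t⁻¹ * b)
    (h3 : b * ((x * t) * b * (x * t)⁻¹) = (x * t) * b * (x * t)⁻¹ * b) : Defs.TypeSp4 S := by
  refine Models.PSp43.typeSp4 ⟨by rw [hc]; norm_num, gens b x t, sat hb hx ht hxt h1 h2 h3, ?_⟩
  rw [eq_top_iff, ← hcl, closure_le]
  rintro g (rfl | rfl | rfl)
  · exact subset_closure ⟨2, rfl⟩
  · exact subset_closure ⟨0, rfl⟩
  · exact subset_closure ⟨1, rfl⟩

end Cfsg.Agent.GH.N2.MSp4
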