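import Cfsg.Agent.GH.QB.ModelG2
import Cfsg.Agent.GH.Pc
import Mathlib.Data.Fintype.EquivFin

/-!
# GH-L2, `|Q| = 2` (bb GH #8533): `(Z₄ × Z₄)` extended by a swap and the inversion is of type `G₂(q)`
-/

set_option autoImplicit false

namespace Cfsg.Agent.GH.N2.ModelG2

open Subgroup Cfsg.Agent.GH Cfsg.Agent.GH.Pc Cfsg.Agent.SylowG2.Coord

variable {S : Type*} [Group S]

/-- the coordinates -/
def vv (a b : S) (i j : ZMod (2 ^ 2)) : S := a ^ i.val * b ^ j.val

theorem pow_val_add {a : S} (ha : a ^ 4 = 1) (i k : ZMod (2 ^ 2)) :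
    a ^ (i + k).val = a ^ i.val * a ^ k.val := by
  rw [← pow_add, ZMod.val_add]
  exact (pow_eq_pow_mod _ ha).symm

theorem pow_val_neg {a : S} (ha : a ^ 4 = 1) (i : ZMod (2 ^ 2)) : a ^ (-i).val = (a ^ i.val)⁻¹ := by
  rw [eq_inv_iff_mul_eq_one, ← pow_val_add ha, neg_add_cancel]
  simp

theorem conj_pow4 {a x y : S} (h : x * a * x⁻¹ = y) (k : ℕ) : x * a ^ k = y ^ k * x := by
  rw [← h, conj_pow, inv_mul_cancel_right]

theorem val_one4 : (1 : ZMod (2 ^ 2)).val = 1 := rfl

/-- the abelian part -/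
def V (a b : S) (ha : a ^ 4 = 1) (hb : b ^ 4 = 1) (hab : a * b = b * a) : Subgroup S where
  carrier := {g | ∃ i j : ZMod (2 ^ 2), g = vv a b i j}
  one_mem' := ⟨0, 0, by simp [vv]⟩
  mul_mem' := by
    rintro _ _ ⟨i, j, rfl⟩ ⟨k, l, rfl⟩
    refine ⟨i + k, j + l, ?_⟩
    rw [vv, vv, vv, pow_val_add ha, pow_val_add hb]
    have h : Commute a b := hab
    have h1 := (h.pow_pow k.val j.val).eq
    calc a ^ i.val * b ^ j.val * (a ^ k.val * b ^ l.val) = a ^ i.val * (b ^ j.val * a ^ k.val) * b ^ l.val := by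
          group
      _ = a ^ i.val * (a ^ k.val * b ^ j.val) * b ^ l.val := by rw [h1]
      _ = a ^ i.val * a ^ k.val * (b ^ j.val * b ^ l.val) := by group
  inv_mem' := by
    rintro _ ⟨i, j, rfl⟩
    refine ⟨-i, -j, ?_⟩
    have h : Commute a b := hab
    rw [vv, vv, pow_val_neg ha, pow_val_neg hb, mul_inv_rev]
    exact ((h.pow_pow i.val j.val).inv_inv).eq.symm

theorem vv_mul {a b : S} (ha : a ^ 4 = 1) (hb : b ^ 4 = 1) (hab : a * b = b * a) (i j k l : ZMod (2 ^ 2)) :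
    vv a b i j * vv a b k l = vv a b (i + k) (j + l) := by
  rw [vv, vv, vv, pow_val_add ha, pow_val_add hb]
  have h : Commute a b := hab
  have h1 := (h.pow_pow k.val j.val).eq
  calc a ^ i.val * b ^ j.val * (a ^ k.val * b ^ l.val) = a ^ i.val * (b ^ j.val * a ^ k.val) * b ^ l.val := by
        group
    _ = a ^ i.val * (a ^ k.val * b ^ j.val) * b ^ l.val := by rw [h1]
    _ = a ^ i.val * a ^ k.val * (b ^ j.val * b ^ l.val) := by group

/-- **[M-G2]**, with the coordinates `TG2`. -/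
theorem tg2 {a b x t : S} (hcard : Nat.card S = 64) (hgen : closure {a, b, x, t} = (⊤ : Subgroup S))
    (hab : a * b = b * a) (ha : a ^ 4 = 1) (hb : b ^ 4 = 1) (hx : x * x = 1) (ht : t * t = 1)
    (hxt : x * t = t * x) (hxa : x * a * x⁻¹ = a⁻¹) (hxb : x * b * x⁻¹ = b⁻¹) (hta : t * a * t⁻¹ = b) :
    TG2 (⊤ : Subgroup S) 2 (vv a b) t x := by
  have ti : t⁻¹ = t := inv_eq_of_mul_eq_one_right ht
  have htb : t * b * t⁻¹ = a := by
    rw [← hta]
    calc t * (t * a * t⁻¹) * t⁻¹ = (t * t) * a * (t * t)⁻¹ := by group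
      _ = a := by rw [ht]; group
  have hr : ∀ i j, t * vv a b i j = vv a b j i * t := by
    intro i j
    have h : Commute a b := hab
    calc t * (a ^ i.val * b ^ j.val) = (t * a ^ i.val) * b ^ j.val := by group
      _ = b ^ i.val * (t * b ^ j.val) := by rw [conj_pow4 hta]; group
      _ = (b ^ i.val * a ^ j.val) * t := by rw [conj_pow4 htb]; group
      _ = (a ^ j.val * b ^ i.val) * t := by rw [(h.pow_pow j.val i.val).eq]
  have hs : ∀ i j, x * vv a b i j = vv a b (-i) (-j) * x := by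
    intro i j
    rw [vv, vv, pow_val_neg ha, pow_val_neg hb]
    calc x * (a ^ i.val * b ^ j.val) = (x * a ^ i.val) * b ^ j.val := by group
      _ = (a⁻¹) ^ i.val * (x * b ^ j.val) := by rw [conj_pow4 hxa]; group
      _ = (a ^ i.val)⁻¹ * (b ^ j.val)⁻¹ * x := by rw [conj_pow4 hxb, inv_pow, inv_pow]; group
  -- the series of subgroups
  let V0 := V a b ha hb hab
  have hVx : ∀ k ∈ V0, x * k * x⁻¹ ∈ V0 := by
    rintro _ ⟨i, j, rfl⟩
    exact ⟨-i, -j, by rw [hs, mul_inv_cancel_right]⟩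
  let V1 := adj V0 x hVx (by rw [hx]; exact one_mem _)
  have hV1 : ∀ g, g ∈ V1 ↔ g ∈ V0 ∨ x * g ∈ V0 := fun g => Iff.rfl
  have htV : ∀ k ∈ V0, t * k * t⁻¹ ∈ V0 := by
    rintro _ ⟨i, j, rfl⟩
    exact ⟨j, i, by rw [hr, mul_inv_cancel_right]⟩
  have hVt : ∀ k ∈ V1, t * k * t⁻¹ ∈ V1 := by
    intro k hk
    rcases (hV1 k).1 hk with h | h
    · exact (hV1 _).2 (Or.inl (htV k h))
    · refine (hV1 _).2 (Or.inr ?_)
      have h1 := htV _ h
      have h2 : t * (x * k) * t⁻¹ = x * (t * k * t⁻¹) := by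
        rw [← mul_assoc, ← hxt]; group
      rwa [h2] at h1
  let V2 := adj V1 t hVt (by rw [ht]; exact one_mem _)
  have hV2 : ∀ g, g ∈ V2 ↔ g ∈ V1 ∨ t * g ∈ V1 := fun g => Iff.rfl
  have hle : V0 ≤ V2 := fun g hg => (hV2 g).2 (Or.inl ((hV1 g).2 (Or.inl hg)))
  have htop : ∀ g : S, g ∈ V2 := by
    intro g
    have h1 : closure {a, b, x, t} ≤ V2 := by
      rw [closure_le]
      rintro y (rfl | rfl | rfl | hy)
      · exact hle ⟨1, 0, by simp [vv, val_one4]⟩
      · exact hle ⟨0, 1, by simp [vv, val_one4]⟩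
      · exact (hV2 _).2 (Or.inl ((hV1 _).2 (Or.inr (by rw [hx]; exact one_mem _))))
      · rw [Set.mem_singleton_iff] at hy
        subst hy
        exact (hV2 _).2 (Or.inr (by rw [ht]; exact one_mem _))
    exact h1 (by rw [hgen]; trivial)
  have xi : x⁻¹ = x := inv_eq_of_mul_eq_one_right hx
  have hcases : ∀ g : S, ∃ i j, g = vv a b i j ∨ g = vv a b i j * t ∨ g = vv a b i j * x ∨
      g = vv a b i j * (t * x) := by
    intro g
    rcases (hV2 g).1 (htop g) with h | h
    · rcases (hV1 g).1 h with ⟨i, j, h⟩ | ⟨i, j, h⟩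
      · exact ⟨i, j, Or.inl h⟩
      · refine ⟨-i, -j, Or.inr (Or.inr (Or.inl ?_))⟩
        rw [← hs, ← h, ← mul_assoc, hx, one_mul]
    · rcases (hV1 _).1 h with ⟨i, j, h⟩ | ⟨i, j, h⟩
      · refine ⟨j, i, Or.inr (Or.inl ?_)⟩
        rw [← hr, ← h, ← mul_assoc, ht, one_mul]
      · refine ⟨-j, -i, Or.inr (Or.inr (Or.inr ?_))⟩
        have h1 : g = t * (x * vv a b i j) := by
          rw [← h]
          calc g = (t * t) * g := by rw [ht, one_mul]
            _ = t * ((x * x) * (t * g)) := by rw [hx]; group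
            _ = t * (x * (x * (t * g))) := by group
        rw [h1, hs, ← mul_assoc, hr, mul_assoc]
  have hinj : ∀ i j, vv a b i j = 1 → i = 0 ∧ j = 0 := by
    intro i j hij
    let f : (ZMod (2 ^ 2) × ZMod (2 ^ 2)) × (Bool × Bool) → S := fun p =>
      vv a b p.1.1 p.1.2 * (cond p.2.1 t 1 * cond p.2.2 x 1)
    have hf : Function.Surjective f := by
      intro g
      obtain ⟨i, j, h | h | h | h⟩ := hcases g
      · exact ⟨((i, j), (false, false)), by simp [f, h]⟩
      · exact ⟨((i, j), (true, false)), by simp [f, h]⟩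
      · exact ⟨((i, j), (false, true)), by simp [f, h]⟩
      · exact ⟨((i, j), (true, true)), by simp [f, h]⟩
    have hc : Nat.card ((ZMod (2 ^ 2) × ZMod (2 ^ 2)) × (Bool × Bool)) = 64 := by
      simp
    have hfin : Finite S := Nat.finite_of_card_ne_zero (by rw [hcard]; norm_num)
    have : Finite ((ZMod (2 ^ 2) × ZMod (2 ^ 2)) × (Bool × Bool)) := inferInstance
    have hb : Function.Bijective f :=
      (Nat.bijective_iff_surjective_and_card f).2 ⟨hf, by rw [hc, hcard]⟩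
    have h1 : f ((i, j), (false, false)) = f ((0, 0), (false, false)) := by
      simp only [f, cond_false, mul_one, hij]
      simp [vv]
    have h2 := hb.1 h1
    simp only [Prod.mk.injEq] at h2
    exact h2.1
  exact
    { hm := le_rfl
      v_mem := fun _ _ => trivial
      r_mem := trivial
      s_mem := trivial
      v_zero := by simp [vv]
      v_mul := vv_mul ha hb hab
      v_inj := hinj
      r_v := hr
      s_v := hs
      r_r := ht
      s_s := hx
      r_s := hxt.symm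
      cases := fun g _ => hcases g }

/-- **[M-G2]** -/
theorem typeG2_of {a b x t : S} (hcard : Nat.card S = 64) (hgen : closure {a, b, x, t} = (⊤ : Subgroup S))
    (hab : a * b = b * a) (ha : a ^ 4 = 1) (hb : b ^ 4 = 1) (hx : x * x = 1) (ht : t * t = 1)
    (hxt : x * t = t * x) (hxa : x * a * x⁻¹ = a⁻¹) (hxb : x * b * x⁻¹ = b⁻¹) (hta : t * a * t⁻¹ = b) :
    Defs.TypeG2 S :=
  (QB.typeG2_of_TG2 (tg2 hcard hgen hab ha hb hx ht hxt hxa hxb hta)).congr topEquiv

end Cfsg.Agent.GH.N2.ModelG2
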