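import Cfsg.Agent.GH.Models.PSp43

/-!
# GH-L2, `|Q| = 2` (bb GH #8533): `2 wr V₄` is of type `PSp₄(q)`
-/

set_option autoImplicit false

namespace Cfsg.Agent.GH.N2.ModelSp4

open Subgroup Cfsg.Agent.GH Cfsg.Agent.GH.Pc Cfsg.Agent.GH.PcTypes

variable {S : Type*} [Group S]

theorem sat {a b e f g h : S} (aa : a * a = 1) (bb : b * b = 1) (ee : e * e = 1) (ff : f * f = 1)
    (gg : g * g = 1) (hh : h * h = 1) (ab : a * b = b * a) (ae : a * e = f * a) (af : a * f = e * a)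
    (ag : a * g = h * a) (ah : a * h = g * a) (be : b * e = g * b) (bg : b * g = e * b)
    (bf : b * f = h * b) (bh : b * h = f * b) (ef : e * f = f * e) (eg : e * g = g * e)
    (eh : e * h = h * e) (fg : f * g = g * f) (fh : f * h = h * f) (gh : g * h = h * g) :
    Sat W24 ![a, b, e, f, g, h] where
  sq i := by fin_cases i <;> (simp [W24, word]; assumption)
  cj i j hij := by
    fin_cases i <;> fin_cases j <;> first
      | exact absurd hij (by decide)
      | (simp [W24, cjOf, word]; assumption)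

theorem conj_comm' {u v w : S} (h : v * w = w * v) :
    (u * v * u⁻¹) * (u * w * u⁻¹) = (u * w * u⁻¹) * (u * v * u⁻¹) := by
  calc (u * v * u⁻¹) * (u * w * u⁻¹) = u * (v * w) * u⁻¹ := by group
    _ = u * (w * v) * u⁻¹ := by rw [h]
    _ = (u * w * u⁻¹) * (u * v * u⁻¹) := by group

theorem conj_sq {u v : S} (h : v * v = 1) : (u * v * u⁻¹) * (u * v * u⁻¹) = 1 := by
  calc (u * v * u⁻¹) * (u * v * u⁻¹) = u * (v * v) * u⁻¹ := by group
    _ = 1 := by rw [h]; group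

theorem isType {b x t : S} (hcard : Nat.card S = 64) (hgen : closure {b, x, t} = (⊤ : Subgroup S))
    (bb : b * b = 1) (xx : x * x = 1) (tt : t * t = 1) (xt : x * t = t * x)
    (h1 : b * (x * b * x⁻¹) = (x * b * x⁻¹) * b) (h2 : b * (t * b * t⁻¹) = (t * b * t⁻¹) * b)
    (h3 : b * ((x * t) * b * (x * t)⁻¹) = ((x * t) * b * (x * t)⁻¹) * b) : IsType W24 S := by
  have xi : x⁻¹ = x := inv_eq_of_mul_eq_one_right xx
  have ti : t⁻¹ = t := inv_eq_of_mul_eq_one_right tt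
  have cx1 : x * (x * b * x⁻¹) * x⁻¹ = b := by
    calc x * (x * b * x⁻¹) * x⁻¹ = (x * x) * b * (x * x)⁻¹ := by group
      _ = b := by rw [xx]; group
  have ct1 : t * (t * b * t⁻¹) * t⁻¹ = b := by
    calc t * (t * b * t⁻¹) * t⁻¹ = (t * t) * b * (t * t)⁻¹ := by group
      _ = b := by rw [tt]; group
  have cx2 : x * (t * b * t⁻¹) * x⁻¹ = (x * t) * b * (x * t)⁻¹ := by group
  have ct2 : t * (x * b * x⁻¹) * t⁻¹ = (x * t) * b * (x * t)⁻¹ := by rw [xt]; group
  have cx3 : x * ((x * t) * b * (x * t)⁻¹) * x⁻¹ = t * b * t⁻¹ := by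
    calc x * ((x * t) * b * (x * t)⁻¹) * x⁻¹ = (x * x) * (t * b * t⁻¹) * (x * x)⁻¹ := by group
      _ = t * b * t⁻¹ := by rw [xx]; group
  have ct3 : t * ((x * t) * b * (x * t)⁻¹) * t⁻¹ = x * b * x⁻¹ := by
    rw [xt]
    calc t * ((t * x) * b * (t * x)⁻¹) * t⁻¹ = (t * t) * (x * b * x⁻¹) * (t * t)⁻¹ := by group
      _ = x * b * x⁻¹ := by rw [tt]; group
  have mv : ∀ {u v w : S}, u * v * u⁻¹ = w → u * v = w * u := by
    intro u v w h
    rw [← h, inv_mul_cancel_right]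
  refine ⟨by rw [hcard]; norm_num, ![x, t, b, x * b * x⁻¹, t * b * t⁻¹, (x * t) * b * (x * t)⁻¹],
    sat xx tt bb (conj_sq bb) (conj_sq bb) (conj_sq bb) xt (mv rfl) (mv cx1) (mv cx2) (mv cx3) (mv rfl) (mv ct1)
      (mv ct2) (mv ct3) h1 h2 h3 ?_ ?_ ?_, ?_⟩
  · -- `b^x`, `b^t`
    have h := conj_comm' (u := x) h3
    rwa [cx3] at h
  · have h := conj_comm' (u := x) h2
    rwa [cx2] at h
  · have h := conj_comm' (u := t) h1
    rwa [ct2] at h
  · rw [eq_top_iff, ← hgen, closure_le]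
    rintro g (rfl | rfl | hg)
    · exact subset_closure ⟨2, rfl⟩
    · exact subset_closure ⟨0, rfl⟩
    · rw [Set.mem_singleton_iff] at hg
      subst hg
      exact subset_closure ⟨1, rfl⟩

/-- **[M-SP4]** -/
theorem typeSp4_of {b x t : S} (hcard : Nat.card S = 64) (hgen : closure {b, x, t} = (⊤ : Subgroup S))
    (bb : b * b = 1) (xx : x * x = 1) (tt : t * t = 1) (xt : x * t = t * x)
    (h1 : b * (x * b * x⁻¹) = (x * b * x⁻¹) * b) (h2 : b * (t * b * t⁻¹) = (t * b * t⁻¹) * b)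
    (h3 : b * ((x * t) * b * (x * t)⁻¹) = ((x * t) * b * (x * t)⁻¹) * b) : Defs.TypeSp4 S :=
  Models.PSp43.typeSp4 (isType hcard hgen bb xx tt xt h1 h2 h3)

end Cfsg.Agent.GH.N2.ModelSp4
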