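import Cfsg.Agent.GH.N2.Start
import Cfsg.Agent.GTwoFour.TransferTL

/-!
# GH-L2, `|Q| = 2`, `|D| = 4`: if `T` is a Sylow 2-subgroup of `G` then `T = E⟨x⟩`
-/

set_option autoImplicit false
set_option linter.unusedSectionVars false

universe u

namespace Cfsg.Agent.GH.N2

open Cfsg.Agent.GH.E (rr self_mem_rr le_rr rr_mono cj cj_mul cj_inv cj_one cj_zero cj_cj cj_injective
  cj_eq_one cj_succ cj_mem Expo pow_two_pow_succ pow_two_pow_succ' conj_pow' phi card_eq_ncard_orbit_mul
  exists_conj_le exists_pow_eq_inv exists_sylow_eq lt_inf_normalizer)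

variable {G : Type u} [Group G] {x h : G} {E T U P V : Subgroup G} {k : ℕ}

section

variable [Finite G]

/-- If `T` is a Sylow 2-subgroup of the simple group `G`, then `T = E⟨x⟩`. -/
theorem Syl.eq_of_sylow [IsSimpleGroup G] (hG : ¬ ∀ a b : G, a * b = b * a) (B : Base x E)
    (S : Syl x E T) (hT : ∃ R : Sylow 2 G, (R : Subgroup G) = T) : T = rr x E := by
  have : Fact (Nat.Prime 2) := ⟨Nat.prime_two⟩
  by_contra hTF
  obtain ⟨t0, ht0, ht0F⟩ : ∃ t0 ∈ T, t0 ∉ rr x E := by
    by_contra hcon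
    push Not at hcon
    exact hTF (le_antisymm hcon S.F_le)
  obtain ⟨R, hR⟩ := hT
  obtain ⟨e0, he0, hne⟩ := S.moves B ht0 ht0F
  have hf0 := S.nE t0 ht0 e0 he0
  have hsw := S.swap B ht0 he0 hne
  set z := e0 * (t0 * e0 * t0⁻¹) with hz
  have hzE : z ∈ E := E.mul_mem he0 hf0
  have hz1 : z ≠ 1 := fun hc => hne (by
    rw [hz, mul_eq_one_iff_inv_eq, B.inv_eq he0] at hc; exact hc.symm)
  -- elements of `T` which are central in `T`
  have hcen : ∀ y ∈ T, (∀ t ∈ T, y * t = t * y) → y ∉ E → y = x ∨ y = x * z := by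
    intro y hyT hyc hyE
    have hyF : y ∈ rr x E := B.mem_of_elt (exists_pow_of_mem S.two hyT) (S.cx y hyT)
      (fun e he => (hyc e (S.ET he)).symm)
    have hyxE : x * y ∈ E := (B.mem_rr.1 hyF).resolve_left hyE
    have h2 : t0 * (x * y) * t0⁻¹ = x * y := by
      have h3 := S.cx t0 ht0
      have h4 := hyc t0 ht0
      calc t0 * (x * y) * t0⁻¹ = (t0 * x) * y * t0⁻¹ := by group
        _ = (x * t0) * y * t0⁻¹ := by rw [h3]
        _ = x * (t0 * y) * t0⁻¹ := by group
        _ = x * (y * t0) * t0⁻¹ := by rw [h4]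
        _ = x * y := by group
    rcases B.fix_cases he0 hf0 hne hyxE h2 with h3 | h3
    · left
      have := B.xx_mul y
      rw [h3, mul_one] at this
      exact this.symm
    · right
      rw [← hz] at h3
      rw [← h3, B.xx_mul]
  -- Burnside: `x z` is not conjugate to `x`
  have hxzT : ∀ t ∈ T, (x * z) * t = t * (x * z) := by
    have hzc : ∀ t ∈ T, z * t = t * z := by
      intro t ht
      by_cases htF : t ∈ rr x E
      · exact B.rr_comm_E htF hzE
      · -- `t = t0 f`
        have h1 : t0⁻¹ ∉ rr x E := fun hc => ht0F (by rwa [Subgroup.inv_mem_iff] at hc)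
        have h2 := S.mem_F_of_notMem B (T.inv_mem ht0) ht h1 htF
        have h3 := B.rr_comm_E h2 hzE
        have h4 : t0 * z * t0⁻¹ = z := by
          calc t0 * z * t0⁻¹ = (t0 * e0 * t0⁻¹) * (t0 * (t0 * e0 * t0⁻¹) * t0⁻¹) := by rw [hz]; group
            _ = (t0 * e0 * t0⁻¹) * e0 := by rw [hsw]
            _ = z := B.commE hf0 he0
        rw [mul_inv_eq_iff_eq_mul] at h4
        calc z * t = (z * t0) * (t0⁻¹ * t) := by group
          _ = (t0 * z) * (t0⁻¹ * t) := by rw [h4]
          _ = t0 * (z * (t0⁻¹ * t)) := by group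
          _ = t0 * ((t0⁻¹ * t) * z) := by rw [h3]
          _ = t * z := by group
    intro t ht
    have h1 := hzc t ht
    have h2 := S.cx t ht
    calc (x * z) * t = x * (z * t) := by group
      _ = x * (t * z) := by rw [h1]
      _ = (x * t) * z := by group
      _ = (t * x) * z := by rw [h2]
      _ = t * (x * z) := by group
  have hzc : ∀ t ∈ T, z * t = t * z := by
    intro t ht
    have h1 := hxzT t ht
    have h2 := S.cx t ht
    calc z * t = x * ((x * z) * t) := by rw [← mul_assoc, ← mul_assoc, B.hx, one_mul]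
      _ = x * (t * (x * z)) := by rw [h1]
      _ = (x * t) * (x * z) := by group
      _ = (t * x) * (x * z) := by rw [h2]
      _ = t * (x * x) * z := by group
      _ = t * z := by rw [B.hx, mul_one]
  have hnc : ∀ g : G, g * x * g⁻¹ ≠ x * z := by
    intro g hg
    -- `T` and `g T g⁻¹` are Sylow subgroups of `C(xz)`
    have hxzT' : x * z ∈ T := T.mul_mem S.xT (S.ET hzE)
    set C := Subgroup.centralizer {x * z} with hC
    have hTC : T ≤ C := fun t ht => Subgroup.mem_centralizer_singleton_iff.2 (hxzT t ht).symm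
    have hgT : T.map (MulAut.conj g).toMonoidHom ≤ C := by
      rintro _ ⟨t, ht, rfl⟩
      rw [hC, Subgroup.mem_centralizer_singleton_iff, ← hg]
      simp only [MulEquiv.coe_toMonoidHom, MulAut.conj_apply]
      have h1 := S.cx t ht
      calc g * t * g⁻¹ * (g * x * g⁻¹) = g * (t * x) * g⁻¹ := by group
        _ = g * (x * t) * g⁻¹ := by rw [h1]
        _ = g * x * g⁻¹ * (g * t * g⁻¹) := by group
    have hTmax : ∀ K : Subgroup G, IsPGroup 2 K → T ≤ K → K ≤ C → K = T := by
      intro K hK hTK _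
      rw [← hR] at hTK ⊢
      exact R.is_maximal' hK hTK
    obtain ⟨y, hy, hyT⟩ := exists_conj_le hTC hgT S.two (S.two.map _) hTmax
    set n := y * g with hn
    have hnT : ∀ t ∈ T, n * t * n⁻¹ ∈ T := by
      intro t ht
      have h1 := hyT _ ⟨t, ht, rfl⟩
      simp only [MulEquiv.coe_toMonoidHom, MulAut.conj_apply] at h1
      have h2 : y * (g * t * g⁻¹) * y⁻¹ = n * t * n⁻¹ := by rw [hn]; group
      rwa [h2] at h1
    have hnx : n * x * n⁻¹ = x * z := by
      have h1 := Subgroup.mem_centralizer_singleton_iff.1 hy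
      calc n * x * n⁻¹ = y * (g * x * g⁻¹) * y⁻¹ := by rw [hn]; group
        _ = (y * (x * z)) * y⁻¹ := by rw [hg]
        _ = x * z := by rw [h1, mul_inv_cancel_right]
    have hninv : ∀ t ∈ T, n⁻¹ * t * n ∈ T := by
      intro u hu
      have h2 : Function.Injective (fun r : T => (⟨n * r * n⁻¹, hnT r r.2⟩ : T)) := by
        intro p q hpq
        have := congrArg Subtype.val hpq
        simp only at this
        exact Subtype.ext (mul_left_cancel (mul_right_cancel this))
      obtain ⟨⟨r, hr⟩, hr1⟩ := (Finite.injective_iff_surjective.1 h2) ⟨u, hu⟩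
      have h3 := congrArg Subtype.val hr1
      simp only at h3
      rw [← h3]
      have h4 : n⁻¹ * (n * r * n⁻¹) * n = r := by group
      rw [h4]; exact hr
    -- `n z n⁻¹ = z`
    have hzcomm : t0 * e0 * t0⁻¹ * e0⁻¹ = z := by
      rw [B.inv_eq he0, B.commE hf0 he0]
    have hnz : n * z * n⁻¹ = z := by
      have h1 : n * z * n⁻¹ ∈ E := by
        have h2 := S.comm_mem B _ (hnT t0 ht0) _ (hnT e0 (S.ET he0))
        have h3 : n * t0 * n⁻¹ * (n * e0 * n⁻¹) * (n * t0 * n⁻¹)⁻¹ * (n * e0 * n⁻¹)⁻¹ =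
            n * (t0 * e0 * t0⁻¹ * e0⁻¹) * n⁻¹ := by group
        rw [h3, hzcomm] at h2
        exact h2
      have h2 : t0 * (n * z * n⁻¹) * t0⁻¹ = n * z * n⁻¹ := by
        have h3 := hzc _ (hninv t0 ht0)
        calc t0 * (n * z * n⁻¹) * t0⁻¹ = n * ((n⁻¹ * t0 * n) * z) * n⁻¹ * t0⁻¹ := by group
          _ = n * (z * (n⁻¹ * t0 * n)) * n⁻¹ * t0⁻¹ := by rw [h3]
          _ = n * z * n⁻¹ := by group
      rcases B.fix_cases he0 hf0 hne h1 h2 with h3 | h3
      · exfalso
        apply hz1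
        have : z = n⁻¹ * (n * z * n⁻¹) * n := by group
        rw [this, h3]; group
      · exact h3
    have hnxz : n * (x * z) * n⁻¹ = x := by
      have h1 : n * (x * z) * n⁻¹ = (n * x * n⁻¹) * (n * z * n⁻¹) := by group
      rw [h1, hnx, hnz, mul_assoc, B.sq z hzE, mul_one]
    have hn2 : ∀ y : G, (y = x ∨ y = x * z) → n ^ 2 * y * (n ^ 2)⁻¹ = y := by
      rintro y (rfl | rfl)
      · have : n ^ 2 * y * (n ^ 2)⁻¹ = n * (n * y * n⁻¹) * n⁻¹ := by rw [pow_two]; group
        rw [this, hnx, hnxz]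
      · have : n ^ 2 * (x * z) * (n ^ 2)⁻¹ = n * (n * (x * z) * n⁻¹) * n⁻¹ := by rw [pow_two]; group
        rw [this, hnxz, hnx]
    obtain ⟨a, m, hm, hN⟩ := Nat.exists_eq_two_pow_mul_odd (n := orderOf n) (orderOf_pos n).ne'
    obtain ⟨r, hr⟩ := hm
    have hnm : n ^ m * x * (n ^ m)⁻¹ = x * z := by
      rw [hr, pow_succ]
      have h1 : ∀ j : ℕ, n ^ (2 * j) * (x * z) * (n ^ (2 * j))⁻¹ = x * z := by
        intro j
        induction j with
        | zero => simp
        | succ j ih =>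
          have h2 : n ^ (2 * (j + 1)) = n ^ (2 * j) * n ^ 2 := by rw [← pow_add]; ring_nf
          have h3 := hn2 (x * z) (Or.inr rfl)
          rw [h2]
          calc n ^ (2 * j) * n ^ 2 * (x * z) * (n ^ (2 * j) * n ^ 2)⁻¹
              = n ^ (2 * j) * (n ^ 2 * (x * z) * (n ^ 2)⁻¹) * (n ^ (2 * j))⁻¹ := by group
            _ = x * z := by rw [h3, ih]
      calc n ^ (2 * r) * n * x * (n ^ (2 * r) * n)⁻¹ = n ^ (2 * r) * (n * x * n⁻¹) * (n ^ (2 * r))⁻¹ := by
            group
        _ = x * z := by rw [hnx, h1]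
    -- `n ^ m` is a 2-element normalising `T`, so in `T`
    have hnm2 : (n ^ m) ^ 2 ^ a = 1 := by
      rw [← pow_mul, mul_comm, ← hN]; exact pow_orderOf_eq_one n
    have hnmN : ∀ t ∈ T, n ^ m * t * (n ^ m)⁻¹ ∈ T := by
      have : ∀ j : ℕ, ∀ t ∈ T, n ^ j * t * (n ^ j)⁻¹ ∈ T := by
        intro j
        induction j with
        | zero => intro t ht; simpa using ht
        | succ j ih =>
          intro t ht
          have h2 : n ^ (j + 1) * t * (n ^ (j + 1))⁻¹ = n ^ j * (n * t * n⁻¹) * (n ^ j)⁻¹ := by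
            rw [pow_succ]; group
          rw [h2]; exact ih _ (hnT t ht)
      exact this m
    have hzp : IsPGroup 2 (Subgroup.zpowers (n ^ m)) := by
      rintro ⟨y, hy⟩
      obtain ⟨j, rfl⟩ := Subgroup.mem_zpowers_iff.1 hy
      refine ⟨a, Subtype.ext ?_⟩
      show ((n ^ m) ^ j) ^ 2 ^ a = 1
      rw [← zpow_natCast, ← zpow_mul, mul_comm, zpow_mul, zpow_natCast, hnm2, one_zpow]
    have hzN : ∀ y ∈ Subgroup.zpowers (n ^ m), ∀ t ∈ T, y * t * y⁻¹ ∈ T := by
      intro y hy t ht
      have h1 : y ∈ Submonoid.powers (n ^ m) := by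
        rw [mem_powers_iff_mem_zpowers]; exact hy
      obtain ⟨j, rfl⟩ := h1
      show (n ^ m) ^ j * t * ((n ^ m) ^ j)⁻¹ ∈ T
      induction j generalizing t with
      | zero => simpa using ht
      | succ j ih =>
        have h2 : (n ^ m) ^ (j + 1) * t * ((n ^ m) ^ (j + 1))⁻¹ =
            (n ^ m) ^ j * (n ^ m * t * (n ^ m)⁻¹) * ((n ^ m) ^ j)⁻¹ := by
          rw [pow_succ (n ^ m) j]; group
        rw [h2]
        exact ih _ (hnmN t ht) (by
          rw [← mem_powers_iff_mem_zpowers]; exact ⟨j, rfl⟩)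
    have hP : IsPGroup 2 (T ⊔ Subgroup.zpowers (n ^ m) : Subgroup G) := sup_pgroup S.two hzp hzN
    have hPT : (T ⊔ Subgroup.zpowers (n ^ m) : Subgroup G) = T := by
      have h1 : (R : Subgroup G) ≤ T ⊔ Subgroup.zpowers (n ^ m) := by rw [hR]; exact le_sup_left
      have h2 := R.is_maximal' hP h1
      rw [h2, hR]
    have hmT : n ^ m ∈ T := by
      rw [← hPT]; exact Subgroup.mem_sup_right (Subgroup.mem_zpowers _)
    rw [← S.cx _ hmT, mul_inv_cancel_right] at hnm
    exact hz1 (left_eq_mul.1 hnm)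
  -- transfer
  obtain ⟨Q, _, π, hπ⟩ := exists_commQuot (Ps := T) (N := E) S.nE (fun a ha b hb => S.comm_mem B a ha b hb)
  have hodd : Odd T.index := by
    rw [← Nat.not_even_iff_odd, even_iff_two_dvd, ← hR]
    exact Sylow.not_dvd_index R
  have h1 := Cfsg.Agent.GTwoFour.TransferTL.transfer_eq T π x B.hx S.xT ?_ ?_
  · have h2 := Cfsg.Agent.SmallSimple.Parity.commHom_eq_one hG (MonoidHom.transfer π) x
    rw [h2] at h1
    exact B.hxE ((hπ _).1 h1.symm)
  · intro g hg hφ hoddg
    have hyE : g⁻¹ * x * g ∉ E := fun hc => hφ ((hπ _).2 hc)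
    -- `T ≤ C(g⁻¹ x g)`
    set y := g⁻¹ * x * g with hy
    have hTy : T ≤ Subgroup.centralizer {y} := by
      -- `T ⊓ C(y)` is a Sylow subgroup of `C(y)`, of order `|T|`
      have h2 : (T ⊓ Subgroup.centralizer {y}).relIndex (Subgroup.centralizer {y}) =
          T.relIndex (Subgroup.centralizer {y}) := Subgroup.inf_relIndex_right _ _
      have h3 : Nat.card T ∣ Nat.card (Subgroup.centralizer {y}) := by
        have h4 : T.map (MulAut.conj g⁻¹).toMonoidHom ≤ Subgroup.centralizer {y} := by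
          rintro _ ⟨t, ht, rfl⟩
          rw [Subgroup.mem_centralizer_singleton_iff]
          simp only [MulEquiv.coe_toMonoidHom, MulAut.conj_apply, inv_inv]
          have h1 := S.cx t ht
          calc g⁻¹ * t * g * y = g⁻¹ * (t * x) * g := by rw [hy]; group
            _ = g⁻¹ * (x * t) * g := by rw [h1]
            _ = y * (g⁻¹ * t * g) := by rw [hy]; group
        have h5 : Nat.card (T.map (MulAut.conj g⁻¹).toMonoidHom) = Nat.card T :=
          Nat.card_congr (T.equivMapOfInjective _ (MulAut.conj g⁻¹).injective).symm.toEquiv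
        rw [← h5]
        exact Subgroup.card_dvd_of_le h4
      have h4 := Subgroup.relIndex_mul_relIndex ⊥ (T ⊓ Subgroup.centralizer {y})
        (Subgroup.centralizer {y}) bot_le inf_le_right
      rw [Subgroup.relIndex_bot_left, Subgroup.relIndex_bot_left, h2] at h4
      obtain ⟨j, hj⟩ := IsPGroup.iff_card.mp S.two
      have h5 : Nat.card T ∣ Nat.card (T ⊓ Subgroup.centralizer {y} : Subgroup G) := by
        rw [hj] at h3 ⊢
        rw [← h4] at h3
        exact Nat.Coprime.dvd_of_dvd_mul_right (by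
          apply Nat.Coprime.pow_left
          exact Nat.coprime_two_left.2 hoddg) h3
      have h6 := Subgroup.eq_of_le_of_card_ge (inf_le_left : T ⊓ Subgroup.centralizer {y} ≤ T)
        (Nat.le_of_dvd Nat.card_pos h5)
      rw [← h6]; exact inf_le_right
    have hyc : ∀ t ∈ T, y * t = t * y := fun t ht =>
      (Subgroup.mem_centralizer_singleton_iff.1 (hTy ht)).symm
    rcases hcen y hg hyc hyE with h2 | h2
    · exact ⟨1, T.one_mem, by rw [h2]; group⟩
    · exact absurd (by rw [inv_inv]; exact h2) (hnc g⁻¹)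
  · have hTC : T ≤ Subgroup.centralizer {x} := fun t ht =>
      Subgroup.mem_centralizer_singleton_iff.2 (S.cx t ht).symm
    have h2 := Subgroup.relIndex_dvd_index_of_le hTC
    exact Odd.of_dvd_nat hodd h2

end

end Cfsg.Agent.GH.N2
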