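import Cfsg.Agent.GH.N2.Zero
import Cfsg.Agent.GH.N2.Top
import Cfsg.Agent.GH.N2.ModelSp4
import Cfsg.Agent.GH.N2.ModelG2

/-!
# GH-L2, `|Q| = 2`, `|D| = 4`: the main theorem, relative to the input [FOUR]
-/

set_option autoImplicit false
set_option linter.unusedSectionVars false

universe u

namespace Cfsg.Agent.GH.N2

open Cfsg.Agent.GH.E (rr self_mem_rr le_rr rr_mono cj cj_mul cj_inv cj_one cj_zero cj_cj cj_injective
  cj_eq_one cj_succ cj_mem Expo pow_two_pow_succ pow_two_pow_succ' conj_pow' phi card_eq_ncard_orbit_mul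
  exists_conj_le exists_pow_eq_inv exists_sylow_eq lt_inf_normalizer)

variable {G : Type u} [Group G] {x h : G} {E T U P V : Subgroup G} {k : ℕ}

theorem closure_eq_top {R : Subgroup G} {s : Set R} {s' : Set G} (hs : (Subtype.val : R → G) '' s = s')
    (hc : Subgroup.closure s' = R) : Subgroup.closure s = (⊤ : Subgroup R) := by
  apply Subgroup.map_injective R.subtype_injective
  rw [MonoidHom.map_closure, ← MonoidHom.range_eq_map, Subgroup.range_subtype]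
  have h1 : (R.subtype : R → G) '' s = s' := hs
  rw [h1, hc]

theorem typeG2_of_data {R : Subgroup G} {a b x t : G} (ha : a ∈ R) (hb : b ∈ R) (hx : x ∈ R) (ht : t ∈ R)
    (hcard : Nat.card R = 64) (hgen : Subgroup.closure {a, b, x, t} = R)
    (hab : a * b = b * a) (ha4 : a ^ 4 = 1) (hb4 : b ^ 4 = 1) (hxx : x * x = 1) (htt : t * t = 1)
    (hxt : x * t = t * x) (hxa : x * a * x⁻¹ = a⁻¹) (hxb : x * b * x⁻¹ = b⁻¹) (hta : t * a * t⁻¹ = b) :
    Defs.TypeG2 R := by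
  refine ModelG2.typeG2_of (a := ⟨a, ha⟩) (b := ⟨b, hb⟩) (x := ⟨x, hx⟩) (t := ⟨t, ht⟩) hcard ?_
    (Subtype.ext hab) (Subtype.ext ha4) (Subtype.ext hb4) (Subtype.ext hxx) (Subtype.ext htt)
    (Subtype.ext hxt) (Subtype.ext hxa) (Subtype.ext hxb) (Subtype.ext hta)
  apply closure_eq_top _ hgen
  simp only [Set.image_insert_eq, Set.image_singleton]

theorem typeSp4_of_data {R : Subgroup G} {b x t : G} (hb : b ∈ R) (hx : x ∈ R) (ht : t ∈ R)
    (hcard : Nat.card R = 64) (hgen : Subgroup.closure {b, x, t} = R)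
    (bb : b * b = 1) (xx : x * x = 1) (tt : t * t = 1) (xt : x * t = t * x)
    (h1 : b * (x * b * x⁻¹) = (x * b * x⁻¹) * b) (h2 : b * (t * b * t⁻¹) = (t * b * t⁻¹) * b)
    (h3 : b * ((x * t) * b * (x * t)⁻¹) = ((x * t) * b * (x * t)⁻¹) * b) : Defs.TypeSp4 R := by
  refine ModelSp4.typeSp4_of (b := ⟨b, hb⟩) (x := ⟨x, hx⟩) (t := ⟨t, ht⟩) hcard ?_
    (Subtype.ext bb) (Subtype.ext xx) (Subtype.ext tt) (Subtype.ext xt) (Subtype.ext h1) (Subtype.ext h2)
    (Subtype.ext h3)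
  apply closure_eq_top _ hgen
  simp only [Set.image_insert_eq, Set.image_singleton]

section

variable [Finite G]

theorem Expo.of_base (B : Base x E) : Expo E 0 := by
  refine ⟨fun u hu => ?_, ?_⟩
  · rw [zero_add, pow_one, pow_two]; exact B.sq u hu
  · obtain ⟨e, he, he1⟩ := B.exists_ne_one
    exact ⟨e, he, by rwa [pow_zero, pow_one]⟩

/-- The main theorem, relative to [FOUR]. -/
theorem main_of_four [IsSimpleGroup G] (hG : ¬ ∀ a b : G, a * b = b * a) (B : Base x E) (S : Syl x E T)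
    (hx : h * x = x * h) (hE : ∀ e ∈ E, h * e * h⁻¹ ∈ E) (h3 : ∀ e ∈ E, e ≠ 1 → h * e * h⁻¹ ≠ e)
    (four : ∀ (V : Subgroup G) (h' : G), El x E T V h' → ∀ t ∈ T, t ∉ rr x E → t * t = 1 →
      ∃ R : Sylow 2 G, (R : Subgroup G) = V ⊔ T) :
    ∃ R : Sylow 2 G, (R : Subgroup G) = rr x E ∨ Defs.TypeSp4 (R : Subgroup G) ∨
      Defs.TypeG2 (R : Subgroup G) := by
  have L : Level x E E h := B.level hx hE h3
  by_cases hT : ∃ R : Sylow 2 G, (R : Subgroup G) = T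
  · have h1 := S.eq_of_sylow hG B hT
    obtain ⟨R, hR⟩ := hT
    exact ⟨R, Or.inl (by rw [hR, h1])⟩
  have hni : ¬ ∀ t ∈ T, t ∉ rr x E → t * t ∉ E := fun hc => hT (sylow_of_noInv hG B S L hc)
  push Not at hni
  obtain ⟨t1, ht1, ht1F, ht12⟩ := hni
  obtain ⟨t, ht, htF, ht2⟩ := S.exists_inv B ht1 ht1F ht12
  -- levels `k ≥ 1`
  have hlev : ∀ (U : Subgroup G) (h : G), Level x E U h → (∀ t ∈ T, ∀ u ∈ U, t * u * t⁻¹ ∈ U) →
      (∃ w ∈ U, w ∉ E) → ∃ R : Sylow 2 G, Defs.TypeG2 (R : Subgroup G) := by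
    intro U h LU tU hUE
    obtain ⟨U', h', L', X', tU', R, hR⟩ := exists_of_level hG B S ht htF _ U h le_rfl LU tU hUE
    obtain ⟨a, ha, b, hb, hab, ha4, hb4, hxa, hxb, hta, hgen, hcard⟩ := L'.data B S X' tU' ht htF ht2
    refine ⟨R, ?_⟩
    rw [← hR] at hgen hcard
    have hTR : T ≤ (R : Subgroup G) := by rw [hR]; exact le_sup_right
    have hUR : U' ≤ (R : Subgroup G) := by rw [hR]; exact le_sup_left
    exact typeG2_of_data (hUR ha) (hUR hb) (hTR S.xT) (hTR ht) hcard hgen hab ha4 hb4 B.hx ht2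
      (S.cx t ht) hxa hxb hta
  obtain ⟨s, hs, hs1⟩ := exists_mover hG B S L hT
  have X : Expo E 0 := Expo.of_base B
  obtain ⟨P, h', A, _⟩ := exists_stp B S L X S.nE hs (by
    unfold phi; rw [pow_zero, pow_one]; exact hs1)
  obtain ⟨V, hV⟩ := A.exists_V B X
  have AV : VV x E T E P V h' := ⟨A, hV⟩
  by_cases hd : ∃ y ∈ V, y ∉ E ∧ x * y * x⁻¹ = y⁻¹
  · obtain ⟨y, hy, hyU, hyx⟩ := hd
    have LV := AV.level_of_inv B X hy hyU hyx
    obtain ⟨R, hR⟩ := hlev V h' LV (fun t ht v hv => AV.nT B S X ht hv) ⟨y, hy, hyU⟩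
    exact ⟨R, Or.inr (Or.inr hR)⟩
  · push Not at hd
    have hel := AV.el B S X hd ht htF
    obtain ⟨R, hR⟩ := four V h' hel t ht htF ht2
    obtain ⟨b, hb, hbb, hb1, hb2, hb3, hgen, hcard⟩ := hel.data B S ht htF ht2
    refine ⟨R, Or.inr (Or.inl ?_)⟩
    rw [← hR] at hgen hcard
    have hTR : T ≤ (R : Subgroup G) := by rw [hR]; exact le_sup_right
    have hVR : V ≤ (R : Subgroup G) := by rw [hR]; exact le_sup_left
    exact typeSp4_of_data (hVR hb) (hTR S.xT) (hTR ht) hcard hgen hbb B.hx ht2 (S.cx t ht) hb1 hb2 hb3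

end

end Cfsg.Agent.GH.N2
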