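import Cfsg.Agent.GH.N2.Step

/-!
# GH-L2, `|Q| = 2`, `|D| = 4`: the group `P / U` and the subgroup `V`
-/

set_option autoImplicit false
set_option linter.unusedSectionVars false

universe u

namespace Cfsg.Agent.GH.N2

open Cfsg.Agent.GH.E (rr self_mem_rr le_rr rr_mono cj cj_mul cj_inv cj_one cj_zero cj_cj cj_injective
  cj_eq_one cj_succ cj_mem Expo pow_two_pow_succ pow_two_pow_succ' conj_pow' phi card_eq_ncard_orbit_mul
  exists_conj_le exists_pow_eq_inv)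

variable {G : Type u} [Group G] {x h : G} {E T U P V : Subgroup G} {k : ℕ}

theorem exists_pow_of_mem {Q : Subgroup G} (hQ : IsPGroup 2 Q) {q : G} (hq : q ∈ Q) :
    ∃ n : ℕ, q ^ 2 ^ n = 1 := Cfsg.Agent.GH.E.IsPGroup.exists_pow hQ hq

section

variable [Finite G]

theorem Stp.U_nP (B : Base x E) (A : Stp x E T U P h) {p u : G} (hp : p ∈ P) (hu : u ∈ U) :
    p * u * p⁻¹ ∈ U := Nx_U B (A.nx hp) hu

theorem Stp.rr_le (A : Stp x E T U P h) : rr x U ≤ P :=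
  sup_le A.UP (by rw [Subgroup.zpowers_le]; exact A.xP)

theorem Stp.F_le (A : Stp x E T U P h) : rr x E ≤ P := (rr_mono A.level.le).trans A.rr_le

theorem Stp.phi_mul (B : Base x E) (A : Stp x E T U P h) (X : Expo U k) {p q : G} (hp : p ∈ P) (hq : q ∈ P) :
    phi x k (p * q) = phi x k p * phi x k q := by
  rw [A.level.phi_mul B (A.nx hp) (A.nx hq)]
  have h1 := A.cE p hp _ (A.level.phi_mem B X (A.nx hq))
  rw [← h1, mul_inv_cancel_right]

theorem Stp.phi_mem (B : Base x E) (A : Stp x E T U P h) (X : Expo U k) {p : G} (hp : p ∈ P) :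
    phi x k p ∈ E := A.level.phi_mem B X (A.nx hp)

theorem Stp.phi_inv (B : Base x E) (A : Stp x E T U P h) (X : Expo U k) {p : G} (hp : p ∈ P) :
    phi x k p⁻¹ = phi x k p := by
  have h1 := A.phi_mul B X hp (P.inv_mem hp)
  rw [mul_inv_cancel, phi_of_comm B (by group)] at h1
  have h2 := eq_inv_of_mul_eq_one_right h1.symm
  rw [h2]
  exact B.inv_eq (A.phi_mem B X hp)

theorem Stp.phi_x (B : Base x E) : phi x k x = 1 := phi_of_comm B rfl

theorem Stp.rr_of_phi (B : Base x E) (A : Stp x E T U P h) (X : Expo U k) {p : G} (hp : p ∈ P)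
    (h1 : phi x k p = 1) : p ∈ rr x U := by
  have hd := Nx_d B (A.nx hp)
  obtain ⟨w, hw, hw1⟩ := A.level.exists_conj B X hd U.one_mem (by rw [one_pow]; exact h1)
  have h2 : w * p ∈ P := P.mul_mem (A.UP hw) hp
  have h3 : x * (w * p) = (w * p) * x := by
    have h4 : w * (p * x * p⁻¹) * w⁻¹ = x := by
      rw [B.xx_mul, mul_one] at hw1
      exact hw1
    calc x * (w * p) = (w * (p * x * p⁻¹) * w⁻¹) * (w * p) := by rw [h4]
      _ = (w * p) * x := by group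
  have h5 := B.mem_of_comm A.two A.F_le A.cE h2 h3
  have h6 := (rr x U).mul_mem ((rr x U).inv_mem (le_rr x U hw)) (rr_mono A.level.le h5)
  rwa [inv_mul_cancel_left] at h6

theorem Stp.sq_mem (B : Base x E) (A : Stp x E T U P h) (X : Expo U k) {p : G} (hp : p ∈ P) :
    p * p ∈ U := by
  have h1 : phi x k (p * p) = 1 := by
    rw [A.phi_mul B X hp hp]
    exact B.sq _ (A.phi_mem B X hp)
  have h2 := A.rr_of_phi B X (P.mul_mem hp hp) h1
  rcases (A.level.mem_rr B).1 h2 with h3 | h3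
  · exact h3
  · exfalso
    obtain ⟨p0, hp0, hpu⟩ := A.trans _ h3
    rw [B.xx_mul] at hpu
    -- `q = p0⁻¹ p p0` has `q² = x`
    set q := p0⁻¹ * p * p0 with hq
    have hqP : q ∈ P := P.mul_mem (P.mul_mem (P.inv_mem hp0) hp) hp0
    have hqx : q * q = x := by
      calc q * q = p0⁻¹ * (p * p) * p0 := by rw [hq]; group
        _ = x := by rw [← hpu]; group
    have h5 := B.sq_of_elt (exists_pow_of_mem A.two hqP) (by rw [← hqx]; group) (A.cE q hqP)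
    exact B.x_ne_one (by rw [← hqx, h5])

theorem Stp.comm_mem (B : Base x E) (A : Stp x E T U P h) (X : Expo U k) {p q : G}
    (hp : p ∈ P) (hq : q ∈ P) : p * q * p⁻¹ * q⁻¹ ∈ U := by
  have h1 := A.sq_mem B X (P.mul_mem hp hq)
  have h2 := A.sq_mem B X (P.inv_mem hp)
  have h3 := A.sq_mem B X (P.inv_mem hq)
  have h4 := A.U_nP B (P.inv_mem hq) h2
  have h5 : p * q * p⁻¹ * q⁻¹ = (p * q) * (p * q) * (q⁻¹ * (p⁻¹ * p⁻¹) * q⁻¹⁻¹) * (q⁻¹ * q⁻¹) := by group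
  rw [h5]
  exact U.mul_mem (U.mul_mem h1 h4) h3

/-- The quotient `P / U` (elementary abelian). -/
theorem Stp.exists_quot (B : Base x E) (A : Stp x E T U P h) (X : Expo U k) :
    ∃ (Q : Type u) (_ : CommGroup Q) (π : P →* Q), ∀ p : P, π p = 1 ↔ (p : G) ∈ U := by
  have hN : (U.subgroupOf P).Normal := by
    refine ⟨fun n hn g => ?_⟩
    rw [Subgroup.mem_subgroupOf] at hn ⊢
    exact A.U_nP B g.2 hn
  refine ⟨P ⧸ U.subgroupOf P, { QuotientGroup.Quotient.group (U.subgroupOf P) with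
    mul_comm := ?_ }, QuotientGroup.mk' (U.subgroupOf P), ?_⟩
  · intro a b
    obtain ⟨a, rfl⟩ := QuotientGroup.mk_surjective a
    obtain ⟨b, rfl⟩ := QuotientGroup.mk_surjective b
    show ((a * b : P) : P ⧸ U.subgroupOf P) = ((b * a : P) : P ⧸ U.subgroupOf P)
    rw [QuotientGroup.eq, Subgroup.mem_subgroupOf]
    have h1 := A.comm_mem B X (P.inv_mem b.2) (P.inv_mem a.2)
    have h2 : (((a * b)⁻¹ * (b * a) : P) : G) = (b : G)⁻¹ * (a : G)⁻¹ * (b : G)⁻¹⁻¹ * (a : G)⁻¹⁻¹ := by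
      push_cast; group
    rw [h2]; exact h1
  · intro p
    have h1 : QuotientGroup.mk' (U.subgroupOf P) p = 1 ↔ p ∈ U.subgroupOf P := by
      rw [← MonoidHom.mem_ker, QuotientGroup.ker_mk']
    exact h1.trans Subgroup.mem_subgroupOf

/-- `p · hp · h²p`. -/
def tr (h p : G) : G := p * cj h 1 p * cj h 2 p

theorem Stp.exists_V (B : Base x E) (A : Stp x E T U P h) (X : Expo U k) :
    ∃ V : Subgroup G, ∀ g, g ∈ V ↔ g ∈ P ∧ tr h g ∈ U := by
  obtain ⟨Q, _, π, hπ⟩ := A.exists_quot B X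
  have hm : ∀ (n : ℕ) (p : P), cj h n (p : G) ∈ P := fun n p => cj_mem A.hP n p.2
  let τ : P →* Q :=
    { toFun := fun p => π p * π ⟨cj h 1 p, hm 1 p⟩ * π ⟨cj h 2 p, hm 2 p⟩
      map_one' := by
        have h1 : (⟨cj h 1 ((1 : P) : G), hm 1 1⟩ : P) = 1 := Subtype.ext (cj_one h 1)
        have h2 : (⟨cj h 2 ((1 : P) : G), hm 2 1⟩ : P) = 1 := Subtype.ext (cj_one h 2)
        rw [h1, h2, map_one, one_mul, one_mul]
      map_mul' := fun p q => by
        have h1 : (⟨cj h 1 ((p * q : P) : G), hm 1 (p * q)⟩ : P) =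
            ⟨cj h 1 p, hm 1 p⟩ * ⟨cj h 1 q, hm 1 q⟩ := Subtype.ext (cj_mul h 1 _ _)
        have h2 : (⟨cj h 2 ((p * q : P) : G), hm 2 (p * q)⟩ : P) =
            ⟨cj h 2 p, hm 2 p⟩ * ⟨cj h 2 q, hm 2 q⟩ := Subtype.ext (cj_mul h 2 _ _)
        rw [h1, h2, map_mul, map_mul, map_mul, mul_mul_mul_comm (π p), mul_mul_mul_comm (π p * _)] }
  refine ⟨τ.ker.map P.subtype, fun g => ?_⟩
  have hτ : ∀ p : P, τ p = 1 ↔ tr h (p : G) ∈ U := by
    intro p
    have h1 : τ p = π (p * ⟨cj h 1 p, hm 1 p⟩ * ⟨cj h 2 p, hm 2 p⟩) := by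
      rw [map_mul, map_mul]; rfl
    rw [h1, hπ]; rfl
  constructor
  · rintro ⟨p, hp, rfl⟩
    exact ⟨p.2, (hτ p).1 hp⟩
  · rintro ⟨hg, hg1⟩
    exact ⟨⟨g, hg⟩, (hτ ⟨g, hg⟩).2 hg1, rfl⟩

theorem Stp.phi_cj (A : Stp x E T U P h) (n : ℕ) (p : G) : phi x k (cj h n p) = cj h n (phi x k p) :=
  A.level.phi_cj n p

theorem Stp.phi_surj (B : Base x E) (A : Stp x E T U P h) (X : Expo U k) {e : G} (he : e ∈ E) :
    ∃ p ∈ P, phi x k p = e := by
  obtain ⟨u, hu, hue⟩ := A.level.pi_surj B X he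
  obtain ⟨p, hp, hpu⟩ := A.trans u hu
  refine ⟨p, hp, ?_⟩
  unfold phi
  rw [hpu, B.xx_mul, hue]

/-! ### Elements acting trivially on `P / U` -/

/-- An element of `C(x) ∩ C(E) ∩ N(P) ∩ N(U)` acts trivially on `P / U`. -/
theorem Stp.triv (B : Base x E) (A : Stp x E T U P h) (X : Expo U k) {g : G} (hgx : x * g = g * x)
    (hgE : ∀ e ∈ E, e * g = g * e) (hgP : ∀ p ∈ P, g * p * g⁻¹ ∈ P) (hgU : ∀ u ∈ U, g * u * g⁻¹ ∈ U) :
    ∀ p ∈ P, g * p * g⁻¹ * p⁻¹ ∈ U := by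
  let R : G → Prop := fun g => (∀ p ∈ P, g * p * g⁻¹ ∈ P ∧ g * p * g⁻¹ * p⁻¹ ∈ U) ∧ ∀ u ∈ U, g * u * g⁻¹ ∈ U
  have hRmul : ∀ a b, R a → R b → R (a * b) := by
    intro a b ha hb
    refine ⟨fun p hp => ?_, fun u hu => ?_⟩
    · have h1 := hb.1 p hp
      have h2 := ha.1 _ h1.1
      refine ⟨?_, ?_⟩
      · have h3 : a * b * p * (a * b)⁻¹ = a * (b * p * b⁻¹) * a⁻¹ := by group
        rw [h3]; exact h2.1
      · have h3 : a * b * p * (a * b)⁻¹ * p⁻¹ = (a * (b * p * b⁻¹) * a⁻¹ * (b * p * b⁻¹)⁻¹) *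
            (b * p * b⁻¹ * p⁻¹) := by group
        rw [h3]; exact U.mul_mem h2.2 h1.2
    · have h3 : a * b * u * (a * b)⁻¹ = a * (b * u * b⁻¹) * a⁻¹ := by group
      rw [h3]; exact ha.2 _ (hb.2 u hu)
  have hRpow : ∀ a, R a → ∀ n : ℕ, R (a ^ n) := by
    intro a ha n
    induction n with
    | zero =>
      rw [pow_zero]
      exact ⟨fun p hp => ⟨by simpa using hp, by simp [U.one_mem]⟩, fun u hu => by simpa using hu⟩
    | succ n ih => rw [pow_succ]; exact hRmul _ _ ih ha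
  have hgN : g ∈ Nx x U := mem_Nx_of_comm B hgU hgx
  -- `g` fixes `phi`
  have hphi : ∀ p ∈ P, phi x k (g * p * g⁻¹) = phi x k p := by
    intro p hp
    have h1 : phi x k (p * g⁻¹) = phi x k p := by
      rw [A.level.phi_mul B (A.nx hp) ((Nx x U).inv_mem hgN),
        phi_of_comm B ((show Commute g x from hgx.symm).inv_left).eq, mul_one, mul_inv_cancel, mul_one]
    rw [mul_assoc, A.level.phi_mul B hgN ((Nx x U).mul_mem (A.nx hp) ((Nx x U).inv_mem hgN)),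
      phi_of_comm B hgx.symm, one_mul, h1, ← hgE _ (A.phi_mem B X hp), mul_inv_cancel_right]
  have hR0 : ∀ p ∈ P, g * p * g⁻¹ * p⁻¹ ∈ rr x U := by
    intro p hp
    apply A.rr_of_phi B X (P.mul_mem (hgP p hp) (P.inv_mem hp))
    rw [A.phi_mul B X (hgP p hp) (P.inv_mem hp), hphi p hp, A.phi_inv B X hp]
    exact B.sq _ (A.phi_mem B X hp)
  -- `g²` acts trivially
  have hg2 : R (g * g) := by
    refine ⟨fun p hp => ?_, fun u hu => ?_⟩
    · have h1 := hgP _ (hgP p hp)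
      have h2 : g * g * p * (g * g)⁻¹ = g * (g * p * g⁻¹) * g⁻¹ := by group
      refine ⟨by rw [h2]; exact h1, ?_⟩
      rcases (A.level.mem_rr B).1 (hR0 p hp) with h3 | h3
      · have h4 : g * g * p * (g * g)⁻¹ * p⁻¹ = g * (g * p * g⁻¹ * p⁻¹) * g⁻¹ * (g * p * g⁻¹ * p⁻¹) := by
          group
        rw [h4]; exact U.mul_mem (hgU _ h3) h3
      · -- `g p g⁻¹ p⁻¹ = x u`
        set u := x * (g * p * g⁻¹ * p⁻¹) with hu
        have h5 : g * p * g⁻¹ * p⁻¹ = x * u := by rw [hu, B.xx_mul]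
        have h4 : g * g * p * (g * g)⁻¹ * p⁻¹ = g * (x * u) * g⁻¹ * (x * u) := by
          rw [← h5]; group
        have h6 : g * (x * u) * g⁻¹ * (x * u) = (x * (g * u * g⁻¹) * x) * u := by
          calc g * (x * u) * g⁻¹ * (x * u) = (g * x) * u * g⁻¹ * (x * u) := by group
            _ = (x * g) * u * g⁻¹ * (x * u) := by rw [hgx]
            _ = (x * (g * u * g⁻¹) * x) * u := by group
        rw [h4, h6, A.level.inv' B (hgU u h3)]
        exact U.mul_mem (U.inv_mem (hgU u h3)) h3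
    · have h2 : g * g * u * (g * g)⁻¹ = g * (g * u * g⁻¹) * g⁻¹ := by group
      rw [h2]; exact hgU _ (hgU u hu)
  -- an odd power of `g` is a 2-element, in `E⟨x⟩`
  obtain ⟨a, m, hm, hN⟩ := Nat.exists_eq_two_pow_mul_odd (n := orderOf g) (orderOf_pos g).ne'
  have hgm : R (g ^ m) := by
    have h1 : (g ^ m) ^ 2 ^ a = 1 := by
      rw [← pow_mul, mul_comm, ← hN]; exact pow_orderOf_eq_one g
    have h2 : x * g ^ m = g ^ m * x := ((show Commute x g from hgx).pow_right m).eq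
    have h3 : ∀ e ∈ E, e * g ^ m = g ^ m * e := fun e he =>
      ((show Commute e g from hgE e he).pow_right m).eq
    have h4 := A.F_le (B.mem_of_elt ⟨a, h1⟩ h2 h3)
    exact ⟨fun p hp => ⟨P.mul_mem (P.mul_mem h4 hp) (P.inv_mem h4), A.comm_mem B X h4 hp⟩,
      fun u hu => A.U_nP B h4 hu⟩
  obtain ⟨r, hr⟩ := hm
  have hle : r ≤ orderOf g := by
    have h1 : 1 * m ≤ 2 ^ a * m := Nat.mul_le_mul_right m (Nat.one_le_two_pow)
    omega
  have h5 : g ^ m * (g * g) ^ (orderOf g - r) = g := by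
    rw [← pow_two, ← pow_mul, ← pow_add]
    have h6 : m + 2 * (orderOf g - r) = orderOf g * 2 + 1 := by omega
    rw [h6, pow_succ, pow_mul, pow_orderOf_eq_one, one_pow, one_mul]
  have h7 := hRmul _ _ hgm (hRpow _ hg2 (orderOf g - r))
  rw [h5] at h7
  exact fun p hp => (h7.1 p hp).2

end

/-! ### The subgroup `V` -/

/-- `V` is the subgroup of index 2 of `P` containing `U` and `[P, h]`. -/
structure VV (x : G) (E T U P V : Subgroup G) (h : G) [Finite G] : Prop where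
  stp : Stp x E T U P h
  mem : ∀ g, g ∈ V ↔ g ∈ P ∧ tr h g ∈ U

section

variable [Finite G]

theorem VV.le (A : VV x E T U P V h) : V ≤ P := fun g hg => ((A.mem g).1 hg).1

theorem VV.U_le (A : VV x E T U P V h) : U ≤ V := fun u hu =>
  (A.mem u).2 ⟨A.stp.UP hu, U.mul_mem (U.mul_mem hu (A.stp.level.hU_pow 1 hu)) (A.stp.level.hU_pow 2 hu)⟩

theorem VV.x_notMem (B : Base x E) (A : VV x E T U P V h) : x ∉ V := by
  intro hx
  have h1 := ((A.mem x).1 hx).2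
  unfold tr at h1
  rw [A.stp.level.cj_x, A.stp.level.cj_x, B.hx, one_mul] at h1
  exact A.stp.level.x_notMem B h1

theorem VV.hV (A : VV x E T U P V h) : ∀ v ∈ V, h * v * h⁻¹ ∈ V := by
  intro v hv
  have h1 := (A.mem v).1 hv
  refine (A.mem _).2 ⟨A.stp.hP v h1.1, ?_⟩
  have h2 : tr h (h * v * h⁻¹) = h * tr h v * h⁻¹ := by
    have h3 : h * v * h⁻¹ = cj h 1 v := by rw [cj_succ, cj_zero]
    unfold tr
    rw [h3, cj_cj, cj_cj]
    have h4 : cj h 1 (v * cj h 1 v * cj h 2 v) = h * (v * cj h 1 v * cj h 2 v) * h⁻¹ := by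
      rw [cj_succ, cj_zero]
    rw [← h4, cj_mul, cj_mul, cj_cj, cj_cj]
  rw [h2]
  exact A.stp.level.hU _ h1.2

theorem VV.cjV (A : VV x E T U P V h) (n : ℕ) {v : G} (hv : v ∈ V) : cj h n v ∈ V := cj_mem A.hV n hv

theorem VV.phi_tr (B : Base x E) (A : VV x E T U P V h) (X : Expo U k) {p : G} (hp : p ∈ P) :
    phi x k (tr h p) = 1 := by
  have hE := A.stp.phi_mem B X hp
  unfold tr
  have h1 : cj h 1 p ∈ P := cj_mem A.stp.hP 1 hp
  have h2 : cj h 2 p ∈ P := cj_mem A.stp.hP 2 hp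
  rw [A.stp.phi_mul B X (P.mul_mem hp h1) h2, A.stp.phi_mul B X hp h1, A.stp.phi_cj, A.stp.phi_cj,
    A.stp.level.cj_two B hE]
  exact B.sq _ (E.mul_mem hE (A.stp.level.cjE B 1 hE))

theorem VV.cover (B : Base x E) (A : VV x E T U P V h) (X : Expo U k) {p : G} (hp : p ∈ P) :
    p ∈ V ∨ x * p ∈ V := by
  have h1 : cj h 1 p ∈ P := cj_mem A.stp.hP 1 hp
  have h2 : cj h 2 p ∈ P := cj_mem A.stp.hP 2 hp
  have htr : tr h p ∈ P := P.mul_mem (P.mul_mem hp h1) h2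
  have h3 := A.stp.rr_of_phi B X htr (A.phi_tr B X hp)
  rcases (A.stp.level.mem_rr B).1 h3 with h4 | h4
  · exact Or.inl ((A.mem p).2 ⟨hp, h4⟩)
  · right
    refine (A.mem _).2 ⟨P.mul_mem A.stp.xP hp, ?_⟩
    -- `tr (x p) = x p x p' x p''`
    unfold tr
    rw [cj_mul, cj_mul, A.stp.level.cj_x, A.stp.level.cj_x]
    set p1 := cj h 1 p with hp1
    set p2 := cj h 2 p with hp2
    -- `x p x p1 x p2 = x (p x p⁻¹ x⁻¹)... `
    have c1 := A.stp.comm_mem B X hp A.stp.xP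
    have c2 := A.stp.comm_mem B X (P.mul_mem hp h1) A.stp.xP
    have h5 : x * p * (x * p1) * (x * p2) =
        (x * (p * x * p⁻¹ * x⁻¹) * x⁻¹) * (x * x) * (p * p1 * x * (p * p1)⁻¹ * x⁻¹) *
          (x * (p * p1 * p2)) := by group
    rw [h5, B.hx, mul_one]
    have h6 : x * (p * x * p⁻¹ * x⁻¹) * x⁻¹ ∈ U := A.stp.level.conj_mem c1
    exact U.mul_mem (U.mul_mem h6 c2) h4

theorem VV.nP (B : Base x E) (A : VV x E T U P V h) (X : Expo U k) {p v : G} (hp : p ∈ P) (hv : v ∈ V) :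
    p * v * p⁻¹ ∈ V := by
  have h1 := A.stp.comm_mem B X hp (A.le hv)
  have h2 := V.mul_mem (A.U_le h1) hv
  have h3 : p * v * p⁻¹ * v⁻¹ * v = p * v * p⁻¹ := by group
  rwa [h3] at h2

theorem VV.U_of_phi (B : Base x E) (A : VV x E T U P V h) (X : Expo U k) {v : G} (hv : v ∈ V)
    (h1 : phi x k v = 1) : v ∈ U := by
  have h2 := A.stp.rr_of_phi B X (A.le hv) h1
  rcases (A.stp.level.mem_rr B).1 h2 with h3 | h3
  · exact h3
  · exfalso
    apply A.x_notMem B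
    have h4 := V.mul_mem (A.U_le h3) (V.inv_mem hv)
    rwa [mul_inv_cancel_right] at h4

theorem VV.phi_surj (B : Base x E) (A : VV x E T U P V h) (X : Expo U k) {e : G} (he : e ∈ E) :
    ∃ v ∈ V, phi x k v = e := by
  obtain ⟨p, hp, hpe⟩ := A.stp.phi_surj B X he
  rcases A.cover B X hp with h1 | h1
  · exact ⟨p, h1, hpe⟩
  · refine ⟨x * p, h1, ?_⟩
    rw [A.stp.phi_mul B X A.stp.xP hp, Stp.phi_x B, one_mul, hpe]

/-- two elements of `V` with the same image differ by an element of `U` -/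
theorem VV.eq_mul (B : Base x E) (A : VV x E T U P V h) (X : Expo U k) {v w : G} (hv : v ∈ V) (hw : w ∈ V)
    (h1 : phi x k v = phi x k w) : v⁻¹ * w ∈ U := by
  apply A.U_of_phi B X (V.mul_mem (V.inv_mem hv) hw)
  rw [A.stp.phi_mul B X (P.inv_mem (A.le hv)) (A.le hw), A.stp.phi_inv B X (A.le hv), h1]
  exact B.sq _ (A.stp.phi_mem B X (A.le hw))

/-! ### The action of `T` on `E` -/

/-- An element of `T` which moves `e0 ∈ E` swaps `e0` and its image. -/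
theorem Syl.swap (B : Base x E) (S : Syl x E T) {t e0 : G} (ht : t ∈ T) (he0 : e0 ∈ E)
    (hne : t * e0 * t⁻¹ ≠ e0) : t * (t * e0 * t⁻¹) * t⁻¹ = e0 := by
  have tmul : ∀ p q : G, t * (p * q) * t⁻¹ = (t * p * t⁻¹) * (t * q * t⁻¹) := fun p q => by group
  have he01 : e0 ≠ 1 := by
    rintro rfl
    exact hne (by group)
  set f0 := t * e0 * t⁻¹ with hf0
  have hf0E : f0 ∈ E := S.nE t ht e0 he0
  have hf01 : f0 ≠ 1 := by
    intro hc
    apply he01
    have : e0 = t⁻¹ * f0 * t := by rw [hf0]; group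
    rw [this, hc]; group
  rcases B.mem_cases he0 hf0E he01 hf01 hne.symm (S.nE t ht f0 hf0E) with h1 | h1 | h1 | h1
  · exfalso
    apply hf01
    have : f0 = t⁻¹ * (t * f0 * t⁻¹) * t := by group
    rw [this, h1]; group
  · exact h1
  · exfalso
    apply hne
    have h3 : f0 = t⁻¹ * (t * f0 * t⁻¹) * t := by group
    rw [h3, h1, hf0]; group
  · -- then `t` has order 3 on `E`
    exfalso
    have h4 : t * (e0 * f0) * t⁻¹ = e0 := by
      rw [tmul, ← hf0, h1, B.commE he0 hf0E, ← mul_assoc, B.sq f0 hf0E, one_mul]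
    have h5 : t ^ 3 * e0 * (t ^ 3)⁻¹ = e0 := by
      have : t ^ 3 * e0 * (t ^ 3)⁻¹ = t * (t * (t * e0 * t⁻¹) * t⁻¹) * t⁻¹ := by
        rw [pow_succ, pow_two]; group
      rw [this, ← hf0, h1, h4]
    obtain ⟨n, hn⟩ := exists_pow_of_mem S.two ht
    have h8 : ∀ m : ℕ, (t ^ 3) ^ m * e0 * ((t ^ 3) ^ m)⁻¹ = e0 := by
      intro m
      induction m with
      | zero => group
      | succ m ih =>
        rw [pow_succ]
        have : (t ^ 3) ^ m * t ^ 3 * e0 * ((t ^ 3) ^ m * t ^ 3)⁻¹ =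
          (t ^ 3) ^ m * (t ^ 3 * e0 * (t ^ 3)⁻¹) * ((t ^ 3) ^ m)⁻¹ := by group
        rw [this, h5, ih]
    obtain ⟨m, hm⟩ : ∃ m : ℕ, (t ^ 3) ^ m = t := by
      apply exists_pow_eq_self_of_coprime
      have h9 : orderOf t ∣ 2 ^ n := orderOf_dvd_of_pow_eq_one hn
      exact (Nat.Coprime.coprime_dvd_left h9 (by
        apply Nat.Coprime.pow_left; norm_num)).symm
    apply hne
    have h10 := h8 m
    rw [hm] at h10
    exact h10

theorem Syl.sq_comm (B : Base x E) (S : Syl x E T) {t : G} (ht : t ∈ T) :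
    ∀ e ∈ E, e * (t * t) = (t * t) * e := by
  intro e he
  have h1 : (t * t) * e * (t * t)⁻¹ = e := by
    have h2 : (t * t) * e * (t * t)⁻¹ = t * (t * e * t⁻¹) * t⁻¹ := by group
    rw [h2]
    by_cases h3 : t * e * t⁻¹ = e
    · rw [h3, h3]
    · exact S.swap B ht he h3
  rw [mul_inv_eq_iff_eq_mul] at h1
  exact h1.symm

/-- `t⁻¹ h t` acts on `E` as `h²`. -/
theorem Syl.inv_h (B : Base x E) (S : Syl x E T) (L : Level x E U h) {t : G} (ht : t ∈ T)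
    (htE : ∃ e ∈ E, t * e * t⁻¹ ≠ e) : ∀ e ∈ E, (t⁻¹ * h * t) * e * (t⁻¹ * h * t)⁻¹ = cj h 2 e := by
  obtain ⟨e0, he0, hne⟩ := htE
  have hsw := S.swap B ht he0 hne
  have tmul : ∀ p q : G, t * (p * q) * t⁻¹ = (t * p * t⁻¹) * (t * q * t⁻¹) := fun p q => by group
  have he01 : e0 ≠ 1 := by
    rintro rfl
    exact hne (by group)
  set f0 := t * e0 * t⁻¹ with hf0
  have hf0E : f0 ∈ E := S.nE t ht e0 he0
  have hf01 : f0 ≠ 1 := by
    intro hc
    apply he01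
    have : e0 = t⁻¹ * f0 * t := by rw [hf0]; group
    rw [this, hc]; group
  have i1 : t⁻¹ * f0 * t = e0 := by rw [hf0]; group
  have i2 : t⁻¹ * e0 * t = f0 := by
    have : t⁻¹ * e0 * t = t⁻¹ * (t * f0 * t⁻¹) * t := by rw [hsw]
    rw [this]; group
  have i3 : t⁻¹ * (e0 * f0) * t = e0 * f0 := by
    have : t⁻¹ * (e0 * f0) * t = (t⁻¹ * e0 * t) * (t⁻¹ * f0 * t) := by group
    rw [this, i1, i2, B.commE hf0E he0]
  have key : ∀ e, (t⁻¹ * h * t) * e * (t⁻¹ * h * t)⁻¹ = t⁻¹ * (cj h 1 (t * e * t⁻¹)) * t := by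
    intro e; rw [cj_succ, cj_zero]; group
  have hz : e0 * f0 ∈ E := E.mul_mem he0 hf0E
  have h0 : (t⁻¹ * h * t) * e0 * (t⁻¹ * h * t)⁻¹ = cj h 2 e0 ∧
      (t⁻¹ * h * t) * f0 * (t⁻¹ * h * t)⁻¹ = cj h 2 f0 := by
    rw [key, key, ← hf0, hsw]
    have m1 := L.cjE B 1 he0
    have c1 : cj h 1 e0 ≠ e0 := by
      have := L.h3 e0 he0 he01
      rw [cj_succ, cj_zero]; exact this
    have n1 : cj h 1 e0 ≠ 1 := fun hc => he01 (cj_eq_one h 1 hc)
    have c3 := L.cj_three B he0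
    rcases B.mem_cases he0 hf0E he01 hf01 (Ne.symm hne) m1 with h1 | h1 | h1 | h1
    · exact absurd h1 n1
    · exact absurd h1 c1
    · -- `h e0 = f0`
      have h2 : cj h 1 f0 = e0 * f0 := by
        rw [← h1, cj_cj, show (1 : ℕ) + 1 = 2 by norm_num, L.cj_two B he0]
      have h3 : cj h 2 f0 = e0 := by
        rw [← h1, cj_cj]; exact c3
      rw [h2, h1, i3, i1, h3, L.cj_two B he0, h1]
      exact ⟨rfl, rfl⟩
    · -- `h e0 = z`
      have h4 : cj h 2 e0 = f0 := by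
        rw [L.cj_two B he0, h1, ← mul_assoc, B.sq e0 he0, one_mul]
      have h2 : cj h 1 f0 = e0 := by
        rw [← h4, cj_cj]; exact c3
      have h3 : cj h 2 f0 = e0 * f0 := by
        rw [show (2 : ℕ) = 1 + 1 by norm_num, ← cj_cj, h2, h1]
      rw [h2, h1, i3, i2, h3, h4]
      exact ⟨rfl, rfl⟩
  intro e he
  rcases B.mem_cases he0 hf0E he01 hf01 (Ne.symm hne) he with h7 | h7 | h7 | h7
  · rw [h7, cj_one]; group
  · rw [h7, h0.1]
  · rw [h7, h0.2]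
  · rw [h7]
    have : (t⁻¹ * h * t) * (e0 * f0) * (t⁻¹ * h * t)⁻¹ =
        ((t⁻¹ * h * t) * e0 * (t⁻¹ * h * t)⁻¹) * ((t⁻¹ * h * t) * f0 * (t⁻¹ * h * t)⁻¹) := by group
    rw [this, h0.1, h0.2]
    exact (cj_mul h 2 e0 f0).symm

theorem Stp.h_inv (A : Stp x E T U P h) {p : G} (hp : p ∈ P) : h⁻¹ * p * h ∈ P := by
  obtain ⟨n, hn⟩ := exists_pow_eq_inv h
  have h1 : cj h n p ∈ P := cj_mem A.hP n hp
  unfold cj at h1
  rwa [hn, inv_inv] at h1

/-- `T` normalises `V`. -/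
theorem VV.nT (B : Base x E) (S : Syl x E T) (A : VV x E T U P V h) (X : Expo U k) {t v : G} (ht : t ∈ T)
    (hv : v ∈ V) : t * v * t⁻¹ ∈ V := by
  have L := A.stp.level
  have hv1 := (A.mem v).1 hv
  by_cases htE : ∀ e ∈ E, t * e * t⁻¹ = e
  · have h1 := B.mem_of_elt (exists_pow_of_mem S.two ht) (S.cx t ht) (fun e he => by
      have := htE e he
      rw [mul_inv_eq_iff_eq_mul] at this
      exact this.symm)
    exact A.nP B X (A.stp.F_le h1) hv
  push Not at htE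
  have hact := S.inv_h B L ht htE
  -- `g = h⁻² t⁻¹ h t` acts trivially on `P / U`
  set g := h⁻¹ * (h⁻¹ * (t⁻¹ * h * t)) with hg
  have hxh : x * h⁻¹ = h⁻¹ * x := ((show Commute x h from L.hx.symm).inv_right).eq
  have hxt := S.cx t ht
  have hxt' : x * t⁻¹ = t⁻¹ * x := ((show Commute x t from hxt).inv_right).eq
  have hgx : x * g = g * x := by
    have c1 : Commute x h := L.hx.symm
    have c2 : Commute x t := hxt
    have c3 := c1.inv_right
    exact (c3.mul_right (c3.mul_right ((c2.inv_right.mul_right c1).mul_right c2))).eq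
  have hgE : ∀ e ∈ E, e * g = g * e := by
    intro e he
    have h1 : g * e * g⁻¹ = h⁻¹ * (h⁻¹ * ((t⁻¹ * h * t) * e * (t⁻¹ * h * t)⁻¹) * h) * h := by
      rw [hg]; simp only [mul_assoc, mul_inv_rev, inv_inv]
    have h2 : g * e * g⁻¹ = e := by
      rw [h1, hact e he, cj_succ, cj_succ, cj_zero]; group
    rw [mul_inv_eq_iff_eq_mul] at h2
    exact h2.symm
  have ht' : t⁻¹ ∈ T := T.inv_mem ht
  have hgP : ∀ p ∈ P, g * p * g⁻¹ ∈ P := by
    intro p hp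
    have h1 : g * p * g⁻¹ = h⁻¹ * (h⁻¹ * (t⁻¹ * (h * (t * p * t⁻¹) * h⁻¹) * t⁻¹⁻¹) * h) * h := by
      rw [hg]; simp only [mul_assoc, mul_inv_rev, inv_inv]
    rw [h1]
    exact A.stp.h_inv (A.stp.h_inv (A.stp.tP _ ht' _ (A.stp.hP _ (A.stp.tP _ ht _ hp))))
  have hNh := L.h_mem_Nx B
  have hNt : t ∈ Nx x U := mem_Nx_of_comm B (A.stp.tU t ht) hxt
  have hgN : g ∈ Nx x U := (Nx x U).mul_mem ((Nx x U).inv_mem hNh) ((Nx x U).mul_mem ((Nx x U).inv_mem hNh)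
    ((Nx x U).mul_mem ((Nx x U).mul_mem ((Nx x U).inv_mem hNt) hNh) hNt))
  have htriv := A.stp.triv B X hgx hgE hgP (fun u hu => Nx_U B hgN hu)
  -- `h³` acts trivially
  have h3triv : ∀ p ∈ P, ∃ u ∈ U, cj h 3 p = u * p := by
    intro p hp
    have h1 := A.stp.triv B X (g := h ^ 3) ((show Commute x h from L.hx.symm).pow_right 3).eq
      (fun e he => by
        have := L.cj_three B he
        unfold cj at this
        rw [mul_inv_eq_iff_eq_mul] at this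
        exact this.symm)
      (fun p hp => cj_mem A.stp.hP 3 hp) (fun u hu => L.hU_pow 3 hu) p hp
    refine ⟨_, h1, ?_⟩
    unfold cj; group
  -- (c1)
  have c1 : ∀ p ∈ P, ∃ u ∈ U, cj h 1 (t * p * t⁻¹) = u * (t * cj h 2 p * t⁻¹) := by
    intro p hp
    have h1 := htriv p hp
    have h2 : t * cj h 2 (g * p * g⁻¹ * p⁻¹) * t⁻¹ ∈ U := A.stp.tU t ht _ (L.hU_pow 2 h1)
    refine ⟨_, h2, ?_⟩
    have e2 : ∀ q, cj h 2 q = h * (h * q * h⁻¹) * h⁻¹ := fun q => by rw [cj_succ, cj_succ, cj_zero]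
    rw [e2, e2, cj_succ, cj_zero, hg]
    simp only [mul_assoc, mul_inv_rev, inv_inv, mul_inv_cancel_left, inv_mul_cancel_left, mul_inv_cancel,
      mul_one]
  refine (A.mem _).2 ⟨A.stp.tP t ht v hv1.1, ?_⟩
  have hvP := hv1.1
  obtain ⟨u1, hu1, e1⟩ := c1 v hvP
  obtain ⟨u2, hu2, e2⟩ := c1 (cj h 2 v) (cj_mem A.stp.hP 2 hvP)
  obtain ⟨u3, hu3, e3⟩ := h3triv v hvP
  have e4 : cj h 2 (t * v * t⁻¹) = (cj h 1 u1 * u2 * (t * cj h 1 u3 * t⁻¹)) * (t * cj h 1 v * t⁻¹) := by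
    have h1 : cj h 2 (t * v * t⁻¹) = cj h 1 (cj h 1 (t * v * t⁻¹)) := by rw [cj_cj]
    have h2 : cj h 2 (cj h 2 v) = cj h 1 (cj h 3 v) := by rw [cj_cj, cj_cj]
    rw [h1, e1, cj_mul, e2, h2, e3, cj_mul]; group
  unfold tr
  rw [e4, e1]
  set p1 := cj h 1 v with hp1
  set p2 := cj h 2 v with hp2
  have hp1P : p1 ∈ P := cj_mem A.stp.hP 1 hvP
  have hp2P : p2 ∈ P := cj_mem A.stp.hP 2 hvP
  set u4 := cj h 1 u1 * u2 * (t * cj h 1 u3 * t⁻¹) with hu4
  have hu4U : u4 ∈ U := U.mul_mem (U.mul_mem (L.hU_pow 1 hu1) hu2) (A.stp.tU t ht _ (L.hU_pow 1 hu3))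
  have h5 : t * v * t⁻¹ * (u1 * (t * p2 * t⁻¹)) * (u4 * (t * p1 * t⁻¹)) =
      ((t * v * t⁻¹) * u1 * (t * v * t⁻¹)⁻¹) * ((t * (v * p2) * t⁻¹) * u4 * (t * (v * p2) * t⁻¹)⁻¹) *
        (t * ((v * (p2 * p1 * p2⁻¹ * p1⁻¹) * v⁻¹) * (v * p1 * p2)) * t⁻¹) := by group
  rw [h5]
  refine U.mul_mem (U.mul_mem ?_ ?_) ?_
  · exact A.stp.U_nP B (A.stp.tP t ht v hvP) hu1
  · exact A.stp.U_nP B (A.stp.tP t ht _ (P.mul_mem hvP hp2P)) hu4U
  · apply A.stp.tU t ht
    exact U.mul_mem (A.stp.U_nP B hvP (A.stp.comm_mem B X hp2P hp1P)) hv1.2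

end

end Cfsg.Agent.GH.N2
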