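import Cfsg.Agent.GH.N2.EndC
import Cfsg.Agent.GH.N2.Swap

/-!
# GH-L2, `|Q| = 2`, `|D| = 4`: the start, `T < S`
-/

set_option autoImplicit false
set_option linter.unusedSectionVars false

universe u

namespace Cfsg.Agent.GH.N2

open Cfsg.Agent.GH.E (rr self_mem_rr le_rr rr_mono cj cj_mul cj_inv cj_one cj_zero cj_cj cj_injective
  cj_eq_one cj_succ cj_mem Expo pow_two_pow_succ pow_two_pow_succ' conj_pow' phi card_eq_ncard_orbit_mul
  exists_conj_le exists_pow_eq_inv exists_sylow_eq lt_inf_normalizer)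

variable {G : Type u} [Group G] {x h : G} {E T U P V : Subgroup G} {k : ℕ}

section

variable [Finite G]

/-- 2-subgroups of `C(x)` have order at most `|T|`. -/
theorem Syl.card_le_of (S : Syl x E T) {Q : Subgroup G} (hQ : IsPGroup 2 Q)
    (hq : ∀ q ∈ Q, x * q = q * x) : Nat.card Q ≤ Nat.card T := by
  obtain ⟨y, -, hyT⟩ := exists_conj_le (Y := Subgroup.centralizer {x}) (P := T) (Q := Q)
    (fun t ht => Subgroup.mem_centralizer_singleton_iff.2 (S.cx t ht).symm)
    (fun t ht => Subgroup.mem_centralizer_singleton_iff.2 (hq t ht).symm) S.two hQ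
    (fun R hR hTR hRC => S.max R hR (fun q hq => (Subgroup.mem_centralizer_singleton_iff.1 (hRC hq)).symm) hTR)
  have h1 : Q.map (MulAut.conj y).toMonoidHom ≤ T := by
    rintro _ ⟨q, hq, rfl⟩
    exact hyT q hq
  have h2 : Nat.card (Q.map (MulAut.conj y).toMonoidHom) = Nat.card Q :=
    Nat.card_congr (Q.equivMapOfInjective _ (MulAut.conj y).injective).symm.toEquiv
  rw [← h2]
  exact Subgroup.card_le_of_le h1

/-- An element of `F` which is not conjugate to `x`, if `T` is not a Sylow 2-subgroup. -/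
theorem Syl.exists_z0 (B : Base x E) (S : Syl x E T) {R : Subgroup G} (hR : IsPGroup 2 R) (hTR : T < R) :
    ∃ z0 ∈ rr x E, z0 ≠ 1 ∧ ∀ g : G, g * x * g⁻¹ ≠ z0 := by
  have : Fact (Nat.Prime 2) := ⟨Nat.prime_two⟩
  have hne : Nontrivial R := by
    obtain ⟨r, hr, hrT⟩ := SetLike.exists_of_lt hTR
    exact ⟨⟨⟨r, hr⟩, 1, fun hc => hrT (by
      have := congrArg Subtype.val hc
      simp only [Subgroup.coe_one] at this
      rw [this]; exact T.one_mem)⟩⟩
  have h1 := hR.center_nontrivial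
  obtain ⟨⟨z0, hz0⟩, hz01⟩ := exists_ne (1 : Subgroup.center R)
  have hcomm : ∀ r ∈ R, (z0 : G) * r = r * z0 := by
    intro r hr
    have := Subgroup.mem_center_iff.1 hz0 ⟨r, hr⟩
    exact (congrArg Subtype.val this).symm
  have hz0F : (z0 : G) ∈ rr x E := by
    apply B.mem_of_elt (exists_pow_of_mem hR z0.2)
    · exact (hcomm x (hTR.le S.xT)).symm
    · exact fun e he => (hcomm e (hTR.le (S.ET he))).symm
  refine ⟨z0, hz0F, fun hc => hz01 (Subtype.ext (Subtype.ext hc)), fun g hg => ?_⟩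
  have h2 := S.card_le_of (hR.map (MulAut.conj g⁻¹).toMonoidHom) (conj_centr_map hg hcomm)
  have h3 : Nat.card (R.map (MulAut.conj g⁻¹).toMonoidHom) = Nat.card R :=
    Nat.card_congr (R.equivMapOfInjective _ (MulAut.conj g⁻¹).injective).symm.toEquiv
  rw [h3] at h2
  exact hTR.ne (Subgroup.eq_of_le_of_card_ge hTR.le h2)

/-- **Start**: some element normalises `F = E⟨x⟩` and moves `x`, and `F` contains an element not conjugate to `x`:
then there is a mover in `Nx x E`. -/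
theorem Level.start (B : Base x E) (L : Level x E E h) {z0 s : G} (hz0 : z0 ∈ rr x E) (hz01 : z0 ≠ 1)
    (hz0x : ∀ g : G, g * x * g⁻¹ ≠ z0) (hs : ∀ f ∈ rr x E, s * f * s⁻¹ ∈ rr x E)
    (hsx : s * x * s⁻¹ ≠ x) : s ∈ Nx x E ∧ x * (s * x * s⁻¹) ≠ 1 := by
  have hxF := self_mem_rr x E
  have inv_of : ∀ n : G, (∀ f ∈ rr x E, n * f * n⁻¹ ∈ rr x E) → ∀ f ∈ rr x E, n⁻¹ * f * n ∈ rr x E := by
    intro a ha u hu
    have h2 : Function.Injective (fun r : rr x E => (⟨a * r * a⁻¹, ha r r.2⟩ : rr x E)) := by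
      intro p q hpq
      have := congrArg Subtype.val hpq
      simp only at this
      exact Subtype.ext (mul_left_cancel (mul_right_cancel this))
    obtain ⟨⟨r, hr⟩, hr1⟩ := (Finite.injective_iff_surjective.1 h2) ⟨u, hu⟩
    have h3 := congrArg Subtype.val hr1
    simp only at h3
    rw [← h3]
    have h4 : a⁻¹ * (a * r * a⁻¹) * a = r := by group
    rw [h4]; exact hr
  have hhx : ∀ n, cj h n x = x := L.cj_x
  -- conjugate classes under `h`
  have hcjconj : ∀ (n : ℕ) (y : G), (∃ g : G, g * x * g⁻¹ = y) → ∃ g : G, g * x * g⁻¹ = cj h n y := by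
    rintro n y ⟨g, rfl⟩
    exact ⟨h ^ n * g, by unfold cj; group⟩
  have claim1 : ∀ n : G, (∀ f ∈ rr x E, n * f * n⁻¹ ∈ rr x E) → n * x * n⁻¹ ∉ E := by
    intro n hn he
    have he1 : n * x * n⁻¹ ≠ 1 := fun hc => B.x_ne_one (by
      have : x = n⁻¹ * (n * x * n⁻¹) * n := by group
      rw [this, hc]; group)
    -- all elements of `E#` are conjugate to `x`
    have hE : ∀ e ∈ E, e ≠ 1 → ∃ g : G, g * x * g⁻¹ = e := by
      intro e he' he1'
      obtain ⟨i, hi⟩ := L.trans B he he' he1 he1'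
      obtain ⟨g, hg⟩ := hcjconj i _ ⟨n, rfl⟩
      exact ⟨g, by rw [hg, hi]⟩
    -- `z0 = x f`
    have hz0E : z0 ∉ E := fun hc => by
      obtain ⟨g, hg⟩ := hE z0 hc hz01
      exact hz0x g hg
    have hf : x * z0 ∈ E := (B.mem_rr.1 hz0).resolve_left hz0E
    have hf1 : x * z0 ≠ 1 := by
      intro hc
      apply hz0x 1
      rw [one_mul, inv_one, mul_one]
      have := B.xx_mul z0
      rw [hc, mul_one] at this
      exact this
    have hxE : ∀ e ∈ E, e ≠ 1 → ∀ g : G, g * x * g⁻¹ ≠ x * e := by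
      intro e he' he1' g hg
      obtain ⟨i, hi⟩ := L.trans B he' hf he1' hf1
      obtain ⟨g', hg'⟩ := hcjconj i _ ⟨g, rfl⟩
      rw [hg, cj_mul, hhx, hi, B.xx_mul] at hg'
      exact hz0x g' hg'
    have hOx : ∀ y ∈ rr x E, (∃ g : G, g * x * g⁻¹ = y) → y ∈ E ∨ y = x := by
      rintro y hy ⟨g, hg⟩
      rcases B.mem_rr.1 hy with h1 | h1
      · exact Or.inl h1
      · right
        by_contra hne
        apply hxE _ h1 (fun hc => hne ?_) g
        · rw [B.xx_mul]; exact hg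
        · have := B.xx_mul y
          rw [hc, mul_one] at this
          exact this.symm
    set e' := n⁻¹ * x * n with he'
    have he'F : e' ∈ rr x E := inv_of n hn x hxF
    have he'E : e' ∈ E := by
      rcases hOx e' he'F ⟨n⁻¹, by rw [inv_inv]⟩ with h1 | h1
      · exact h1
      · exfalso
        apply B.hxE
        have h2 : n * x * n⁻¹ = x := by
          have : x = n * e' * n⁻¹ := by rw [he']; group
          conv_rhs => rw [this, h1]
        rw [← h2]; exact he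
    have he'1 : e' ≠ 1 := fun hc => B.x_ne_one (by
      have : x = n * e' * n⁻¹ := by rw [he']; group
      rw [this, hc]; group)
    set e'' := cj h 1 e' with he''
    have he''E : e'' ∈ E := L.cjE B 1 he'E
    have he''1 : e'' ≠ 1 := fun hc => he'1 (cj_eq_one h 1 hc)
    have hne : e'' ≠ e' := by
      have := L.h3 e' he'E he'1
      rw [he'', cj_succ, cj_zero]; exact this
    have hprod : e' * e'' ≠ 1 := fun hc => hne (by
      rw [mul_eq_one_iff_inv_eq, B.inv_eq he'E] at hc; exact hc.symm)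
    obtain ⟨g2, hg2⟩ := hE e'' he''E he''1
    have hyF : n * e'' * n⁻¹ ∈ rr x E := hn e'' (le_rr x E he''E)
    have hyE : n * e'' * n⁻¹ ∈ E := by
      rcases hOx _ hyF ⟨n * g2, by rw [← hg2]; group⟩ with h1 | h1
      · exact h1
      · exfalso
        apply hne
        rw [he', ← h1]; group
    have hy1 : n * e'' * n⁻¹ ≠ 1 := fun hc => he''1 (by
      have : e'' = n⁻¹ * (n * e'' * n⁻¹) * n := by group
      rw [this, hc]; group)
    obtain ⟨g3, hg3⟩ := hE _ (E.mul_mem he'E he''E) hprod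
    apply hxE _ hyE hy1 (n * g3)
    calc n * g3 * x * (n * g3)⁻¹ = n * (g3 * x * g3⁻¹) * n⁻¹ := by group
      _ = (n * e' * n⁻¹) * (n * e'' * n⁻¹) := by rw [hg3]; group
      _ = x * (n * e'' * n⁻¹) := by rw [he']; group
  -- `s x s⁻¹ = x f`
  have hsxF : s * x * s⁻¹ ∈ rr x E := hs x hxF
  have hf : x * (s * x * s⁻¹) ∈ E := (B.mem_rr.1 hsxF).resolve_left (claim1 s hs)
  have hf1 : x * (s * x * s⁻¹) ≠ 1 := by
    intro hc
    apply hsx
    have := B.xx_mul (s * x * s⁻¹)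
    rw [hc, mul_one] at this
    exact this.symm
  refine ⟨(mem_Nx B).2 ⟨fun e he => ?_, hf⟩, hf1⟩
  by_cases he1 : e = 1
  · rw [he1]
    have : s * 1 * s⁻¹ = 1 := by group
    rw [this]; exact E.one_mem
  -- `x e = m x m⁻¹` with `m = hⁱ s`
  obtain ⟨i, hi⟩ := L.trans B hf he hf1 he1
  have hm : (h ^ i * s) * x * (h ^ i * s)⁻¹ = x * e := by
    have h1 : (h ^ i * s) * x * (h ^ i * s)⁻¹ = cj h i (x * (x * (s * x * s⁻¹))) := by
      rw [B.xx_mul]; unfold cj; group
    rw [h1, cj_mul, hhx, hi]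
  have hhF : ∀ f ∈ rr x E, h * f * h⁻¹ ∈ rr x E := by
    intro f hf'
    rcases B.mem_rr.1 hf' with h1 | h1
    · exact le_rr x E (L.hU f h1)
    · apply B.mem_rr.2
      right
      have h2 : x * (h * f * h⁻¹) = h * (x * f) * h⁻¹ := by
        have := L.hx
        calc x * (h * f * h⁻¹) = (x * h) * f * h⁻¹ := by group
          _ = (h * x) * f * h⁻¹ := by rw [this]
          _ = h * (x * f) * h⁻¹ := by group
      rw [h2]; exact L.hU _ h1
  have hmF : ∀ f ∈ rr x E, (h ^ i * s) * f * (h ^ i * s)⁻¹ ∈ rr x E := by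
    intro f hf'
    have h1 : (h ^ i * s) * f * (h ^ i * s)⁻¹ = cj h i (s * f * s⁻¹) := by unfold cj; group
    rw [h1]
    exact cj_mem hhF i (hs f hf')
  have h2 := claim1 (s * (h ^ i * s)) (fun f hf' => by
    have h3 : s * (h ^ i * s) * f * (s * (h ^ i * s))⁻¹ = s * ((h ^ i * s) * f * (h ^ i * s)⁻¹) * s⁻¹ := by
      group
    rw [h3]; exact hs _ (hmF f hf'))
  have h3 : s * (h ^ i * s) * x * (s * (h ^ i * s))⁻¹ = s * (x * e) * s⁻¹ := by
    rw [← hm]; group
  rw [h3] at h2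
  have h4 : s * (x * e) * s⁻¹ ∈ rr x E :=
    hs _ (Subgroup.mul_mem _ hxF (le_rr x E he))
  have h5 := (B.mem_rr.1 h4).resolve_left h2
  have h6 : s * e * s⁻¹ = (x * (s * x * s⁻¹))⁻¹ * (x * (s * (x * e) * s⁻¹)) := by group
  rw [h6]
  exact E.mul_mem (E.inv_mem hf) h5

/-- If `T` is not a Sylow 2-subgroup of `G`, then there is a mover in `Nx x E`. -/
theorem exists_mover [IsSimpleGroup G] (hG : ¬ ∀ a b : G, a * b = b * a) (B : Base x E) (S : Syl x E T)
    (L : Level x E E h) (hT : ¬ ∃ R : Sylow 2 G, (R : Subgroup G) = T) :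
    ∃ s ∈ Nx x E, x * (s * x * s⁻¹) ≠ 1 := by
  obtain ⟨R, hR⟩ := S.two.exists_le_sylow
  have hlt : T < (R : Subgroup G) := lt_of_le_of_ne hR (fun hc => hT ⟨R, hc.symm⟩)
  obtain ⟨z0, hz0, hz01, hz0x⟩ := S.exists_z0 B R.isPGroup' hlt
  have h1 := lt_inf_normalizer R.isPGroup' hlt
  obtain ⟨s, hs, hsT⟩ := SetLike.exists_of_lt h1
  have hsn : ∀ t ∈ T, s * t * s⁻¹ ∈ T := fun t ht => (Subgroup.mem_normalizer_iff.1 hs.2 t).1 ht
  have hsn' : ∀ t ∈ T, s⁻¹ * t * s ∈ T := fun t ht => by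
    have := (Subgroup.mem_normalizer_iff.1 (Subgroup.inv_mem _ hs.2) t).1 ht
    rwa [inv_inv] at this
  have hsx : s * x * s⁻¹ ≠ x := by
    intro hc
    apply hsT
    have h2 : ((R : Subgroup G) ⊓ Subgroup.centralizer {x} : Subgroup G) = T := by
      apply S.max _ (R.isPGroup'.to_le inf_le_left)
      · exact fun c hc => (Subgroup.mem_centralizer_singleton_iff.1 hc.2).symm
      · exact le_inf hR (fun t ht => Subgroup.mem_centralizer_singleton_iff.2 (S.cx t ht).symm)
    rw [← h2]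
    refine ⟨hs.1, Subgroup.mem_centralizer_singleton_iff.2 ?_⟩
    rwa [mul_inv_eq_iff_eq_mul] at hc
  by_cases hsF : ∀ f ∈ rr x E, s * f * s⁻¹ ∈ rr x E
  · exact ⟨s, L.start B hz0 hz01 hz0x hsF hsx⟩
  exfalso
  by_cases hni : ∀ t ∈ T, t ∉ rr x E → t * t ∉ E
  · -- `F = Ω₁(T)`
    apply hsF
    intro f hf
    by_contra hc
    apply hni _ (hsn f (S.F_le hf)) hc
    have h2 : s * f * s⁻¹ * (s * f * s⁻¹) = s * (f * f) * s⁻¹ := by group
    rw [h2, B.rr_sq hf]
    have h3 : s * 1 * s⁻¹ = 1 := by group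
    rw [h3]; exact E.one_mem
  · push Not at hni
    obtain ⟨t1, ht1, ht1F, ht12⟩ := hni
    obtain ⟨t0, ht0, ht0F, ht02⟩ := S.exists_inv B ht1 ht1F ht12
    obtain ⟨e0, he0, hne⟩ := S.moves B ht0 ht0F
    have hf0 := S.nE t0 ht0 e0 he0
    have hsw := S.swap B ht0 he0 hne
    set z := e0 * (t0 * e0 * t0⁻¹) with hz
    have hzE : z ∈ E := E.mul_mem he0 hf0
    have hz1 : z ≠ 1 := fun hc => hne (by
      rw [hz, mul_eq_one_iff_inv_eq, B.inv_eq he0] at hc; exact hc.symm)
    have hzt : t0 * z = z * t0 := by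
      have h2 : t0 * z * t0⁻¹ = z := by
        calc t0 * z * t0⁻¹ = (t0 * e0 * t0⁻¹) * (t0 * (t0 * e0 * t0⁻¹) * t0⁻¹) := by rw [hz]; group
          _ = (t0 * e0 * t0⁻¹) * e0 := by rw [hsw]
          _ = z := B.commE hf0 he0
      rwa [mul_inv_eq_iff_eq_mul] at h2
    -- `y = s x s⁻¹` is central in `T`
    set y := s * x * s⁻¹ with hy
    have hyT : y ∈ T := hsn x S.xT
    have hyc : ∀ t ∈ T, y * t = t * y := by
      intro t ht
      have h2 := S.cx _ (hsn' t ht)
      calc y * t = s * (x * (s⁻¹ * t * s)) * s⁻¹ := by rw [hy]; group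
        _ = s * ((s⁻¹ * t * s) * x) * s⁻¹ := by rw [h2]
        _ = t * y := by rw [hy]; group
    have hyF : y ∈ rr x E := B.mem_of_elt (exists_pow_of_mem S.two hyT) (S.cx y hyT)
      (fun e he => (hyc e (S.ET he)).symm)
    have hyE : y ∉ E := by
      intro hyE
      have h2 : t0 * y * t0⁻¹ = y := by rw [← hyc t0 ht0, mul_inv_cancel_right]
      rcases B.fix_cases he0 hf0 hne hyE h2 with h3 | h3
      · apply B.x_ne_one
        have : x = s⁻¹ * y * s := by rw [hy]; group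
        rw [this, h3]; group
      · -- `x = s⁻¹ z s` is a commutator of `T`
        apply B.hxE
        have h4 := S.comm_mem B _ (hsn' t0 ht0) _ (hsn' e0 (S.ET he0))
        have h5 : s⁻¹ * t0 * s * (s⁻¹ * e0 * s) * (s⁻¹ * t0 * s)⁻¹ * (s⁻¹ * e0 * s)⁻¹ = x := by
          calc s⁻¹ * t0 * s * (s⁻¹ * e0 * s) * (s⁻¹ * t0 * s)⁻¹ * (s⁻¹ * e0 * s)⁻¹
              = s⁻¹ * ((t0 * e0 * t0⁻¹) * e0⁻¹) * s := by group
            _ = s⁻¹ * ((t0 * e0 * t0⁻¹) * e0) * s := by rw [B.inv_eq he0]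
            _ = s⁻¹ * y * s := by rw [h3, B.commE hf0 he0]
            _ = x := by rw [hy]; group
        rwa [h5] at h4
    have hyxE : x * y ∈ E := (B.mem_rr.1 hyF).resolve_left hyE
    have hyx : y = x * z := by
      have h2 : t0 * (x * y) * t0⁻¹ = x * y := by
        have h3 := S.cx t0 ht0
        have h4 := hyc t0 ht0
        calc t0 * (x * y) * t0⁻¹ = (t0 * x) * y * t0⁻¹ := by group
          _ = (x * t0) * y * t0⁻¹ := by rw [h3]
          _ = x * (t0 * y) * t0⁻¹ := by group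
          _ = x * (y * t0) * t0⁻¹ := by rw [h4]
          _ = x * y := by group
      rcases B.fix_cases he0 hf0 hne hyxE h2 with h3 | h3
      · exfalso
        apply hsx
        have := B.xx_mul y
        rw [h3, mul_one] at this
        exact this.symm
      · rw [← hz] at h3
        rw [← h3, B.xx_mul]
    refine Swap.false_of_swap hG B S ht0 ht02 (fun hc => hne ?_) L.hx L.hU L.h3 hsn (z := z) ?_ hzE hz1 hzt hsF
    · rw [← hc e0 he0, mul_inv_cancel_right]
    · rw [← hy]; exact hyx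

/-- Case without involutions outside `E⟨x⟩`: `T` is a Sylow 2-subgroup of `G`. -/
theorem sylow_of_noInv [IsSimpleGroup G] (hG : ¬ ∀ a b : G, a * b = b * a) (B : Base x E) (S : Syl x E T)
    (L : Level x E E h) (hT : ∀ t ∈ T, t ∉ rr x E → t * t ∉ E) : ∃ R : Sylow 2 G, (R : Subgroup G) = T := by
  by_contra hcon
  obtain ⟨s, hs, hs1⟩ := exists_mover hG B S L hcon
  apply false_of_noInv hG B S hT _ E h le_rfl L S.nE
  right
  refine ⟨s, hs, fun k X => ?_⟩
  have hk : k = 0 := by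
    obtain ⟨u, hu, hu1⟩ := X.ex
    by_contra hk
    obtain ⟨j, rfl⟩ := Nat.exists_eq_succ_of_ne_zero hk
    apply hu1
    rw [Nat.succ_eq_add_one, pow_two_pow_succ', B.sq u hu, one_pow]
  subst hk
  unfold phi
  rw [pow_zero, pow_one]
  exact hs1

end

end Cfsg.Agent.GH.N2
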