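import Cfsg.Agent.GH.N2.Basic

/-!
# GH-L2, `|Q| = 2`, `|D| = 4`: if `N(U⟨x⟩)` moves the class of `x`

`Stp x E T U P h`: `P` is a Sylow 2-subgroup of `Y = N(U) ∩ N(xU) ∩ C(E)`, transitive on `xU`, normalised by `T`
and by `h`.
-/

set_option autoImplicit false

namespace Cfsg.Agent.GH.N2

open Cfsg.Agent.GH.E (rr self_mem_rr le_rr rr_mono cj cj_mul cj_inv cj_one cj_zero cj_cj cj_injective
  cj_eq_one cj_succ cj_mem Expo pow_two_pow_succ pow_two_pow_succ' conj_pow' phi card_eq_ncard_orbit_mul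
  exists_conj_le exists_pow_eq_inv)

variable {G : Type*} [Group G] {x h : G} {E T U P : Subgroup G} {k : ℕ}

theorem Nx_U [Finite G] (B : Base x E) {g : G} (hg : g ∈ Nx x U) {u : G} (hu : u ∈ U) : g * u * g⁻¹ ∈ U :=
  ((mem_Nx B).1 hg).1 u hu

theorem Nx_d [Finite G] (B : Base x E) {g : G} (hg : g ∈ Nx x U) : x * (g * x * g⁻¹) ∈ U :=
  ((mem_Nx B).1 hg).2

theorem Level.h_mem_Nx [Finite G] (B : Base x E) (L : Level x E U h) : h ∈ Nx x U :=
  (mem_Nx B).2 ⟨L.hU, by rw [L.hx, mul_inv_cancel_right, B.hx]; exact U.one_mem⟩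

theorem mem_Nx_of_comm [Finite G] (B : Base x E) {g : G} (hg : ∀ u ∈ U, g * u * g⁻¹ ∈ U)
    (hx : x * g = g * x) : g ∈ Nx x U :=
  (mem_Nx B).2 ⟨hg, by rw [← hx, mul_inv_cancel_right, B.hx]; exact U.one_mem⟩

theorem Level.U_le_Nx [Finite G] (B : Base x E) (L : Level x E U h) : U ≤ Nx x U := by
  intro u hu
  refine (mem_Nx B).2 ⟨fun v hv => U.mul_mem (U.mul_mem hu hv) (U.inv_mem hu), ?_⟩
  rw [L.mul_x B hu]
  have h1 : x * (x * u⁻¹ * u⁻¹) = u⁻¹ * u⁻¹ := by rw [mul_assoc x, B.xx_mul]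
  rw [h1]
  exact U.mul_mem (U.inv_mem hu) (U.inv_mem hu)

theorem Level.x_mem_Nx [Finite G] (B : Base x E) (L : Level x E U h) : x ∈ Nx x U :=
  mem_Nx_of_comm B (fun u hu => L.conj_mem hu) rfl

theorem Level.rr_le_Nx [Finite G] (B : Base x E) (L : Level x E U h) : rr x U ≤ Nx x U := by
  intro g hg
  rcases (L.mem_rr B).1 hg with h1 | h1
  · exact L.U_le_Nx B h1
  · have h2 := (Nx x U).mul_mem (L.x_mem_Nx B) (L.U_le_Nx B h1)
    rwa [B.xx_mul] at h2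

/-- The cocycle identity. -/
theorem Level.phi_mul [Finite G] (B : Base x E) (L : Level x E U h) {a b : G} (ha : a ∈ Nx x U)
    (hb : b ∈ Nx x U) : phi x k (a * b) = phi x k a * (a * phi x k b * a⁻¹) := by
  have h1 := Nx_d B ha
  have h2 := Nx_U B ha (Nx_d B hb)
  have h3 : x * (a * b * x * (a * b)⁻¹) = x * (a * x * a⁻¹) * (a * (x * (b * x * b⁻¹)) * a⁻¹) := by
    calc x * (a * b * x * (a * b)⁻¹) = x * (a * (b * x * b⁻¹) * a⁻¹) := by group
      _ = x * (a * (x * x * (b * x * b⁻¹)) * a⁻¹) := by rw [B.hx, one_mul]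
      _ = x * (a * x * a⁻¹) * (a * (x * (b * x * b⁻¹)) * a⁻¹) := by group
  unfold phi
  rw [h3, L.mul_pow h1 h2, conj_pow']

theorem phi_of_comm (B : Base x E) {g : G} (hg : g * x = x * g) : phi x k g = 1 := by
  unfold phi
  rw [hg, mul_inv_cancel_right, B.hx, one_pow]

theorem Level.phi_U (B : Base x E) (L : Level x E U h) (X : Expo U k) {u : G} (hu : u ∈ U) :
    phi x k u = 1 := by
  unfold phi
  have h1 : x * (u * x * u⁻¹) = u⁻¹ * u⁻¹ := by
    rw [L.mul_x B hu, mul_assoc x u⁻¹ u⁻¹, B.xx_mul]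
  rw [h1]
  exact sq_pow_eq_one X (U.inv_mem hu)

theorem Level.phi_mem [Finite G] (B : Base x E) (L : Level x E U h) (X : Expo U k) {g : G}
    (hg : g ∈ Nx x U) : phi x k g ∈ E := L.pi_mem X (Nx_d B hg)

theorem Level.phi_cj (L : Level x E U h) (n : ℕ) (p : G) : phi x k (cj h n p) = cj h n (phi x k p) := by
  have h1 : cj h n (x * (p * x * p⁻¹)) = x * (cj h n p * x * (cj h n p)⁻¹) := by
    rw [cj_mul, cj_mul, cj_mul, cj_inv, L.cj_x]
  unfold phi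
  rw [← h1, cj_pow]

/-- If an element of `Nx` moves the class of `x`, then so does an element centralising `E`. -/
theorem Level.exists_Y [Finite G] (B : Base x E) (L : Level x E U h) (X : Expo U k) {g : G}
    (hg : g ∈ Nx x U) (hg1 : phi x k g ≠ 1) :
    ∃ y ∈ Nx x U, (∀ e ∈ E, e * y = y * e) ∧ phi x k y ≠ 1 := by
  have hN := L.h_mem_Nx B
  have hcE := L.phi_mem B X hg
  set c := phi x k g with hc
  -- `a = g h g⁻¹`
  set a := g * h * g⁻¹ with ha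
  have haN : a ∈ Nx x U := (Nx x U).mul_mem ((Nx x U).mul_mem hg hN) ((Nx x U).inv_mem hg)
  have hgE : ∀ e ∈ E, g * e * g⁻¹ ∈ E := fun e he => L.conj_E B (fun u hu => Nx_U B hg hu) he
  have hgE' : ∀ e ∈ E, g⁻¹ * e * g ∈ E := fun e he => by
    have := L.conj_E B (fun u hu => Nx_U B ((Nx x U).inv_mem hg) hu) he
    rwa [inv_inv] at this
  have haE : ∀ e ∈ E, a * e * a⁻¹ ∈ E := fun e he => L.conj_E B (fun u hu => Nx_U B haN hu) he
  have hafix : ∀ e ∈ E, e ≠ 1 → a * e * a⁻¹ ≠ e := by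
    intro e he he1 hc1
    have h1 := hgE' e he
    have h2 : g⁻¹ * e * g ≠ 1 := by
      intro hc2
      apply he1
      have : e = g * (g⁻¹ * e * g) * g⁻¹ := by group
      rw [this, hc2]; group
    apply L.h3 _ h1 h2
    have h4 : h * (g⁻¹ * e * g) * h⁻¹ = g⁻¹ * (a * e * a⁻¹) * g := by rw [ha]; group
    rw [h4, hc1]
  -- phi of `a`
  have hphia : phi x k a = c * (a * c * a⁻¹) := by
    have h1 : phi x k (g * g⁻¹) = 1 := by
      rw [mul_inv_cancel]; exact phi_of_comm B (by group)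
    rw [L.phi_mul B hg ((Nx x U).inv_mem hg)] at h1
    have h2 : g * phi x k g⁻¹ * g⁻¹ = c := by
      rw [← hc, mul_eq_one_iff_inv_eq, B.inv_eq hcE] at h1
      exact h1.symm
    have h3 : phi x k (h * g⁻¹) = h * phi x k g⁻¹ * h⁻¹ := by
      rw [L.phi_mul B hN ((Nx x U).inv_mem hg), phi_of_comm B L.hx, one_mul]
    have h4 : phi x k a = phi x k (g * (h * g⁻¹)) := by rw [ha, mul_assoc]
    rw [h4, L.phi_mul B hg ((Nx x U).mul_mem hN ((Nx x U).inv_mem hg)), h3, ← hc]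
    congr 1
    have h5 : phi x k g⁻¹ = g⁻¹ * c * g := by rw [← h2]; group
    rw [h5, ha]; group
  have hphia1 : phi x k a ≠ 1 := by
    rw [hphia]
    intro hc1
    rw [mul_eq_one_iff_inv_eq, B.inv_eq hcE] at hc1
    exact hafix c hcE hg1 hc1.symm
  -- `a` acts on `E` as `h` or `h²`
  have m1 := L.cjE B 1 hcE
  have n1 : cj h 1 c ≠ 1 := fun hc1 => hg1 (cj_eq_one h 1 hc1)
  have c1 : cj h 1 c ≠ c := by
    have := L.h3 c hcE hg1
    rw [cj_succ, cj_zero]; exact this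
  have c12 : c * cj h 1 c ≠ 1 := fun hc1 => c1 (by
    rw [mul_eq_one_iff_inv_eq, B.inv_eq hcE] at hc1; exact hc1.symm)
  have mm := E.mul_mem hcE m1
  have amul : ∀ p q : G, a * (p * q) * a⁻¹ = (a * p * a⁻¹) * (a * q * a⁻¹) := fun p q => by group
  have hgen : ∀ b : G, (∀ p q : G, b * (p * q) * b⁻¹ = (b * p * b⁻¹) * (b * q * b⁻¹)) →
      b * c * b⁻¹ = c → b * cj h 1 c * b⁻¹ = cj h 1 c → ∀ e ∈ E, e * b = b * e := by
    intro b hbm hb1 hb2 e he
    have h1 : b * e * b⁻¹ = e := by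
      rcases B.mem_cases hcE m1 hg1 n1 c1.symm he with h1 | h1 | h1 | h1
      · rw [h1]; group
      · rw [h1, hb1]
      · rw [h1, hb2]
      · rw [h1, hbm, hb1, hb2]
    rw [mul_inv_eq_iff_eq_mul] at h1
    exact h1.symm
  have hi : ∃ i : ℕ, ∀ e ∈ E, e * ((h ^ i)⁻¹ * a) = ((h ^ i)⁻¹ * a) * e := by
    have hbm : ∀ b p q : G, b * (p * q) * b⁻¹ = (b * p * b⁻¹) * (b * q * b⁻¹) := fun b p q => by group
    have hconv : ∀ (i : ℕ) (p q : G), a * p * a⁻¹ = cj h i q →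
        ((h ^ i)⁻¹ * a) * p * ((h ^ i)⁻¹ * a)⁻¹ = q := by
      intro i p q hpq
      have h1 : ((h ^ i)⁻¹ * a) * p * ((h ^ i)⁻¹ * a)⁻¹ = (h ^ i)⁻¹ * (a * p * a⁻¹) * h ^ i := by group
      rw [h1, hpq]
      unfold cj; group
    have hac := haE c hcE
    rcases B.mem_cases hcE m1 hg1 n1 c1.symm hac with h1 | h1 | h1 | h1
    · exfalso
      apply hg1
      have h2 : c = a⁻¹ * (a * c * a⁻¹) * a := by group
      rw [h2, h1]; group
    · exact absurd h1 (hafix c hcE hg1)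
    · -- `a c = h c`
      refine ⟨1, hgen _ (hbm _) (hconv 1 c c h1) (hconv 1 _ _ ?_)⟩
      rw [cj_cj, show (1 : ℕ) + 1 = 2 by norm_num, L.cj_two B hcE]
      rcases B.mem_cases hcE m1 hg1 n1 c1.symm (haE _ m1) with h2 | h2 | h2 | h2
      · exfalso
        apply n1
        have h3 : cj h 1 c = a⁻¹ * (a * cj h 1 c * a⁻¹) * a := by group
        rw [h3, h2]; group
      · exfalso
        apply hafix _ mm c12
        rw [amul, h1, h2]
        exact B.commE m1 hcE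
      · exact absurd h2 (hafix _ m1 n1)
      · exact h2
    · -- `a c = h² c`
      refine ⟨2, hgen _ (hbm _) (hconv 2 c c (by rw [h1, L.cj_two B hcE])) (hconv 2 _ _ ?_)⟩
      rw [cj_cj, show (2 : ℕ) + 1 = 3 by norm_num, L.cj_three B hcE]
      rcases B.mem_cases hcE m1 hg1 n1 c1.symm (haE _ m1) with h2 | h2 | h2 | h2
      · exfalso
        apply n1
        have h3 : cj h 1 c = a⁻¹ * (a * cj h 1 c * a⁻¹) * a := by group
        rw [h3, h2]; group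
      · exact h2
      · exact absurd h2 (hafix _ m1 n1)
      · exfalso
        have h3 : cj h 1 c = c := by
          have h4 : cj h 1 c = a⁻¹ * (a * cj h 1 c * a⁻¹) * a := by group
          rw [h4, h2, ← h1]; group
        exact c1 h3
  obtain ⟨i, hi⟩ := hi
  have hiN : (h ^ i)⁻¹ ∈ Nx x U := (Nx x U).inv_mem ((Nx x U).pow_mem hN i)
  refine ⟨(h ^ i)⁻¹ * a, (Nx x U).mul_mem hiN haN, hi, ?_⟩
  have hcomm : (h ^ i)⁻¹ * x = x * (h ^ i)⁻¹ :=
    (((show Commute h x from L.hx).pow_left i).inv_left).eq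
  rw [L.phi_mul B hiN haN, phi_of_comm B hcomm, one_mul]
  intro hc1
  apply hphia1
  have h4 : phi x k a = h ^ i * ((h ^ i)⁻¹ * phi x k a * (h ^ i)⁻¹⁻¹) * (h ^ i)⁻¹ := by group
  rw [h4, hc1]; group

/-- If some element of `Y` (`h`-invariant) moves the class of `x` then `Y` is transitive on `xU`. -/
theorem Level.transOn [Finite G] (B : Base x E) (L : Level x E U h) (X : Expo U k) {Y : Subgroup G}
    (hUY : U ≤ Y) (hYN : Y ≤ Nx x U) (hh : ∀ y ∈ Y, h * y * h⁻¹ ∈ Y)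
    {g : G} (hg : g ∈ Y) (hg1 : phi x k g ≠ 1) : ∀ u ∈ U, ∃ g ∈ Y, g * x * g⁻¹ = x * u := by
  intro u hu
  have hdU := Nx_d B (hYN hg)
  have hex : ∃ g' ∈ Y, ∃ u' ∈ U, g' * x * g'⁻¹ = x * u' ∧ u' ^ 2 ^ k = u ^ 2 ^ k := by
    by_cases hu1 : u ^ 2 ^ k = 1
    · exact ⟨1, Y.one_mem, 1, U.one_mem, by group, by rw [one_pow, hu1]⟩
    · obtain ⟨n, hn⟩ := L.trans B (L.pi_mem X hdU) (L.pi_mem X hu) hg1 hu1
      refine ⟨cj h n g, cj_mem hh n hg, cj h n (x * (g * x * g⁻¹)), L.hU_pow n hdU, ?_, ?_⟩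
      · rw [cj_mul, L.cj_x, B.xx_mul, cj_mul, cj_mul, cj_inv, L.cj_x]
      · rw [cj_pow]; exact hn
  obtain ⟨g', hg', u', hu', hgu, huu⟩ := hex
  obtain ⟨w, hw, hw1⟩ := L.exists_conj B X hu' hu huu
  refine ⟨w * g', Y.mul_mem (hUY hw) hg', ?_⟩
  calc w * g' * x * (w * g')⁻¹ = w * (g' * x * g'⁻¹) * w⁻¹ := by group
    _ = x * u := by rw [hgu, hw1]

/-- The orbit of `x` under a subgroup of `Nx` is contained in `xU`. -/
theorem orbit_subset [Finite G] (B : Base x E) {Q : Subgroup G} (hQ : Q ≤ Nx x U) :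
    ({y | ∃ k ∈ Q, k * x * k⁻¹ = y} : Set G) ⊆ (fun u => x * u) '' (U : Set G) := by
  rintro _ ⟨g, hg, rfl⟩
  exact ⟨x * (g * x * g⁻¹), Nx_d B (hQ hg), by
    show x * (x * (g * x * g⁻¹)) = _
    rw [B.xx_mul]⟩

/-- The order of a 2-subgroup of `Nx ∩ C(E)`. -/
theorem card_le_of [Finite G] (B : Base x E) {Q : Subgroup G} (hQ : IsPGroup 2 Q) (hF : rr x E ≤ Q)
    (hN : Q ≤ Nx x U) (hE : ∀ q ∈ Q, ∀ e ∈ E, e * q = q * e) : Nat.card Q ≤ 8 * Nat.card U := by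
  rw [card_eq_ncard_orbit_mul Q x, mul_comm]
  apply Nat.mul_le_mul
  · have h1 : (Q ⊓ Subgroup.centralizer {x} : Subgroup G) = rr x E := by
      apply B.eq_rr (hQ.to_le inf_le_left)
        (le_inf hF (fun g hg => Subgroup.mem_centralizer_singleton_iff.2 (B.rr_comm hg).symm))
      · exact fun c hc => (Subgroup.mem_centralizer_singleton_iff.1 hc.2).symm
      · exact fun q hq e he => hE q hq.1 e he
    rw [h1, B.card_rr]
  · rw [← ncard_xU U x]
    exact Set.ncard_le_ncard (orbit_subset B hN) (Set.toFinite _)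

/-- A subgroup `P` of `Nx ∩ C(E)` which is a 2-group of order at least `8|U|` is transitive on `xU`. -/
theorem trans_of_card [Finite G] (B : Base x E) {Q : Subgroup G} (hQ : IsPGroup 2 Q) (hF : rr x E ≤ Q)
    (hN : Q ≤ Nx x U) (hE : ∀ q ∈ Q, ∀ e ∈ E, e * q = q * e) (hc : 8 * Nat.card U ≤ Nat.card Q) :
    ∀ u ∈ U, ∃ p ∈ Q, p * x * p⁻¹ = x * u := by
  have h0 : (Q ⊓ Subgroup.centralizer {x} : Subgroup G) = rr x E := by
    apply B.eq_rr (hQ.to_le inf_le_left)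
      (le_inf hF (fun g hg => Subgroup.mem_centralizer_singleton_iff.2 (B.rr_comm hg).symm))
    · exact fun c hc => (Subgroup.mem_centralizer_singleton_iff.1 hc.2).symm
    · exact fun q hq e he => hE q hq.1 e he
  have h1 : ({y | ∃ k ∈ Q, k * x * k⁻¹ = y} : Set G) = (fun u => x * u) '' (U : Set G) := by
    apply Set.eq_of_subset_of_ncard_le (orbit_subset B hN) _ (Set.toFinite _)
    rw [ncard_xU]
    have h2 := card_eq_ncard_orbit_mul Q x
    rw [h0, B.card_rr] at h2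
    omega
  intro u hu
  have h2 : x * u ∈ ({y | ∃ k ∈ Q, k * x * k⁻¹ = y} : Set G) := by
    rw [h1]; exact ⟨u, hu, rfl⟩
  exact h2

/-- `P` is a Sylow 2-subgroup of `Nx ∩ C(E)`, transitive on `xU`, and normalised by `T` and by `h`. -/
structure Stp (x : G) (E T U P : Subgroup G) (h : G) [Finite G] : Prop where
  level : Level x E U h
  two : IsPGroup 2 P
  nx : P ≤ Nx x U
  cE : ∀ p ∈ P, ∀ e ∈ E, e * p = p * e
  UP : U ≤ P
  xP : x ∈ P
  trans : ∀ u ∈ U, ∃ p ∈ P, p * x * p⁻¹ = x * u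
  hP : ∀ p ∈ P, h * p * h⁻¹ ∈ P
  tP : ∀ t ∈ T, ∀ p ∈ P, t * p * t⁻¹ ∈ P
  tU : ∀ t ∈ T, ∀ u ∈ U, t * u * t⁻¹ ∈ U
  max : ∀ Q : Subgroup G, IsPGroup 2 Q → P ≤ Q → Q ≤ Nx x U → (∀ q ∈ Q, ∀ e ∈ E, e * q = q * e) → Q = P
  card : Nat.card P = 8 * Nat.card U

theorem exists_stp [Finite G] (B : Base x E) (S : Syl x E T) (L : Level x E U h) (X : Expo U k)
    (tU : ∀ t ∈ T, ∀ u ∈ U, t * u * t⁻¹ ∈ U) {g : G} (hg : g ∈ Nx x U) (hg1 : phi x k g ≠ 1) :
    ∃ (P : Subgroup G) (h' : G), Stp x E T U P h' ∧ (∀ e ∈ E, h' * e * h'⁻¹ = h * e * h⁻¹) := by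
  have : Fact (Nat.Prime 2) := ⟨Nat.prime_two⟩
  obtain ⟨y0, hy0, hy0E, hy01⟩ := L.exists_Y B X hg hg1
  set Y : Subgroup G := Nx x U ⊓ Subgroup.centralizer (E : Set G) with hY
  have hYN : Y ≤ Nx x U := inf_le_left
  have hYE : ∀ y ∈ Y, ∀ e ∈ E, e * y = y * e := fun y hy e he => Subgroup.mem_centralizer_iff.1 hy.2 e he
  have hUY : U ≤ Y := le_inf (L.U_le_Nx B)
    (fun u hu => Subgroup.mem_centralizer_iff.2 (fun e he => L.comm e (L.le he) u hu))
  have hRY : rr x U ≤ Y := le_inf (L.rr_le_Nx B)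
    (fun u hu => Subgroup.mem_centralizer_iff.2 (fun e he => L.E_comm B he hu))
  -- elements of `Nx` normalise `Y`
  have hNY : ∀ n ∈ Nx x U, ∀ y ∈ Y, n * y * n⁻¹ ∈ Y := by
    intro n hn y hy
    refine ⟨(Nx x U).mul_mem ((Nx x U).mul_mem hn hy.1) ((Nx x U).inv_mem hn), ?_⟩
    show n * y * n⁻¹ ∈ Subgroup.centralizer (E : Set G)
    rw [Subgroup.mem_centralizer_iff]
    intro e he
    have h0 : n⁻¹ * e * n⁻¹⁻¹ ∈ E := L.conj_E B (fun u hu => Nx_U B ((Nx x U).inv_mem hn) hu) he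
    rw [inv_inv] at h0
    have h1 := hYE y hy _ h0
    calc e * (n * y * n⁻¹) = n * ((n⁻¹ * e * n) * y) * n⁻¹ := by group
      _ = n * (y * (n⁻¹ * e * n)) * n⁻¹ := by rw [h1]
      _ = n * y * n⁻¹ * e := by group
  have hhN := L.h_mem_Nx B
  have hy0Y : y0 ∈ Y := ⟨hy0, Subgroup.mem_centralizer_iff.2 hy0E⟩
  have htr := L.transOn B X hUY hYN (fun y hy => hNY h hhN y hy) hy0Y hy01
  have hTN : T ≤ Nx x U := fun t ht => mem_Nx_of_comm B (tU t ht) (S.cx t ht)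
  -- `8 |U|` divides `|Y|`
  obtain ⟨n, hn⟩ := IsPGroup.iff_card.mp L.pgroup
  have horb : ({y | ∃ k ∈ Y, k * x * k⁻¹ = y} : Set G) = (fun u => x * u) '' (U : Set G) := by
    apply Set.Subset.antisymm (orbit_subset B hYN)
    rintro _ ⟨u, hu, rfl⟩
    exact htr u hu
  have hcY : Nat.card Y = Nat.card U * Nat.card (Y ⊓ Subgroup.centralizer {x} : Subgroup G) := by
    rw [card_eq_ncard_orbit_mul Y x, horb, ncard_xU]
  have hFY : rr x E ≤ Y := (rr_mono L.le).trans hRY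
  have h8 : 8 ∣ Nat.card (Y ⊓ Subgroup.centralizer {x} : Subgroup G) := by
    rw [← B.card_rr]
    apply Subgroup.card_dvd_of_le
    exact le_inf hFY (fun g hg => Subgroup.mem_centralizer_singleton_iff.2 (B.rr_comm hg).symm)
  have hdvd : 2 ^ (n + 3) ∣ Nat.card Y := by
    rw [hcY, pow_add, hn]
    exact Nat.mul_dvd_mul_left _ h8
  obtain ⟨Q, hQ⟩ := Sylow.exists_subgroup_card_pow_prime 2 hdvd
  have hcQ : Nat.card (Q.map Y.subtype) = 2 ^ (n + 3) := by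
    rw [← hQ]
    exact Nat.card_congr (Q.equivMapOfInjective _ Y.subtype_injective).symm.toEquiv
  have hQ2 : IsPGroup 2 (Q.map Y.subtype) := IsPGroup.of_card hcQ
  have hQY : Q.map Y.subtype ≤ Y := by
    rintro _ ⟨g, _, rfl⟩; exact g.2
  -- the group `U T`
  have hUT2 : IsPGroup 2 (U ⊔ T : Subgroup G) := by
    apply L.pgroup.to_sup_of_normal_left' S.two
    intro t ht
    rw [Subgroup.mem_normalizer_iff]
    intro u
    refine ⟨tU t ht u, fun hu => ?_⟩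
    have h1 := tU t⁻¹ (T.inv_mem ht) _ hu
    have h2 : t⁻¹ * (t * u * t⁻¹) * t⁻¹⁻¹ = u := by group
    rwa [h2] at h1
  have hUTN : (U ⊔ T : Subgroup G) ≤ Nx x U := sup_le (L.U_le_Nx B) hTN
  -- a Sylow 2-subgroup of `Nx` containing `U T`
  obtain ⟨Ps, hPs⟩ := (hUT2.comap_of_injective (Nx x U).subtype (Nx x U).subtype_injective).exists_le_sylow
  set R : Subgroup G := (Ps : Subgroup (Nx x U)).map (Nx x U).subtype with hR
  have hRN : R ≤ Nx x U := by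
    rintro _ ⟨g, _, rfl⟩; exact g.2
  have hR2 : IsPGroup 2 R := Ps.isPGroup'.map _
  have hUTR : (U ⊔ T : Subgroup G) ≤ R := by
    intro g hg
    exact ⟨⟨g, hUTN hg⟩, hPs (Subgroup.mem_comap.2 hg), rfl⟩
  have hRmax : ∀ K : Subgroup G, IsPGroup 2 K → R ≤ K → K ≤ Nx x U → K = R := by
    intro K hK hRK hKN
    have h1 : IsPGroup 2 (K.subgroupOf (Nx x U)) := hK.comap_of_injective _ (Nx x U).subtype_injective
    have h2 : (Ps : Subgroup (Nx x U)) ≤ K.subgroupOf (Nx x U) := by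
      intro g hg
      exact Subgroup.mem_subgroupOf.2 (hRK ⟨g, hg, rfl⟩)
    have h3 := Ps.is_maximal' h1 h2
    rw [hR, ← h3, Subgroup.map_subgroupOf_eq_of_le hKN]
  obtain ⟨m, hm, hmQ⟩ := exists_conj_le hRN (hQY.trans hYN) hR2 hQ2 hRmax
  set P : Subgroup G := R ⊓ Subgroup.centralizer (E : Set G) with hP
  have hPR : P ≤ R := inf_le_left
  have hPY : P ≤ Y := le_inf (hPR.trans hRN) inf_le_right
  have hP2 : IsPGroup 2 P := hR2.to_le hPR
  have hPcard : 8 * Nat.card U ≤ Nat.card P := by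
    have h1 : (Q.map Y.subtype).map (MulAut.conj m).toMonoidHom ≤ P := by
      rintro _ ⟨q, hq, rfl⟩
      simp only [MulEquiv.coe_toMonoidHom, MulAut.conj_apply]
      exact ⟨hmQ q hq, (hNY m hm q (hQY hq)).2⟩
    have h2 : Nat.card ((Q.map Y.subtype).map (MulAut.conj m).toMonoidHom) = 2 ^ (n + 3) := by
      rw [← hcQ]
      exact Nat.card_congr (((Q.map Y.subtype).equivMapOfInjective _ (MulAut.conj m).injective).symm.toEquiv)
    have h3 := Subgroup.card_le_of_le h1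
    rw [h2, pow_add, ← hn] at h3
    omega
  have hFP : rr x E ≤ P := by
    refine le_inf (le_trans ?_ hUTR) (hFY.trans inf_le_right)
    exact sup_le (L.le.trans le_sup_left) (by
      rw [Subgroup.zpowers_le]; exact Subgroup.mem_sup_right S.xT)
  have hPE : ∀ p ∈ P, ∀ e ∈ E, e * p = p * e := fun p hp => hYE p (hPY hp)
  have hPtr := trans_of_card B hP2 hFP (hPY.trans hYN) hPE hPcard
  have hPmax : ∀ Q : Subgroup G, IsPGroup 2 Q → P ≤ Q → Q ≤ Nx x U →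
      (∀ q ∈ Q, ∀ e ∈ E, e * q = q * e) → Q = P := by
    intro K hK hPK hKN hKE
    symm
    apply Subgroup.eq_of_le_of_card_ge hPK
    exact (card_le_of B hK (hFP.trans hPK) hKN hKE).trans hPcard
  have htP : ∀ t ∈ T, ∀ p ∈ P, t * p * t⁻¹ ∈ P := by
    intro t ht p hp
    have htR : t ∈ R := hUTR (Subgroup.mem_sup_right ht)
    exact ⟨R.mul_mem (R.mul_mem htR hp.1) (R.inv_mem htR), (hNY t (hTN ht) p (hPY hp)).2⟩
  have hUP : U ≤ P := le_inf (le_sup_left.trans hUTR) (hUY.trans inf_le_right)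
  -- the new `h`
  have hQ' : IsPGroup 2 (P.map (MulAut.conj h).toMonoidHom) := hP2.map _
  have hQY' : P.map (MulAut.conj h).toMonoidHom ≤ Y := by
    rintro _ ⟨p, hp, rfl⟩
    simp only [MulEquiv.coe_toMonoidHom, MulAut.conj_apply]
    exact hNY h hhN p (hPY hp)
  obtain ⟨y, hy, hyP⟩ := exists_conj_le hPY hQY' hP2 hQ'
    (fun K hK hPK hKY => hPmax K hK hPK (hKY.trans hYN) (fun q hq => hYE q (hKY hq)))
  have hyP' : ∀ p ∈ P, (y * h) * p * (y * h)⁻¹ ∈ P := by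
    intro p hp
    have h1 := hyP _ ⟨p, hp, rfl⟩
    simp only [MulEquiv.coe_toMonoidHom, MulAut.conj_apply] at h1
    have h2 : y * (h * p * h⁻¹) * y⁻¹ = (y * h) * p * (y * h)⁻¹ := by group
    rwa [h2] at h1
  obtain ⟨p0, hp0, hp0u⟩ := hPtr _ (Nx_d B (hYN hy))
  rw [B.xx_mul] at hp0u
  have hp0Y := hPY hp0
  have hxy : (y * h) * x * (y * h)⁻¹ = y * x * y⁻¹ := by
    calc (y * h) * x * (y * h)⁻¹ = y * (h * x) * h⁻¹ * y⁻¹ := by group
      _ = y * (x * h) * h⁻¹ * y⁻¹ := by rw [L.hx]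
      _ = y * x * y⁻¹ := by group
  have hx' : (p0⁻¹ * y * h) * x = x * (p0⁻¹ * y * h) := by
    have h1 : (p0⁻¹ * y * h) * x * (p0⁻¹ * y * h)⁻¹ = x := by
      calc (p0⁻¹ * y * h) * x * (p0⁻¹ * y * h)⁻¹ = p0⁻¹ * ((y * h) * x * (y * h)⁻¹) * p0 := by group
        _ = p0⁻¹ * (p0 * x * p0⁻¹) * p0 := by rw [hxy, hp0u]
        _ = x := by group
    rwa [mul_inv_eq_iff_eq_mul] at h1
  have hact : ∀ e ∈ E, (p0⁻¹ * y * h) * e * (p0⁻¹ * y * h)⁻¹ = h * e * h⁻¹ := by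
    intro e he
    have h1 : h * e * h⁻¹ ∈ E := L.hE B he
    have h2 := hYE y hy _ h1
    have h3 := hYE p0 hp0Y _ h1
    calc (p0⁻¹ * y * h) * e * (p0⁻¹ * y * h)⁻¹ = p0⁻¹ * (y * (h * e * h⁻¹)) * y⁻¹ * p0 := by group
      _ = p0⁻¹ * ((h * e * h⁻¹) * y) * y⁻¹ * p0 := by rw [← h2]
      _ = p0⁻¹ * ((h * e * h⁻¹) * p0) := by group
      _ = p0⁻¹ * (p0 * (h * e * h⁻¹)) := by rw [h3]
      _ = h * e * h⁻¹ := by group
  refine ⟨P, p0⁻¹ * y * h, ⟨?_, hP2, hPY.trans hYN, hPE, hUP, hFP (self_mem_rr x E), hPtr, ?_, htP, tU,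
    hPmax, le_antisymm (card_le_of B hP2 hFP (hPY.trans hYN) hPE) hPcard⟩, hact⟩
  · refine ⟨L.le, L.comm, L.pgroup, L.inv, L.omega, hx', ?_, ?_⟩
    · intro u hu
      exact Nx_U B ((Nx x U).mul_mem ((Nx x U).mul_mem ((Nx x U).inv_mem (hYN hp0Y)) (hYN hy)) hhN) hu
    · intro e he he1
      rw [hact e he]
      exact L.h3 e he he1
  · intro p hp
    have h1 : (p0⁻¹ * y * h) * p * (p0⁻¹ * y * h)⁻¹ = p0⁻¹ * ((y * h) * p * (y * h)⁻¹) * p0 := by group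
    rw [h1]
    exact P.mul_mem (P.mul_mem (P.inv_mem hp0) (hyP' p hp)) hp0

end Cfsg.Agent.GH.N2
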