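import Cfsg.Agent.GH.N2.Start

/-!
# GH-L2, `|Q| = 2`, `|D| = 4`, `T = 2 × D8`: level `k = 0` without a further level
-/

set_option autoImplicit false
set_option linter.unusedSectionVars false

universe u

namespace Cfsg.Agent.GH.N2

open Cfsg.Agent.GH.E (rr self_mem_rr le_rr rr_mono cj cj_mul cj_inv cj_one cj_zero cj_cj cj_injective
  cj_eq_one cj_succ cj_mem Expo pow_two_pow_succ pow_two_pow_succ' conj_pow' phi card_eq_ncard_orbit_mul
  exists_conj_le exists_pow_eq_inv exists_sylow_eq lt_inf_normalizer)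

variable {G : Type u} [Group G] {x h : G} {E T U P V : Subgroup G} {k : ℕ}

/-- The elementary abelian subgroup of order 16. -/
structure El (x : G) (E T V : Subgroup G) (h : G) : Prop where
  card : Nat.card V = 16
  sq : ∀ v ∈ V, v * v = 1
  le : E ≤ V
  nx : ∀ v ∈ V, x * v * x⁻¹ ∈ V
  nT : ∀ t ∈ T, ∀ v ∈ V, t * v * t⁻¹ ∈ V
  nh : ∀ v ∈ V, h * v * h⁻¹ ∈ V
  cx : ∀ v ∈ V, x * v = v * x → v ∈ E
  hx : h * x = x * h
  hE : ∀ e ∈ E, h * e * h⁻¹ ∈ E
  h3 : ∀ e ∈ E, e ≠ 1 → h * e * h⁻¹ ≠ e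
  surj : ∀ e ∈ E, ∃ v ∈ V, x * (v * x * v⁻¹) = e

theorem El.comm (A : El x E T V h) {v w : G} (hv : v ∈ V) (hw : w ∈ V) : v * w = w * v := by
  have h1 : ∀ v ∈ V, v⁻¹ = v := fun v hv => inv_eq_iff_mul_eq_one.mpr (A.sq v hv)
  have h2 := h1 _ (V.mul_mem hv hw)
  rw [mul_inv_rev, h1 v hv, h1 w hw] at h2
  exact h2.symm

section

variable [Finite G]

/-- In case (β) with `k = 0` and `T = 2 × D8`, `V` is elementary abelian of order 16. -/
theorem VV.el (B : Base x E) (S : Syl x E T) (A : VV x E T E P V h) (X : Expo E 0)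
    (hβ : ∀ y ∈ V, y ∉ E → x * y * x⁻¹ ≠ y⁻¹) {t0 : G} (ht0 : t0 ∈ T) (ht0F : t0 ∉ rr x E) :
    El x E T V h := by
  have L := A.stp.level
  have hab : ∀ v ∈ V, ∀ w ∈ V, v * w = w * v := by
    intro v hv w hw
    have h1 := A.bb_eq_one B X hv hw
    unfold bb at h1
    rw [pow_zero, pow_one, mul_inv_eq_one, mul_inv_eq_iff_eq_mul] at h1
    exact h1
  have hphi : ∀ v, phi x 0 v = x * (v * x * v⁻¹) := fun v => by unfold phi; rw [pow_zero, pow_one]
  obtain ⟨e0, he0, hne⟩ := S.moves B ht0 ht0F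
  have hf0 := S.nE t0 ht0 e0 he0
  have hsw := S.swap B ht0 he0 hne
  set z := e0 * (t0 * e0 * t0⁻¹) with hz
  have hzE : z ∈ E := E.mul_mem he0 hf0
  have hz1 : z ≠ 1 := fun hc => hne (by
    rw [hz, mul_eq_one_iff_inv_eq, B.inv_eq he0] at hc; exact hc.symm)
  have hzt : t0 * z * t0⁻¹ = z := by
    calc t0 * z * t0⁻¹ = (t0 * e0 * t0⁻¹) * (t0 * (t0 * e0 * t0⁻¹) * t0⁻¹) := by rw [hz]; group
      _ = (t0 * e0 * t0⁻¹) * e0 := by rw [hsw]
      _ = z := B.commE hf0 he0
  obtain ⟨v, hv, hvz⟩ := A.phi_surj B X hzE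
  have hvE : v ∉ E := fun hc => hz1 (by rw [← hvz]; exact L.phi_U B X hc)
  have hsqE : ∀ w ∈ V, w * w ∈ E := fun w hw => A.stp.sq_mem B X (A.le hw)
  have ht0N : t0 ∈ Nx x E := mem_Nx_of_comm B (S.nE t0 ht0) (S.cx t0 ht0)
  -- `v² = 1`
  have hv2 : v * v = 1 := by
    have h1 : phi x 0 (t0 * v * t0⁻¹) = phi x 0 v := by
      rw [A.stp.phi_conj B X ht0N (A.le hv), hvz, hzt]
    have hvt : t0 * v * t0⁻¹ ∈ V := A.nT B S X ht0 hv
    have h2 := A.eq_mul B X hv hvt h1.symm
    have h3 : (t0 * v * t0⁻¹) * (t0 * v * t0⁻¹) = v * v := by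
      have h4 : t0 * v * t0⁻¹ = v * (v⁻¹ * (t0 * v * t0⁻¹)) := by group
      set e := v⁻¹ * (t0 * v * t0⁻¹) with he
      have h5 := hab e (A.U_le h2) v hv
      rw [h4]
      calc v * e * (v * e) = v * (e * v) * e := by group
        _ = v * (v * e) * e := by rw [h5]
        _ = v * v * (e * e) := by group
        _ = v * v := by rw [B.sq e h2, mul_one]
    rcases B.fix_cases he0 hf0 hne (hsqE v hv) (by
      have : t0 * (v * v) * t0⁻¹ = (t0 * v * t0⁻¹) * (t0 * v * t0⁻¹) := by group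
      rw [this, h3]) with h5 | h5
    · exact h5
    · exfalso
      apply hβ v hv hvE
      -- `x v x⁻¹ = z v`
      rw [hphi] at hvz
      rw [← hz] at h5
      have h6 : x * v * x⁻¹ = z * v := by
        rw [B.inv_x]
        calc x * v * x = (x * (v * x * v⁻¹)) * v := by group
          _ = z * v := by rw [hvz]
      have h7 : z * z = 1 := B.sq z hzE
      rw [h6, ← h5]
      rw [← h5] at h7
      calc v * v * v = (v * v * (v * v)) * v⁻¹ := by group
        _ = v⁻¹ := by rw [h7, one_mul]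
  have hvn : ∀ n, cj h n v * cj h n v = 1 := fun n => by rw [← cj_mul, hv2, cj_one]
  have hmul2 : ∀ a ∈ V, ∀ b ∈ V, a * a = 1 → b * b = 1 → a * b * (a * b) = 1 := by
    intro a ha b hb ha2 hb2
    have h5 := hab b hb a ha
    calc a * b * (a * b) = a * (b * a) * b := by group
      _ = a * (a * b) * b := by rw [h5]
      _ = (a * a) * (b * b) := by group
      _ = 1 := by rw [ha2, hb2, one_mul]
  have hphi1 : phi x 0 v ≠ 1 := by rw [hvz]; exact hz1
  refine ⟨?_, ?_, A.U_le, fun w hw => A.nP B X A.stp.xP hw, fun t ht w hw => A.nT B S X ht hw, A.hV, ?_,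
    L.hx, L.hU, L.h3, ?_⟩
  · rw [A.card B X, B.card]
  · intro w hw
    rcases A.cases B X hv hphi1 hw with ⟨u, hu, rfl⟩ | ⟨u, hu, rfl⟩ | ⟨u, hu, rfl⟩ | ⟨u, hu, rfl⟩
    · exact B.sq _ hu
    · exact hmul2 _ hv _ (A.U_le hu) hv2 (B.sq u hu)
    · exact hmul2 _ (A.cjV 1 hv) _ (A.U_le hu) (hvn 1) (B.sq u hu)
    · exact hmul2 _ (V.mul_mem hv (A.cjV 1 hv)) _ (A.U_le hu)
        (hmul2 _ hv _ (A.cjV 1 hv) hv2 (hvn 1)) (B.sq u hu)
  · intro w hw hxw
    exact A.U_of_phi B X hw (phi_of_comm B hxw.symm)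
  · intro e he
    obtain ⟨w, hw, hwe⟩ := A.phi_surj B X he
    exact ⟨w, hw, by rw [← hphi]; exact hwe⟩

/-- The data of the type of `A₈`, `PSp₄(3)`. -/
theorem El.data (B : Base x E) (S : Syl x E T) (A : El x E T V h) {t : G} (ht : t ∈ T)
    (htF : t ∉ rr x E) (ht2 : t * t = 1) :
    ∃ b ∈ V, b * b = 1 ∧ b * (x * b * x⁻¹) = (x * b * x⁻¹) * b ∧ b * (t * b * t⁻¹) = (t * b * t⁻¹) * b ∧
      b * (x * t * b * (x * t)⁻¹) = (x * t * b * (x * t)⁻¹) * b ∧
      Subgroup.closure {b, x, t} = V ⊔ T ∧ Nat.card (V ⊔ T : Subgroup G) = 64 := by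
  obtain ⟨e0, he0, hne⟩ := S.moves B ht htF
  have hf0 := S.nE t ht e0 he0
  have he01 : e0 ≠ 1 := by
    rintro rfl
    exact hne (by group)
  have hf01 : t * e0 * t⁻¹ ≠ 1 := by
    intro hc
    apply he01
    have : e0 = t⁻¹ * (t * e0 * t⁻¹) * t := by group
    rw [this, hc]; group
  obtain ⟨b, hb, hbe⟩ := A.surj e0 he0
  have hTle : T ≤ V ⊔ T := le_sup_right
  have hVle : V ≤ V ⊔ T := le_sup_left
  have hbx := A.nx b hb
  have hbt := A.nT t ht b hb
  have hbxt : x * t * b * (x * t)⁻¹ ∈ V := by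
    have h1 : x * t * b * (x * t)⁻¹ = x * (t * b * t⁻¹) * x⁻¹ := by group
    rw [h1]; exact A.nx _ hbt
  have hxt := S.cx t ht
  refine ⟨b, hb, A.sq b hb, A.comm hb hbx, A.comm hb hbt, A.comm hb hbxt, ?_, ?_⟩
  · apply le_antisymm
    · rw [Subgroup.closure_le]
      rintro y (rfl | rfl | rfl)
      · exact hVle hb
      · exact hTle S.xT
      · exact hTle ht
    · set C := Subgroup.closure {b, x, t} with hC
      have mb : b ∈ C := Subgroup.subset_closure (by simp)
      have mx : x ∈ C := Subgroup.subset_closure (by simp)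
      have mt : t ∈ C := Subgroup.subset_closure (by simp)
      have h5 : e0 ∈ C := by
        rw [← hbe]
        exact C.mul_mem mx (C.mul_mem (C.mul_mem mb mx) (C.inv_mem mb))
      have h6 : t * e0 * t⁻¹ ∈ C := C.mul_mem (C.mul_mem mt h5) (C.inv_mem mt)
      have hEC : ∀ e ∈ E, e ∈ C := by
        intro e he
        rcases B.mem_cases he0 hf0 he01 hf01 hne.symm he with h7 | h7 | h7 | h7
        · rw [h7]; exact C.one_mem
        · rw [h7]; exact h5
        · rw [h7]; exact h6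
        · rw [h7]; exact C.mul_mem h5 h6
      -- the map `v ↦ [x, v]`
      set f : G → G := fun v => x * (v * x * v⁻¹) with hf
      have hfE : ∀ v ∈ V, f v ∈ E := by
        intro v hv
        have h7 : f v = (x * v * x⁻¹) * v⁻¹ := by
          show x * (v * x * v⁻¹) = (x * v * x⁻¹) * v⁻¹
          rw [B.inv_x]; group
        have h8 : f v ∈ V := by rw [h7]; exact V.mul_mem (A.nx v hv) (V.inv_mem hv)
        apply A.cx _ h8
        have h9 : x * f v * x⁻¹ = (f v)⁻¹ := by
          show x * (x * (v * x * v⁻¹)) * x⁻¹ = (x * (v * x * v⁻¹))⁻¹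
          rw [B.xx_mul, mul_inv_rev]
          congr 1
          have : (v * x * v⁻¹)⁻¹ = v * x⁻¹ * v⁻¹ := by group
          rw [this, B.inv_x]
        have h10 : (f v)⁻¹ = f v := inv_eq_iff_mul_eq_one.mpr (A.sq _ h8)
        rw [h10, mul_inv_eq_iff_eq_mul] at h9
        exact h9
      have hfeq : ∀ v ∈ V, ∀ w ∈ V, w ∈ C → f v = f w → v ∈ C := by
        intro v hv w hw hwC hvw
        have h7 : v⁻¹ * w ∈ E := by
          apply A.cx _ (V.mul_mem (V.inv_mem hv) hw)
          have h8 : v * x * v⁻¹ = w * x * w⁻¹ := mul_left_cancel hvw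
          calc x * (v⁻¹ * w) = v⁻¹ * (v * x * v⁻¹) * w := by group
            _ = v⁻¹ * (w * x * w⁻¹) * w := by rw [h8]
            _ = v⁻¹ * w * x := by group
        have h8 := C.mul_mem hwC (C.inv_mem (hEC _ h7))
        have h9 : w * (v⁻¹ * w)⁻¹ = v := by group
        rwa [h9] at h8
      have hft : f (t * b * t⁻¹) = t * e0 * t⁻¹ := by
        show x * (t * b * t⁻¹ * x * (t * b * t⁻¹)⁻¹) = _
        have h7 : t⁻¹ * x = x * t⁻¹ := ((show Commute t x from hxt.symm).inv_left).eq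
        calc x * (t * b * t⁻¹ * x * (t * b * t⁻¹)⁻¹) = (x * t) * b * (t⁻¹ * x) * t * b⁻¹ * t⁻¹ := by group
          _ = (t * x) * b * (x * t⁻¹) * t * b⁻¹ * t⁻¹ := by rw [h7, hxt]
          _ = t * (x * (b * x * b⁻¹)) * t⁻¹ := by group
          _ = t * e0 * t⁻¹ := by rw [hbe]
      have hfmul : ∀ v ∈ V, ∀ w ∈ V, f (v * w) = f v * f w := by
        intro v hv w hw
        have h7 := hfE w hw
        have h8 : v * f w = f w * v := A.comm hv (A.le h7)
        show x * (v * w * x * (v * w)⁻¹) = (x * (v * x * v⁻¹)) * f w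
        have h9 : x * (v * w * x * (v * w)⁻¹) = x * (v * (x * x) * (w * x * w⁻¹) * v⁻¹) := by
          rw [B.hx]; group
        rw [h9]
        calc x * (v * (x * x) * (w * x * w⁻¹) * v⁻¹) = x * (v * x * f w * v⁻¹) := by
              show _ = x * (v * x * (x * (w * x * w⁻¹)) * v⁻¹)
              group
          _ = x * (v * x * v⁻¹ * (v * f w * v⁻¹)) := by group
          _ = x * (v * x * v⁻¹ * f w) := by rw [h8, mul_inv_cancel_right]
          _ = (x * (v * x * v⁻¹)) * f w := by group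
      have hVC : V ≤ C := by
        intro v hv
        have mbt : t * b * t⁻¹ ∈ C := C.mul_mem (C.mul_mem mt mb) (C.inv_mem mt)
        rcases B.mem_cases he0 hf0 he01 hf01 hne.symm (hfE v hv) with h7 | h7 | h7 | h7
        · refine hfeq v hv 1 V.one_mem C.one_mem ?_
          rw [h7]
          show 1 = x * (1 * x * 1⁻¹)
          rw [one_mul, inv_one, mul_one, B.hx]
        · exact hfeq v hv b hb mb (by rw [h7]; exact hbe.symm)
        · exact hfeq v hv _ hbt mbt (by rw [h7, hft])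
        · refine hfeq v hv _ (V.mul_mem hb hbt) (C.mul_mem mb mbt) ?_
          rw [h7, hfmul b hb _ hbt, hft]
          show _ = (x * (b * x * b⁻¹)) * _
          rw [hbe]
      refine sup_le hVC ?_
      have hFC : rr x E ≤ C := sup_le (fun e he => hEC e he) (by rw [Subgroup.zpowers_le]; exact mx)
      intro s hs
      by_cases hsF : s ∈ rr x E
      · exact hFC hsF
      · have h5 := hFC (S.mem_F_of_notMem B hs ht hsF htF)
        have h6 := C.mul_mem h5 (C.inv_mem mt)
        rwa [mul_inv_cancel_right] at h6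
  · have hxV : x ∉ V := fun hc => B.hxE (A.cx x hc rfl)
    have hmemV : ∀ {g : G}, g ∈ rr x V ↔ g ∈ V ∨ x * g ∈ V := fun {g} =>
      Cfsg.Agent.GH.E.mem_rr B.hx A.nx
    have hsup : (V ⊔ T : Subgroup G) = rr t (rr x V) := by
      apply le_antisymm
      · refine sup_le ((le_rr x V).trans (le_rr t _)) ?_
        intro s hs
        by_cases hsF : s ∈ rr x E
        · exact le_rr t _ (rr_mono A.le hsF)
        · have h5 := le_rr t _ (rr_mono A.le (S.mem_F_of_notMem B hs ht hsF htF))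
          have h6 := Subgroup.mul_mem _ h5 (Subgroup.inv_mem _ (self_mem_rr t (rr x V)))
          rwa [mul_inv_cancel_right] at h6
      · refine sup_le (sup_le hVle (by rw [Subgroup.zpowers_le]; exact hTle S.xT)) ?_
        rw [Subgroup.zpowers_le]; exact hTle ht
    have htn : ∀ u ∈ rr x V, t * u * t⁻¹ ∈ rr x V := by
      intro u hu
      rcases hmemV.1 hu with h5 | h5
      · exact le_rr x V (A.nT t ht u h5)
      · apply hmemV.2
        right
        have h6 : x * (t * u * t⁻¹) = t * (x * u) * t⁻¹ := by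
          calc x * (t * u * t⁻¹) = (x * t) * u * t⁻¹ := by group
            _ = (t * x) * u * t⁻¹ := by rw [hxt]
            _ = t * (x * u) * t⁻¹ := by group
        rw [h6]; exact A.nT t ht _ h5
    have htnot : t ∉ rr x V := by
      intro hc
      apply hne
      have h7 : t * e0 = e0 * t := by
        rcases hmemV.1 hc with h5 | h5
        · exact A.comm h5 (A.le he0)
        · have h6 := A.comm h5 (A.le he0)
          have h8 := B.comm e0 he0
          calc t * e0 = x * (x * t * e0) := by rw [← mul_assoc, ← mul_assoc, B.hx, one_mul]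
            _ = x * (e0 * (x * t)) := by rw [h6]
            _ = (x * e0) * (x * t) := by group
            _ = (e0 * x) * (x * t) := by rw [h8]
            _ = e0 * (x * x) * t := by group
            _ = e0 * t := by rw [B.hx, mul_one]
      rw [h7, mul_inv_cancel_right]
    rw [hsup, Cfsg.Agent.GH.E.card_rr ht2 htn htnot, Cfsg.Agent.GH.E.card_rr B.hx A.nx hxV, A.card]

end

end Cfsg.Agent.GH.N2
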